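import Cfsg.Agent.Lib.Spor.Ly.GKPerm
import Cfsg.Agent.Lib.Spor.Ly.GKCls0
import Cfsg.Agent.Lib.Spor.Ly.GKCls1
import Cfsg.Agent.Lib.Spor.Ly.GKCls2
import Cfsg.Agent.Lib.Spor.Ly.GKCls3
import Cfsg.Agent.Lib.Spor.Ly.GKCls4

/-!
Double coset enumeration (generated data).
-/

namespace CfsgLib.Spor.Ly.GK

open CfsgLib.PresCert CfsgLib.DCE

/-- the base -/
def base : List Nat := [0, 2, 4, 1]

/-- the edge elements -/
def edges : List Edge :=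
  [⟨3906, [[4],
  [1, 4, 0],
  [3, 4, 2],
  [2, 4, 3],
  [5, 1, 5, 0, 4, 1, 4, 0],
  [0],
  [2, 0, 3],
  [2, 2, 0, 3, 3]], [[1, 1, 3, 1, 2, 5, 3, 0, 5, 2, 0, 0],
  [1, 3, 3, 0, 4, 1, 2, 4, 2, 0],
  [1, 1, 3, 1, 4, 0, 2, 0, 0],
  [1, 3, 1, 2, 4, 3, 0, 2, 0],
  [1, 2, 2, 1, 3, 4, 2, 0, 4, 3, 3, 5, 0],
  [1, 1, 1],
  [1, 2, 1, 3, 1],
  [2, 2, 0, 3, 3]]⟩]

/-- the setup -/
noncomputable def S : Setup where
  P := P
  base := base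
  edges := edges
  lets := [(0, [])]
  linv := [1, 0, 3, 2, 5, 4, 7, 6, 8]
  rels := [[8, 1, 8, 1, 1, 1],
  [3, 3, 0, 2, 2, 8, 1, 3, 3, 0, 2, 2, 8, 1, 3, 3, 0, 2, 2, 8, 0],
  [5, 7, 1, 5, 1, 2, 5, 7, 8, 1, 1, 6, 3, 5, 1, 2, 5, 7, 2, 5, 3, 1, 5, 0, 3, 0, 2, 0, 3, 8, 1, 1, 5, 7, 0, 5, 3, 0, 5, 7, 1, 5, 0, 4, 3, 3, 5, 3, 1, 3, 3, 8, 1],
  [0, 8, 7, 0, 8, 1, 5, 7, 2, 1, 3, 5, 7, 2, 1, 3, 5, 3, 0, 3, 3, 0, 3, 8, 1, 6, 8, 2, 1, 2, 2, 1, 2, 2, 5, 0, 4, 2, 4, 3, 6, 4, 3, 3, 6, 4, 2, 4],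
  [8, 1, 2, 0, 3, 1, 3, 3, 1, 3, 4, 2, 2, 4, 2, 6, 4, 3, 3, 6, 4, 2, 4, 8, 3, 3, 1, 4, 2, 5, 2, 1, 5, 5, 6, 4, 0, 4, 1, 4, 3, 7, 0, 8, 5, 3, 5, 7, 2, 2, 5, 7, 3, 5, 3, 3, 5, 2, 0, 2, 2, 0, 2, 1, 3, 0, 8, 7, 0, 4, 2, 4, 1, 5, 7, 0, 3, 1, 4, 1, 3, 3, 1, 2, 1],
  [8, 1, 2, 6, 8, 1, 2, 2, 1, 3, 1, 2, 2, 5, 0, 4, 1, 5, 6, 5, 2, 2, 1, 4, 2, 0, 8, 7, 3, 0, 8, 5, 1, 4, 2, 5, 7, 4, 1, 4, 0, 4, 3, 1, 3, 1, 2],
  [0, 0, 0, 8, 0, 8],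
  [1, 8, 3, 3, 1, 2, 2, 0, 8, 3, 3, 1, 2, 2, 0, 8, 3, 3, 1, 2, 2],
  [0, 8, 2, 2, 0, 2, 4, 2, 2, 5, 1, 4, 0, 6, 4, 1, 2, 4, 1, 6, 4, 0, 0, 8, 2, 1, 3, 1, 2, 1, 4, 0, 2, 4, 3, 6, 4, 3, 0, 4, 2, 7, 0, 0, 8, 6, 4, 3, 0, 4, 0, 6, 4],
  [5, 3, 5, 7, 2, 2, 5, 7, 2, 5, 3, 5, 1, 4, 3, 3, 0, 3, 3, 0, 3, 8, 7, 0, 8, 2, 1, 2, 2, 1, 2, 4, 2, 0, 3, 6, 4, 2, 0, 3, 6, 4, 0, 8, 1, 6, 8, 1],
  [0, 3, 0, 2, 2, 0, 5, 0, 2, 1, 6, 4, 0, 5, 3, 5, 1, 6, 8, 1, 2, 0, 3, 1, 3, 3, 1, 3, 4, 2, 2, 4, 2, 6, 4, 3, 3, 6, 4, 2, 4, 8, 1, 6, 2, 5, 0, 5, 1, 5, 7, 4, 4, 0, 3, 4, 3, 5, 0, 2, 2, 8, 5, 3, 5, 7, 2, 2, 5, 7, 3, 5, 3, 3, 5, 2, 0, 2, 2, 0, 2, 1, 3, 0, 8],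
  [3, 0, 2, 0, 2, 5, 1, 5, 0, 5, 6, 4, 3, 5, 0, 4, 8, 1, 2, 6, 8, 1, 3, 5, 0, 3, 3, 4, 7, 4, 0, 5, 1, 4, 3, 3, 0, 2, 0, 3, 3, 0, 8, 7, 3, 0, 8],
  [8, 8],
  []]
  defs := [(0, 0, []),
    (1, 0, []),
    (1, 0, [7]),
    (3, 0, []),
    (3, 0, [7]),
    (5, 0, []),
    (5, 0, [1, 1, 5, 0, 0, 6, 4, 1, 4, 6]),
    (1, 0, [3, 7]),
    (8, 0, []),
    (8, 0, [7]),
    (5, 0, [4, 0, 5, 3, 7]),
    (8, 0, [5, 2, 2, 5, 6, 6, 6]),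
    (3, 0, [3, 5, 3, 3, 7]),
    (8, 0, [5, 0, 2, 6]),
    (8, 0, [3, 3, 5, 3, 7]),
    (3, 0, [5, 1, 5, 6, 6, 6]),
    (5, 0, [4, 0, 0, 0, 4, 6]),
    (5, 0, [5, 1, 5, 6, 6, 3, 6]),
    (5, 0, [5, 3, 5, 6, 6, 3, 6]),
    (8, 0, [2, 5, 7]),
    (8, 0, [5, 3, 5, 6, 6, 3, 5, 3, 5, 6]),
    (3, 0, [4, 0, 0, 0, 4, 6]),
    (5, 0, [5, 1, 5, 6, 6, 6]),
    (8, 0, [4, 0, 0, 0, 0, 2, 4, 3, 6]),
    (8, 0, [4, 0, 0, 0, 4, 2, 6]),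
    (8, 0, [5, 1, 2, 5, 6, 6, 6])]

/-- facts -/
def facts0 : List Fact :=
  [⟨0, 0, 0, 0, [0], [0], [], .base⟩,
   ⟨0, 0, 0, 0, [2], [2], [], .base⟩,
   ⟨0, 0, 0, 0, [4], [4], [], .base⟩,
   ⟨0, 0, 0, 0, [6], [6], [], .base⟩,
   ⟨1, 0, 1, 0, [], [], [], .defEdge⟩,
   ⟨0, 1, 1, 0, [7, 7], [7, 7], [], .loop 0 [5, 3, 3, 0, 3, 3, 1, 2, 1, 2, 4, 0, 2, 2, 1, 6, 4, 1, 3, 4, 3, 4, 1] 12 0 1 false [.stab 3 true, .edge 4 [2, 1, 7, 2, 5, 0, 6]] [.stab 3 false, .edge 4 [2, 5, 4, 7, 2, 1, 6]] []⟩,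
   ⟨0, 1, 1, 0, [0, 3, 0, 2, 2, 0], [3, 1, 2, 2], [], .loop 0 [1, 3, 1, 2, 2, 0, 2, 2] 12 0 1 false [.stab 1 true, .edge 4 [6, 7, 5]] [.stab 0 false, .stab 1 false, .stab 1 false, .stab 1 false, .edge 4 [7, 5, 6, 7]] []⟩,
   ⟨0, 1, 1, 0, [5, 0, 3, 1, 4, 1, 5, 2, 0], [5], [], .loop 0 [5, 3, 3, 4, 0, 5, 5, 2, 4] 12 0 1 false [.stab 2 true, .edge 4 [5, 5, 0, 7, 6, 1, 5]] [.edge 4 [0, 5, 5, 0, 7, 6, 1, 5]] []⟩,
   ⟨0, 1, 1, 0, [1, 7, 7], [1], [], .loop 0 [0, 3, 0, 2, 2, 1, 3, 1, 2, 2] 12 0 1 false [.stab 0 true, .edge 4 [7, 5, 6]] [.edge 4 [5, 7, 5, 6]] []⟩,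
   ⟨1, 1, 1, 0, [5, 0, 2, 1, 5, 6, 6, 3, 3, 1, 5, 2, 6, 5, 2, 2, 0, 6, 4, 0, 4, 0, 6], [5, 3, 1, 4, 3, 3, 5, 3, 7, 4, 3, 1, 4, 4, 7, 4, 2], [6, 4, 3, 0, 4, 6], .loop 0 [5, 3, 3, 0, 3, 1, 4, 3, 3, 4, 2, 2, 4, 6, 4, 3, 3, 5, 5, 2, 0, 4] 2 47 14 false [.lett 3, .lett 1, .lett 3, .lett 3, .stab 2 false, .stab 0 false, .stab 2 false, .stab 2 false, .stab 2 false, .stab 0 false, .stab 1 false, .stab 1 false, .stab 2 false, .stab 3 false, .stab 1 false, .edge 4 [0, 0, 5, 6, 7, 3, 7, 6, 5], .lett 1, .lett 5, .lett 7, .lett 1, .lett 5, .lett 1, .lett 2, .lett 5, .lett 7, .stab 7 false, .stab 6 false, .stab 6 false] [.lett 4, .lett 2, .lett 2, .lett 5, .lett 1, .lett 4, .lett 0, .lett 6, .lett 4, .lett 1, .lett 2, .lett 4, .lett 1, .lett 6, .lett 4, .lett 0, .lett 0, .stab 3 false, .stab 2 false, .stab 0 false, .stab 3 false, .stab 0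 false, .stab 0 false, .stab 2 false, .stab 3 false, .stab 1 false, .edge 4 [0, 0, 1, 5, 6, 3, 7, 5], .lett 2, .lett 1, .lett 3, .lett 1, .lett 2, .lett 1, .lett 4, .lett 0, .lett 2, .lett 4, .lett 3, .lett 6, .lett 4, .lett 3, .lett 0, .lett 4, .lett 2, .lett 7, .lett 0, .lett 0] [5, 5, 5, 7, 6, 1, 5, 3, 7, 6]⟩,
   ⟨1, 1, 1, 0, [5, 0, 2, 2, 1, 2, 2, 0, 2, 0, 3, 3, 0, 4, 1, 4, 1, 2, 1, 3], [5, 1, 3, 1, 4, 2, 5, 3, 7, 7], [3], .loop 0 [5, 0, 2, 2, 1, 2, 0, 3, 1, 2, 1, 4, 2, 5, 2, 4, 4, 6, 5, 0, 5, 2, 5, 5, 6, 6] 7 0 8 false [.lett 1, .stab 0 false, .stab 1 false, .stab 2 false, .stab 2 false, .stab 0 false, .stab 1 false, .stab 0 false, .stab 1 false, .stab 0 false, .stab 2 false, .stab 3 false, .edge 4 [5, 3, 5, 7, 1, 3, 6, 5], .lett 3, .lett 3, .lett 1, .lett 2, .lett 2, .lett 0, .stab 6 false] [.lett 3, .lett 3, .lett 0, .lett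 2, .lett 2, .stab 0 false, .stab 2 false, .stab 3 false, .stab 2 false, .stab 3 false, .stab 3 false, .stab 0 false, .stab 2 false, .stab 1 false, .stab 2 false, .stab 3 false, .edge 4 [3, 0, 5, 3, 2, 5], .lett 1, .lett 3, .lett 3, .lett 0, .lett 2, .lett 2] [1, 5, 6, 7, 2, 0, 5]⟩,
   ⟨1, 1, 2, 0, [], [], [], .defEdge⟩,
   ⟨2, 2, 0, 0, [5, 2, 0, 3, 1, 5, 6, 6, 1, 5, 1, 5, 3, 3, 6, 4, 7, 4, 6, 5, 3, 5, 2, 5], [5, 0, 3, 1, 3, 4, 2, 4, 3, 5, 0, 4, 6, 4, 3, 1, 3, 3], [], .loop 0 [5, 1, 2, 2, 4, 0, 5, 2, 4, 0, 0, 6, 4, 3, 1, 2, 0, 4, 1, 2] 6 5 6 false [.stab 0 false, .stab 3 false, .stab 1 false, .stab 2 false, .stab 0 false, .stab 2 false, .stab 3 false, .stab 0 false, .stab 2 false, .stab 3 false, .edge 4 [5, 6, 1, 5, 6, 2, 5, 5, 5], .lett 0, .lett 0, .lett 0, .edge 11 [2, 3, 5, 5, 5, 0, 5, 5, 6], .lett 0] [] []⟩,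
   ⟨1, 1, 3, 0, [], [], [7], .defEdge⟩,
   ⟨0, 3, 3, 0, [7, 7], [7, 7], [], .loop 1 [1, 1, 1, 6] 12 0 1 false [.stab 5 true, .edge 13 [7, 5, 7]] [.edge 13 [5, 5, 5]] []⟩,
   ⟨0, 3, 3, 0, [5, 3, 3, 0, 3, 3, 1, 2, 1, 2, 4, 0, 2, 1, 3], [5, 3, 3, 0, 3, 3, 1, 2, 1, 2, 4, 1, 2, 1, 3], [], .loop 1 [0, 3, 0, 2, 2, 6] 12 0 1 false [.stab 6 true, .edge 13 [5]] [.edge 13 [5, 5, 5, 5, 6, 7]] []⟩,
   ⟨0, 3, 3, 0, [1, 7, 7], [0], [], .loop 1 [5, 3, 3, 0, 3, 3, 1, 2, 1, 2, 4, 1, 2, 1, 3, 6] 12 0 1 false [.stab 8 true, .edge 13 [5, 5, 7, 5, 6, 5]] [.edge 13 [7, 6, 5]] []⟩,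
   ⟨0, 3, 3, 0, [5, 0, 2, 2, 1, 2, 1, 3, 5, 6, 6, 0, 5, 3, 1, 5, 3, 6, 4, 4, 3, 6, 4, 3, 3, 4], [5, 0, 2, 2, 1, 2, 2, 1, 2, 0, 3, 3, 1, 4, 2, 2, 0, 3, 5, 5, 6, 4, 3, 3, 1, 6, 5, 2, 4], [], .loop 0 [5, 1, 1, 3, 3, 4, 2, 0, 5, 3, 6, 4, 2, 2, 5, 3, 5, 0, 3] 3 0 23 false [.lett 0, .stab 3 false, .stab 3 false, .stab 2 false, .stab 3 false, .stab 2 false, .stab 0 false, .stab 1 false, .stab 2 false, .stab 2 false, .stab 3 false, .edge 4 [3, 3, 4, 4, 5, 3], .lett 7, .lett 0, .stab 8 false, .stab 7 false, .stab 6 false, .stab 7 false, .stab 8 false, .stab 6 false, .stab 5 false, .stab 7 false, .edge 13 [5, 7, 5, 6], .lett 1, .lett 5, .lett 7, .lett 2, .lett 1, .lett 3, .lett 5, .lett 7, .lett 2, .lett 1, .lett 3, .lett 5, .lett 3, .lett 0, .lett 3, .lett 3, .lett 0, .lett 3] [.lett 5, .lett 3, .lett 5, .lett 7, .lett 2, .lett 2, .lett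 5, .lett 7, .lett 2, .lett 5, .lett 3, .lett 5, .lett 1, .lett 4, .lett 3, .lett 3, .lett 0, .lett 3, .lett 3, .lett 0, .lett 3, .stab 2 false, .stab 2 false, .stab 2 false, .stab 3 false, .stab 2 false, .stab 3 false, .stab 0 false, .stab 2 false, .stab 3 false, .stab 1 false, .edge 4 [7, 2, 6, 7, 6, 5, 2, 5, 6], .lett 7, .lett 0, .stab 8 false, .stab 6 false, .stab 7 false, .stab 6 false, .stab 7 false, .stab 7 false, .stab 6 false, .stab 6 false, .stab 7 false, .edge 13 [6, 7, 6]] []⟩,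
   ⟨1, 3, 3, 0, [5, 0, 2, 2, 1, 2, 2, 2, 2, 0, 3, 4, 2, 0, 5, 1, 3, 4, 6, 4, 4, 3, 6, 4, 3, 3, 4], [5, 0, 2, 2, 1, 2, 2, 0, 3, 1, 2, 5, 6, 6, 0, 4, 2, 1, 5, 6, 4, 1, 2, 4, 7, 5, 0, 4], [3, 7], .loop 1 [5, 0, 2, 2, 1, 2, 0, 3, 4, 3, 4, 0, 0, 3, 6, 4, 3, 5, 5, 0, 2, 2] 2 37 24 false [.lett 0, .lett 5, .lett 7, .lett 1, .lett 5, .lett 0, .lett 4, .lett 3, .lett 3, .lett 5, .lett 3, .lett 1, .lett 3, .lett 3, .stab 6 false, .stab 8 false, .stab 7 false, .stab 6 false, .stab 8 false, .stab 5 false, .stab 7 false, .stab 6 false, .stab 6 false, .stab 7 false, .edge 13 [5, 5, 6, 2, 7, 3, 5, 6, 7, 5], .lett 1, .lett 5, .lett 7, .lett 1, .lett 5, .lett 1, .lett 2, .lett 5, .lett 7, .stab 15 false, .stab 17 false] [.lett 2, .lett 4, .lett 1, .lett 6, .lett 4, .lett 0, .lett 0, .stab 5 false, .stab 7 false, .stab 6 false, .stab 6 false,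 .stab 5 false, .stab 7 false, .stab 8 false, .stab 7 false, .stab 7 false, .edge 13 [0, 3, 7, 5, 6, 2, 5, 3, 7], .lett 2, .lett 1, .lett 3, .lett 1, .lett 2, .lett 1, .lett 4, .lett 0, .lett 2, .lett 4, .lett 3, .lett 6, .lett 4, .lett 3, .lett 0, .lett 4, .lett 2, .lett 7, .lett 0, .lett 0] [0, 6, 7, 5, 6, 2, 1, 7, 5, 6]⟩,
   ⟨1, 3, 4, 0, [], [], [], .defEdge⟩,
   ⟨2, 4, 1, 0, [5, 3, 3, 0, 3, 3, 1, 2, 0, 3, 0, 2, 4, 1, 2, 1, 3, 5, 1], [5, 0, 2, 2, 1, 2, 2, 0, 2, 4, 1, 5, 0, 2, 6], [], .loop 0 [5, 3, 3, 0, 3, 3, 1, 2, 1, 2, 2, 4, 0, 0, 2, 5, 2, 6, 4, 2, 1, 2, 7] 4 45 83 false [.lett 3, .lett 5, .lett 7, .lett 2, .lett 2, .lett 5, .lett 7, .lett 3, .lett 5, .lett 3, .lett 3, .lett 5, .lett 2, .lett 0, .lett 2, .lett 2, .lett 0, .lett 2, .lett 1, .lett 3, .lett 0, .stab 1 false, .stab 2 false, .stab 3 false, .stab 2 false, .stab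 0 false, .stab 1 false, .stab 1 false, .stab 2 false, .stab 3 false, .edge 4 [0, 0, 5, 6, 0, 3, 7, 6], .lett 7, .lett 0, .lett 4, .lett 2, .lett 4, .lett 1, .lett 5, .lett 7, .lett 0, .lett 3, .lett 1, .lett 4, .lett 1, .lett 3, .lett 3, .lett 1, .lett 2, .lett 1, .stab 5 false, .stab 7 false, .stab 8 false, .stab 6 false, .stab 5 false, .stab 7 false, .stab 7 false, .stab 6 false, .stab 7 false, .edge 13 [2, 0, 0, 5, 2, 7, 6], .lett 1, .lett 2, .lett 0, .lett 3, .lett 1, .lett 3, .lett 3, .lett 1, .lett 3, .lett 4, .lett 2, .lett 2, .lett 4, .lett 2, .lett 6, .lett 4, .lett 3, .lett 3, .lett 6, .lett 4, .lett 2, .lett 4, .stab 17 false, .stab 17 false, .stab 16 false, .stab 17 false, .stab 17 false, .edge 19 [1, 1, 6, 2, 3, 5, 6, 7], .lett 3, .lett 3, .lett 1, .lett 4, .lett 2, .lett 5, .lett 2, .lett 1, .lett 5, .lett 5,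 .lett 6, .lett 4, .lett 0, .lett 4, .lett 1, .lett 4, .lett 3, .lett 7, .lett 0] [.lett 4, .stab 2 false, .stab 2 false, .stab 2 false, .stab 3 false, .stab 0 false, .stab 2 false, .stab 3 false, .edge 4 [6, 1, 5, 6, 7, 2, 6, 7]] []⟩,
   ⟨1, 3, 3, 0, [2, 0, 3, 3, 0, 3, 4, 3, 0, 3, 4, 2, 5, 5, 6, 5, 1, 5, 2, 1, 4, 1, 2], [5, 0, 2, 2, 1, 2, 2, 1, 5, 6, 6, 1, 5, 3, 1, 5, 3, 6, 5, 2, 5, 5, 3, 1, 7, 7], [4, 0, 5, 3, 7], .loop 1 [5, 3, 3, 0, 3, 3, 1, 5, 1, 3, 1, 2, 2, 1, 2, 0, 2, 6, 4, 3, 3, 5] 11 23 40 false [.lett 5, .lett 0, .lett 3, .lett 3, .lett 4, .lett 7, .lett 4, .lett 0, .lett 5, .lett 1, .lett 4, .lett 3, .lett 3, .lett 0, .lett 2, .lett 0, .lett 3, .lett 3, .lett 0, .stab 8 false, .stab 8 false, .stab 7 false, .stab 6 false, .stab 7 false, .stab 8 false, .stab 7 false, .edge 13 [1, 0, 6, 2, 5, 3, 6], .lett 7, .lett 3,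 .lett 0, .stab 17 false, .stab 17 false, .stab 15 false, .edge 18 [0, 6, 1, 2, 7, 3, 5], .lett 3, .lett 0, .lett 2, .lett 0, .lett 2, .lett 5, .lett 1, .lett 5, .lett 0, .lett 5, .lett 6, .lett 4, .lett 3, .lett 5, .lett 0, .lett 4, .stab 16 false, .stab 17 false, .stab 16 false, .stab 15 false, .stab 17 false] [.lett 2, .lett 0, .stab 7 false, .stab 6 false, .stab 7 false, .stab 8 false, .stab 8 false, .stab 6 false, .stab 7 false, .stab 6 false, .stab 7 false, .edge 13 [1, 7, 6, 2, 7, 6, 3], .lett 7, .lett 3, .lett 0] [5, 3, 6, 1, 7, 0]⟩,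
   ⟨1, 3, 3, 0, [5, 3, 3, 0, 3, 1, 3, 4, 2, 1, 4, 7, 4, 2, 1, 2, 4, 3, 5, 5, 3], [5, 0, 2, 2, 1, 2, 2, 1, 3, 3, 4, 1, 3, 1, 3, 4, 3, 6, 4, 2, 4, 2, 6, 4, 1, 4, 6], [5, 0, 2, 2, 1, 2, 1, 2, 2, 4, 0, 4, 4, 3, 0, 5, 6], .loop 1 [5, 2, 0, 3, 5, 6, 6, 0, 3, 5, 1, 2, 2, 6, 4, 4, 3, 3, 5, 1, 2, 2, 4] 3 21 28 false [.lett 0, .lett 3, .stab 6 false, .stab 5 false, .stab 7 false, .stab 7 false, .stab 8 false, .stab 7 false, .stab 7 false, .edge 13 [7, 5, 6, 5, 2, 7, 3, 2], .lett 1, .lett 6, .stab 16 false, .stab 17 false, .stab 16 false, .stab 14 false, .stab 17 false, .stab 15 false, .edge 21 [0, 5, 0, 5, 5, 6, 7, 6], .lett 2, .lett 1, .lett 2, .lett 2, .lett 1, .lett 2, .lett 2, .lett 5, .lett 0, .lett 4, .lett 2, .lett 4, .lett 3, .lett 6, .lett 4, .lett 3, .lett 3, .lett 6, .lett 4, .lett 2, .lett 4, .lett 0, .stab 17 false, .stab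 16 false, .stab 15 false, .stab 16 false] [.lett 2, .lett 2, .lett 1, .lett 2, .lett 4, .lett 2, .lett 0, .lett 3, .lett 6, .lett 4, .lett 2, .lett 0, .lett 3, .lett 6, .lett 4, .lett 0, .stab 7 false, .stab 7 false, .stab 6 false, .stab 6 false, .stab 8 false, .stab 7 false, .stab 6 false, .stab 7 false, .edge 13 [3, 0, 6, 0, 3, 7, 5], .lett 1, .lett 6] [1, 7, 5, 2, 6, 7, 2, 7, 5, 7]⟩,
   ⟨1, 3, 5, 0, [], [], [7], .defEdge⟩,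
   ⟨0, 5, 5, 0, [0, 3, 0, 2, 2, 0], [3, 1, 2, 2], [], .loop 3 [5, 3, 3, 0, 3, 3, 1, 1, 5, 6, 6, 0, 2, 5, 3, 3, 6, 4, 2, 2, 5, 1, 2, 4] 12 0 1 false [.stab 15 true, .edge 23 [0, 2, 6, 5, 3, 4]] [.edge 23 [0, 3, 4, 5, 7, 6]] []⟩,
   ⟨0, 5, 5, 0, [5, 0, 2, 2, 1, 2, 2, 0, 2, 0, 2, 2, 4, 2, 1, 3], [0, 3, 0, 2, 2, 2, 1, 3], [], .loop 3 [5, 0, 2, 2, 1, 2, 2, 0, 3, 3, 4, 2, 0, 5, 5, 0, 4, 6, 4, 1, 2, 4, 7] 12 0 1 false [.stab 17 true, .edge 23 [6, 3, 5, 6, 3]] [.stab 15 false, .stab 16 false, .stab 17 false, .edge 23 [5, 5, 6, 7, 3, 5, 6, 3]] []⟩,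
   ⟨0, 5, 5, 0, [1, 7, 7], [1], [], .loop 3 [0, 6, 4, 2, 1, 3] 12 0 1 false [.stab 16 true, .edge 23 [5, 5, 6, 7, 1, 7]] [.edge 23 [1, 5, 5, 5, 5, 5, 6]] []⟩,
   ⟨1, 1, 5, 0, [1, 1, 5, 2, 1, 5, 0, 3, 3, 6, 4, 2, 2, 7, 4, 3, 4, 3], [5, 3, 3, 5, 6, 6, 1, 5, 2, 0, 5, 5, 6, 4, 1, 2, 4, 7, 5, 0, 4], [6, 4, 6], .loop 1 [5, 0, 2, 2, 1, 2, 2, 4, 4, 3, 1, 4, 2, 0, 3, 0, 3, 0, 5, 3, 1, 4, 6, 4, 1, 5, 2, 6, 5, 0, 4] 8 18 5 false [.lett 1, .lett 6, .lett 4, .lett 0, .lett 0, .stab 7 false, .stab 7 false, .stab 8 false, .stab 6 false, .stab 6 false, .stab 7 false, .stab 8 false, .stab 7 false] [.lett 5, .lett 3, .lett 0, .lett 5, .lett 7, .lett 1, .lett 5, .lett 0, .lett 4, .lett 3, .lett 3, .lett 5, .lett 3, .lett 1, .lett 3, .lett 3, .stab 7 false, .stab 7 false, .stab 6 false, .stab 6 false, .stab 7 false, .stab 8 false, .stab 6 false,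 .stab 5 false, .stab 7 false, .edge 13 [0, 2, 5, 3, 6], .lett 1, .lett 5, .lett 7, .lett 1, .lett 5, .lett 1, .lett 2, .lett 5, .lett 7, .stab 17 false, .edge 23 [2, 7, 1, 5, 2, 1], .lett 1, .lett 1, .lett 6, .lett 3, .lett 5, .lett 1, .lett 2, .lett 5, .lett 7, .lett 2, .lett 5, .lett 3, .lett 1, .lett 5, .lett 0, .lett 3, .lett 0, .lett 2, .lett 0, .lett 3] [7, 1, 1, 6, 5, 7, 6]⟩,
   ⟨1, 5, 3, 0, [5, 0, 2, 2, 1, 2, 2, 4, 2, 0, 3, 3, 0, 3, 4, 3, 0, 2, 4, 1, 1, 3, 6, 4, 3, 0, 4, 4, 0, 4, 1, 4], [5, 3, 3, 0, 3, 1, 3, 4, 3, 5, 1, 5, 6, 4, 3, 4, 6, 4], [5, 0, 5, 6, 6, 0, 4, 3, 6], .loop 1 [5, 0, 2, 2, 1, 2, 2, 0, 3, 1, 2, 1, 4, 2, 0, 2, 4, 2, 2, 6, 5, 2, 2, 0, 2, 4] 3 35 17 false [.lett 0, .lett 4, .lett 2, .lett 4, .lett 3, .lett 6, .lett 4, .lett 3, .lett 3, .lett 6, .lett 4, .lett 2, .lett 4, .lett 0, .stab 7 false, .stab 6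 false, .stab 6 false, .stab 5 false, .stab 7 false, .stab 8 false, .stab 7 false, .stab 7 false, .edge 27 [6, 7, 2, 2, 3, 5, 7], .lett 7, .lett 0, .stab 24 false, .stab 24 false, .stab 26 false] [.lett 4, .lett 3, .lett 3, .lett 0, .lett 3, .lett 3, .lett 0, .lett 3, .stab 6 false, .stab 8 false, .stab 6 false, .stab 7 false, .stab 6 false, .stab 7 false, .stab 6 false, .stab 7 false, .edge 13 [1, 5, 7, 2, 3, 5, 6], .lett 7, .lett 0, .stab 16 false, .stab 15 false, .stab 17 false, .stab 16 false, .stab 17 false, .stab 17 false, .edge 18 [0, 3, 0, 3, 5, 6, 7], .lett 2, .lett 1, .lett 2, .lett 2, .lett 1, .lett 2, .lett 4, .lett 2, .lett 0, .lett 3, .lett 6, .lett 4, .lett 2, .lett 0, .lett 3, .lett 6, .lett 4, .lett 0] [5, 2, 5, 5, 6, 5, 7, 6, 2]⟩,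
   ⟨0, 5, 5, 0, [5, 3, 3, 0, 3, 3, 1, 4, 3, 0, 5, 2, 2, 0, 2, 0, 0, 2, 2, 4, 2, 4, 3, 6, 5, 3, 4, 1, 3, 3, 1, 4], [5, 0, 2, 2, 1, 2, 2, 0, 2, 0, 3, 4, 1, 3, 4, 2, 1, 3, 6, 5, 3, 4, 1, 3, 3, 1, 4], [], .loop 0 [5, 0, 3, 3, 4, 3, 3, 5, 1, 5, 6, 4, 4, 4, 2, 2, 5, 3] 4 43 42 false [.stab 3 false, .stab 3 false, .stab 0 false, .stab 1 false, .stab 2 false, .stab 0 false, .stab 1 false, .stab 2 false, .stab 0 false, .stab 2 false, .stab 3 false, .edge 4 [7, 1, 5, 3, 6, 5, 7], .lett 5, .lett 3, .lett 5, .lett 7, .lett 2, .lett 2, .lett 5, .lett 7, .lett 3, .lett 5, .lett 3, .lett 3, .lett 5, .lett 2, .lett 0, .lett 2, .lett 2, .lett 0, .lett 2, .lett 1, .lett 3, .lett 0, .stab 7 false, .stab 7 false, .stab 6 false, .stab 6 false, .stab 8 false, .stab 5 false, .stab 7 false, .edge 27 [0, 5, 5, 7, 2, 5, 6, 7], .lett 7, .lett 0, .lett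 4, .lett 2, .lett 4, .lett 1, .lett 5, .lett 7, .lett 0, .lett 3, .lett 1, .lett 4, .lett 1, .lett 3, .lett 3, .lett 1, .lett 2, .lett 1] [.lett 1, .lett 6, .lett 2, .lett 5, .lett 0, .lett 5, .lett 1, .lett 5, .lett 7, .lett 4, .lett 4, .lett 0, .lett 3, .lett 4, .lett 3, .lett 5, .lett 0, .lett 2, .lett 2, .stab 0 false, .stab 3 false, .stab 1 false, .stab 1 false, .stab 0 false, .stab 1 false, .stab 2 false, .stab 3 false, .edge 4 [0, 6, 0, 7, 6, 1, 2], .lett 5, .lett 3, .lett 5, .lett 7, .lett 2, .lett 2, .lett 5, .lett 7, .lett 3, .lett 5, .lett 3, .lett 3, .lett 5, .lett 2, .lett 0, .lett 2, .lett 2, .lett 0, .lett 2, .lett 1, .lett 3, .lett 0, .stab 7 false, .stab 8 false, .stab 8 false, .stab 7 false, .stab 8 false, .stab 7 false, .stab 6 false, .stab 8 false, .edge 27 [2, 1, 5, 2, 5, 7]] []⟩]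

/-- facts -/
def facts1 : List Fact :=
  [⟨1, 5, 3, 0, [5, 0, 2, 2, 1, 2, 2, 1, 3, 3, 5, 6, 6, 3, 3, 1, 4, 7, 4, 2, 2, 5, 2, 2, 5, 5, 0], [5, 0, 2, 4, 3, 5, 0, 3, 0, 6, 4, 0, 2, 2, 5, 1, 5, 0, 4], [5, 5, 6, 6, 5, 6], .loop 1 [5, 0, 2, 0, 3, 4, 1, 4, 2, 2, 5, 0, 6, 4, 6, 4, 7] 4 18 25 false [.lett 3, .lett 6, .lett 4, .lett 2, .lett 4, .stab 8 false, .stab 7 false, .stab 8 false, .stab 6 false, .stab 5 false, .stab 7 false, .stab 5 false, .edge 27 [1, 5, 7, 6, 5, 2, 5], .lett 3, .lett 3, .lett 1, .lett 4, .lett 2, .lett 5, .lett 2, .lett 1, .lett 5, .lett 5, .lett 6, .lett 4, .lett 0, .lett 4, .lett 1, .lett 4, .lett 3, .lett 7, .lett 0, .stab 26 false, .stab 24 false, .stab 26 false, .stab 25 false, .stab 29 false, .stab 24 false] [.lett 2, .lett 5, .lett 7, .lett 3, .lett 5, .lett 3, .lett 3, .lett 5, .lett 2, .lett 0, .lett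 2, .lett 2, .lett 0, .lett 2, .lett 1, .lett 3, .lett 0, .stab 8 false, .stab 7 false, .stab 8 false, .stab 8 false, .stab 8 false, .stab 6 false, .stab 6 false, .stab 7 false, .stab 6 false, .stab 5 false, .stab 7 false, .edge 13 [0, 0, 6, 4, 7, 6], .lett 0, .lett 3, .lett 0, .lett 2, .lett 2, .lett 0, .lett 5, .lett 0, .lett 2, .lett 1, .lett 6, .lett 4, .lett 0, .lett 5, .lett 3, .lett 5, .lett 1, .lett 6, .stab 14 false, .stab 17 false, .stab 17 false, .stab 17 false, .stab 17 false, .stab 14 false, .stab 17 false, .stab 14 false, .edge 21 [7, 5, 6, 4, 7, 3, 3, 5], .lett 1, .lett 2, .lett 0, .lett 3, .lett 1, .lett 3, .lett 3, .lett 1, .lett 3, .lett 4, .lett 2, .lett 2, .lett 4, .lett 2, .lett 6, .lett 4, .lett 3, .lett 3, .lett 6, .lett 4, .lett 2, .lett 4] [0, 6, 7, 6, 3, 7, 5, 6]⟩,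
   ⟨1, 5, 5, 0, [5, 0, 2, 2, 1, 2, 2, 2, 4, 1, 5, 2, 0, 5, 5, 6, 4, 0, 5, 2, 5, 3, 3, 4], [5, 2, 0, 2, 4, 1, 3, 4, 2, 2, 6, 4, 1, 2, 4, 7, 2, 2], [5, 0, 3, 5, 6, 6, 5, 6, 4, 6], .loop 1 [5, 3, 3, 0, 3, 3, 1, 1, 3, 3, 4, 2, 4, 2, 4, 1, 6, 4, 3, 6, 5, 3, 0, 0, 2, 4] 1 20 13 false [.lett 0, .lett 3, .lett 3, .lett 0, .lett 2, .lett 2, .stab 8 false, .stab 6 false, .stab 6 false, .stab 7 false, .stab 8 false, .stab 5 false, .stab 7 false, .stab 5 false, .edge 27 [0, 7, 6, 3, 2, 2, 5, 6], .lett 1, .lett 3, .lett 3, .lett 0, .lett 2, .lett 2, .stab 29 false, .stab 26 false, .stab 24 false, .stab 24 false] [.stab 7 false, .stab 8 false, .stab 7 false, .stab 6 false, .stab 7 false, .stab 6 false, .stab 8 false, .edge 27 [5, 3, 5, 6, 7, 5, 3, 5], .lett 3, .lett 3, .lett 1, .lett 2, .lett 2, .lett 0] [6, 7, 3, 5, 5, 6, 5]⟩,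
   ⟨1, 3, 5, 0, [5, 0, 2, 2, 1, 2, 0, 5, 6, 6, 2, 2, 4, 2, 7, 4, 2, 2, 4, 6], [5, 0, 2, 2, 1, 2, 1, 3, 3, 1, 3, 4, 0, 4, 0, 4, 1, 6, 5, 2, 2, 0, 0, 4, 3], [3, 4, 0, 4, 6, 6, 4, 4, 6], .loop 1 [5, 2, 1, 4, 3, 5, 1, 3, 5, 6, 5, 0, 5, 5] 11 30 33 false [.lett 0, .lett 5, .lett 1, .lett 4, .lett 3, .lett 3, .lett 0, .lett 2, .lett 0, .lett 3, .lett 3, .lett 0, .stab 7 false, .stab 7 false, .stab 8 false, .stab 7 false, .stab 6 false, .stab 7 false, .edge 13 [2, 5, 5, 7, 0, 5, 0], .lett 7, .lett 3, .lett 0, .stab 15 false, .stab 17 false, .stab 17 false, .stab 16 false, .stab 17 false, .edge 21 [0, 6, 7, 0, 4, 5, 2, 7], .lett 3, .lett 0, .lett 2, .lett 0, .lett 2, .lett 5, .lett 1, .lett 5, .lett 0, .lett 5, .lett 6, .lett 4, .lett 3, .lett 5, .lett 0, .lett 4, .stab 16 false, .stab 15 false, .stab 15 false, .stab 16 false, .stab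 15 false] [.lett 5, .lett 6, .lett 5, .lett 2, .lett 2, .lett 1, .lett 4, .lett 2, .lett 0, .stab 6 false, .stab 7 false, .stab 8 false, .stab 5 false, .stab 7 false, .stab 6 false, .stab 5 false, .stab 7 false, .edge 27 [0, 6, 1, 3, 3, 7, 5, 6], .lett 7, .lett 3, .lett 0] [6, 0, 7, 6, 5, 0]⟩,
   ⟨1, 5, 5, 0, [5, 3, 1, 3, 3, 1, 4, 2, 0, 2, 5, 5, 6, 4, 3, 3, 1, 5], [5, 0, 2, 2, 1, 5, 6, 6, 1, 2, 2, 5, 2, 6, 4, 3, 5, 2], [4, 0, 5, 7], .loop 3 [5, 0, 2, 2, 1, 2, 0, 2, 2, 4, 1, 3, 4, 0, 3, 1, 6, 4, 1, 6, 4, 7] 7 3 12 false [.lett 3, .lett 1, .lett 2, .lett 2, .lett 0, .stab 16 false, .stab 15 false, .stab 17 false, .stab 14 false, .edge 32 [1, 2, 5, 5, 4, 5, 6, 7], .lett 3, .lett 3, .lett 1, .lett 2, .lett 2, .lett 0, .stab 24 false, .stab 24 false, .stab 29 false, .stab 26 false, .stab 26 false, .stab 24 false] [.lett 2, .stab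 15 false, .stab 14 false, .stab 17 false, .stab 17 false, .stab 15 false, .stab 15 false, .stab 16 false, .stab 14 false, .edge 32 [0, 5, 7, 1, 7, 2, 5, 7], .lett 0, .lett 3, .lett 3, .lett 0, .lett 2, .lett 2] [0, 1, 3, 0, 3, 5]⟩,
   ⟨1, 5, 5, 0, [5, 3, 3, 0, 3, 3, 1, 3, 1, 5, 6, 6, 0, 2, 0, 5, 3, 5, 6, 5, 0, 5, 0, 2, 1, 4, 6, 4], [5, 3, 3, 0, 3, 3, 1, 2, 2, 1, 3, 4, 3, 4, 6, 4, 3, 6, 4], [5, 0, 5, 6, 6, 6], .loop 5 [5, 0, 2, 2, 1, 2, 2, 1, 3, 5, 6, 6, 1, 3, 4, 2, 0, 4, 6, 4, 0, 3, 5, 0] 8 40 4 false [.lett 2, .lett 7, .lett 0, .lett 0, .stab 25 false, .stab 29 false, .stab 24 false, .stab 25 false, .stab 24 false] [.lett 5, .lett 1, .lett 2, .lett 5, .lett 7, .lett 2, .lett 5, .lett 3, .lett 1, .lett 5, .lett 0, .lett 3, .lett 0, .lett 2, .lett 0, .lett 3, .stab 26 false, .stab 24 false, .stab 26 false, .stab 25 false, .stab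 25 false, .edge 28 [5, 5, 3, 6, 7, 0, 6, 5], .lett 1, .lett 1, .lett 5, .lett 7, .lett 0, .lett 5, .lett 3, .lett 0, .lett 5, .lett 7, .lett 1, .lett 5, .lett 0, .lett 4, .lett 3, .lett 3, .lett 5, .lett 3, .lett 1, .lett 3, .lett 3, .stab 16 false, .stab 15 false, .stab 14 false, .stab 17 false, .stab 16 false, .stab 14 false, .edge 32 [2, 6, 7, 2, 2, 6, 7, 5], .lett 1, .lett 5, .lett 7, .lett 1, .lett 5, .lett 1, .lett 2, .lett 5, .lett 7] [5, 7, 2, 5, 5, 6, 1, 7, 6]⟩,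
   ⟨1, 5, 5, 0, [5, 0, 2, 2, 1, 2, 2, 4, 4, 3, 1, 4, 3, 4, 2, 4, 4, 0, 6, 4, 2, 2, 0, 4, 0, 0], [5, 3, 3, 0, 3, 3, 1, 3, 3, 5, 6, 6, 4, 2, 2, 4, 3, 1, 6, 4, 3, 3, 0, 5, 0, 4], [4, 0, 0, 0, 4, 2, 6], .loop 5 [5, 3, 3, 0, 3, 3, 1, 2, 1, 2, 2, 4, 3, 3, 5, 0, 2, 2, 6, 4, 6, 4, 2, 4, 3, 3] 8 21 23 false [.lett 0, .lett 0, .stab 29 false, .stab 29 false, .stab 24 false, .stab 25 false, .stab 26 false, .edge 34 [4, 5, 6, 3, 7, 2, 5], .lett 2, .lett 1, .lett 3, .lett 1, .lett 2, .lett 1, .lett 4, .lett 0, .lett 2, .lett 4, .lett 3, .lett 6, .lett 4, .lett 3, .lett 0, .lett 4, .lett 2, .lett 7, .lett 0, .lett 0, .stab 24 false, .stab 25 false, .stab 29 false, .stab 24 false, .stab 26 false] [.lett 5, .lett 7, .lett 0, .lett 5, .lett 3, .lett 0, .lett 5, .lett 7, .lett 1, .lett 5, .lett 0, .lett 4, .lett 3, .lett 3, .lett 5, .lett 3,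 .lett 1, .lett 3, .lett 3, .stab 25 false, .stab 26 false, .stab 29 false, .stab 26 false, .stab 25 false, .stab 24 false, .stab 25 false, .edge 34 [0, 6, 2, 5, 2, 7], .lett 1, .lett 5, .lett 7, .lett 1, .lett 5, .lett 1, .lett 2, .lett 5, .lett 7] [0, 2, 7, 1, 7, 2, 6]⟩,
   ⟨1, 5, 5, 0, [5, 3, 3, 0, 3, 3, 1, 4, 4, 3, 1, 4, 2, 0, 3, 0, 3, 0, 5, 5, 2, 2, 4, 6, 4, 1, 5, 2], [5, 0, 2, 2, 1, 2, 2, 2, 1, 3, 1, 2, 4, 2, 1, 4, 0, 3, 0, 6, 4, 3, 0, 2, 4, 1, 2], [4, 0, 0, 0, 3, 0, 4, 6], .loop 5 [5, 3, 3, 0, 3, 3, 1, 5, 1, 3, 1, 2, 2, 1, 2, 0, 2, 5, 6, 4, 0, 6, 4, 3, 4] 8 48 28 false [.lett 0, .lett 4, .lett 0, .lett 6, .lett 4, .lett 0, .stab 24 false, .stab 26 false, .stab 24 false, .stab 29 false, .stab 25 false, .stab 24 false, .edge 33 [0, 5, 5, 6, 7, 6, 3, 5], .lett 2, .lett 2, .lett 0, .lett 2, .lett 4, .lett 2, .lett 2, .lett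 5, .lett 1, .lett 4, .lett 0, .lett 6, .lett 4, .lett 1, .lett 2, .lett 4, .lett 1, .lett 6, .lett 4, .lett 0, .lett 0, .stab 26 false, .stab 29 false, .stab 24 false, .stab 26 false] [.lett 2, .lett 5, .lett 7, .stab 29 false, .stab 26 false, .stab 24 false, .stab 24 false, .stab 24 false, .edge 33 [7, 6, 5, 3, 5, 5, 0, 5, 5], .lett 1, .lett 1, .lett 6, .lett 3, .lett 5, .lett 1, .lett 2, .lett 5, .lett 7, .lett 2, .lett 5, .lett 3, .lett 1, .lett 5, .lett 0, .lett 3, .lett 0, .lett 2, .lett 0, .lett 3] [1, 5, 2, 6, 1, 6, 7]⟩,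
   ⟨1, 5, 6, 0, [], [], [], .defEdge⟩,
   ⟨2, 6, 3, 0, [5, 0, 2, 2, 1, 2, 2, 0, 3, 1, 3, 3, 4, 2, 0, 5, 5, 3, 6, 5, 0, 2, 1, 4, 2, 2, 4, 1], [5, 3, 3, 0, 3, 3, 1, 3, 1, 5, 6, 6, 1, 5, 0, 2, 4, 0, 6, 4, 2, 4, 4, 2, 5], [], .loop 5 [5, 2, 0, 4, 0, 3, 1, 4, 1, 3, 6, 5, 0, 5, 0, 4, 0, 2, 4] 11 23 23 false [.lett 5, .lett 0, .lett 3, .lett 3, .lett 4, .lett 7, .lett 4, .lett 0, .lett 5, .lett 1, .lett 4, .lett 3, .lett 3, .lett 0, .lett 2, .lett 0, .lett 3, .lett 3, .lett 0, .stab 26 false, .stab 24 false, .stab 29 false, .edge 37 [5, 5, 3, 5, 6, 7, 0, 5, 5], .lett 7, .lett 3, .lett 0] [.lett 2, .lett 0, .stab 29 false, .stab 24 false, .stab 29 false, .stab 24 false, .stab 26 false, .stab 24 false, .edge 28 [2, 6, 7, 5, 6, 2, 7, 6, 5], .lett 7, .lett 3, .lett 0, .stab 15 false, .stab 17 false, .stab 14 false, .stab 17 false, .edge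 22 [0, 0, 0, 7, 1, 5, 6], .lett 5, .lett 1, .lett 4, .lett 2, .lett 5, .lett 7, .lett 4, .lett 1, .lett 4, .lett 0, .lett 4, .lett 3, .lett 1, .lett 3, .lett 1, .lett 2, .stab 17 false, .stab 15 false, .stab 15 false, .stab 17 false, .stab 17 false, .stab 17 false, .stab 16 false, .edge 21 [5, 7, 2, 5, 0, 3]] []⟩,
   ⟨1, 5, 7, 0, [], [], [1, 1, 5, 0, 0, 6, 4, 1, 4, 6], .defEdge⟩,
   ⟨2, 7, 1, 0, [5, 0, 2, 2, 1, 2, 2, 2, 1, 2, 4, 2, 5, 0, 3, 3, 5, 6, 4, 2, 6, 5], [5, 3, 3, 0, 3, 3, 1, 3, 1, 3, 3, 5, 6, 6, 0, 2, 0, 5, 2, 4, 6, 4, 0, 6, 4, 3, 0], [], .loop 0 [5, 0, 2, 2, 1, 2, 2, 1, 2, 1, 2, 2, 0, 4, 0, 3, 1, 5, 1, 5, 6, 4, 0, 2, 4, 1] 9 44 47 false [.lett 1, .lett 6, .stab 3 false, .stab 0 false, .stab 0 false, .stab 2 false, .stab 0 false, .stab 2 false, .stab 3 false, .edge 4 [7, 0, 5, 6, 1, 5, 5, 7], .lett 1, .lett 5, .lett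 3, .lett 5, .lett 7, .lett 2, .lett 2, .lett 5, .lett 7, .lett 2, .lett 5, .lett 3, .lett 5, .lett 1, .lett 4, .lett 3, .lett 3, .lett 0, .lett 3, .lett 3, .lett 0, .lett 3, .stab 6 false, .stab 7 false, .stab 6 false, .stab 7 false, .stab 7 false, .stab 8 false, .stab 7 false, .stab 7 false, .edge 27 [3, 5, 5, 6, 1, 1], .lett 7, .lett 0, .stab 29 false, .stab 25 false, .stab 25 false, .edge 39 [5, 5, 3, 6, 5, 2], .lett 2, .lett 1, .lett 2, .lett 2, .lett 1, .lett 2, .lett 4, .lett 2, .lett 0, .lett 3, .lett 6, .lett 4, .lett 2, .lett 0, .lett 3, .lett 6, .lett 4, .lett 0] [.stab 3 false, .stab 2 false, .stab 1 false, .stab 1 false, .stab 2 false, .stab 0 false, .stab 2 false, .stab 2 false, .stab 3 false, .stab 1 false, .edge 4 [1, 5, 6, 7, 2, 5, 3, 6]] []⟩,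
   ⟨1, 1, 8, 0, [], [], [3, 7], .defEdge⟩,
   ⟨0, 8, 8, 0, [7, 7], [7, 7], [], .loop 1 [5, 3, 3, 0, 3, 3, 1, 2, 1, 2, 4, 3, 1, 2, 7, 5, 1, 5, 2, 0] 12 0 1 false [.stab 5 true, .edge 41 [0, 1, 7, 0, 5, 0, 2]] [.edge 41 [3, 5, 0, 2, 3, 7]] []⟩,
   ⟨0, 8, 8, 0, [5, 0, 2, 2, 1, 2, 2, 0, 2, 0, 2, 2, 4, 3, 0, 2, 2], [0], [], .loop 1 [5, 0, 2, 2, 1, 2, 2, 1, 3, 3, 1, 4, 1, 2, 5, 6] 12 0 1 false [.stab 8 true, .edge 41 [5, 5, 7, 5, 6, 5]] [.edge 41 [5, 5, 6, 7, 5, 6, 5]] []⟩,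
   ⟨0, 8, 8, 0, [5, 0, 2, 2, 1, 2, 1, 2, 2, 4, 3, 5, 5, 2, 0, 2, 6, 4, 1, 3, 3, 4, 3, 1], [5, 3, 3, 0, 3, 3, 1, 2, 0, 4, 1, 5, 2, 7, 4, 3, 0, 2, 4, 0, 2], [], .loop 0 [5, 0, 2, 1, 3, 3, 4, 0, 5, 2, 1, 3, 4, 6, 4, 0, 6, 5, 0, 2, 4] 5 19 28 false [.lett 5, .lett 2, .lett 2, .lett 1, .lett 4, .lett 2, .lett 0, .stab 0 false, .stab 1 false, .stab 0 false, .stab 3 false, .stab 2 false, .stab 0 false, .stab 2 false, .stab 3 false, .edge 4 [0, 5, 3, 4, 6, 5, 7, 6], .lett 7, .lett 3, .lett 0, .stab 8 false, .stab 7 false, .stab 7 false, .stab 7 false, .stab 6 false, .stab 7 false, .stab 7 false, .stab 6 false, .stab 5 false, .stab 7 false, .edge 41 [5, 5, 5], .lett 5, .lett 1, .lett 4, .lett 2, .lett 5, .lett 7, .lett 4, .lett 1, .lett 4, .lett 0, .lett 4, .lett 3, .lett 1, .lett 3, .lett 1, .lett 2] [.lett 7, .lett 4, .lett 0, .lett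 5, .lett 1, .lett 4, .lett 3, .lett 3, .lett 0, .lett 2, .lett 0, .lett 3, .lett 3, .lett 0, .stab 3 false, .stab 2 false, .stab 0 false, .stab 3 false, .stab 2 false, .stab 1 false, .stab 2 false, .stab 0 false, .stab 2 false, .stab 3 false, .edge 4 [0, 5, 2, 7, 0, 5, 6, 7], .lett 7, .lett 3, .lett 0, .stab 6 false, .stab 6 false, .stab 7 false, .stab 6 false, .stab 7 false, .stab 8 false, .stab 7 false, .stab 6 false, .stab 7 false, .stab 7 false, .stab 6 false, .edge 41 [6, 5]] []⟩,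
   ⟨1, 8, 8, 0, [5, 0, 2, 2, 1, 2, 2, 0, 2, 4, 2, 2, 5, 5, 0, 3, 6, 4, 0, 6, 5, 6, 5, 1, 4], [5, 3, 3, 0, 3, 0, 3, 3, 0, 4, 1, 4, 3, 4, 3, 3, 6, 4, 1, 2, 4, 7, 2, 2], [5, 5, 6, 6, 4, 2, 4, 6], .loop 1 [5, 3, 3, 0, 3, 3, 1, 2, 2, 0, 3, 4, 3, 3, 4, 6, 5, 0, 3, 5, 1, 5] 8 33 21 false [.lett 4, .lett 3, .lett 6, .lett 4, .lett 3, .lett 0, .lett 4, .lett 2, .lett 7, .lett 0, .lett 0, .stab 8 false, .stab 6 false, .stab 7 false, .stab 6 false, .stab 6 false, .stab 5 false, .stab 7 false, .stab 6 false, .stab 6 false, .edge 41 [7, 1, 0, 5, 7, 1, 6], .lett 6, .lett 4, .lett 3, .lett 0, .lett 4, .lett 0, .lett 6, .lett 4, .lett 0, .stab 42 false, .stab 44 false, .stab 42 false, .stab 44 false, .stab 44 false, .stab 44 false, .stab 43 false] [.lett 3, .lett 1, .lett 5, .lett 0, .lett 3, .lett 0, .lett 2, .lett 0, .lett 3, .stab 8 false,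 .stab 6 false, .stab 7 false, .stab 6 false, .stab 6 false, .stab 7 false, .stab 7 false, .edge 41 [2, 5, 7, 6, 4, 5, 7, 3], .lett 1, .lett 1, .lett 5, .lett 7, .lett 0, .lett 5, .lett 3, .lett 0, .lett 5, .lett 7, .lett 1, .lett 5, .lett 0, .lett 4, .lett 3, .lett 3, .lett 5, .lett 3, .lett 1, .lett 3, .lett 3] [5, 4, 5, 7, 2, 5, 6, 7]⟩,
   ⟨1, 3, 8, 0, [4, 0, 3, 0, 2, 2, 0, 2, 0, 5, 0, 5, 1, 6, 4, 7, 5, 3, 3, 5, 0, 3], [5, 3, 3, 0, 4, 0, 2, 1, 4, 1, 4, 6, 5, 3, 0, 5, 2, 6, 5, 0, 2, 1], [3, 5, 7], .loop 1 [5, 2, 1, 3, 5, 6, 6, 0, 4, 1, 4, 2, 4, 6, 4, 1, 7, 4, 4, 6, 4, 1] 8 35 19 false [.lett 6, .lett 4, .lett 3, .lett 0, .lett 4, .lett 2, .lett 7, .lett 0, .lett 0, .stab 7 false, .stab 6 false, .stab 6 false, .stab 5 false, .stab 7 false, .stab 8 false, .stab 7 false, .edge 13 [2, 6, 7, 3, 0, 3], .lett 6, .lett 4, .lett 3,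 .lett 0, .lett 4, .lett 0, .lett 6, .lett 4, .lett 0, .stab 15 false, .stab 16 false, .stab 17 false, .stab 16 false, .stab 15 false] [.lett 2, .lett 5, .lett 3, .lett 1, .lett 5, .lett 0, .lett 3, .lett 0, .lett 2, .lett 0, .lett 3, .stab 8 false, .stab 7 false, .stab 6 false, .stab 6 false, .stab 8 false, .stab 7 false, .stab 7 false, .stab 6 false, .stab 6 false, .stab 7 false, .edge 41 [5, 0, 5, 7, 5, 3], .lett 1, .lett 1, .lett 5, .lett 7, .lett 0, .lett 5, .lett 3, .lett 0, .lett 5, .lett 7, .lett 1, .lett 5, .lett 0, .lett 4, .lett 3, .lett 3, .lett 5, .lett 3, .lett 1, .lett 3, .lett 3] [1, 1, 2, 2, 2]⟩,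
   ⟨1, 3, 8, 0, [1, 1], [0, 3, 0, 2, 2, 1, 3, 1, 7, 7], [3], .loop 1 [5, 0, 2, 1, 4, 0, 3, 0, 4, 2, 5, 6, 5, 2, 0, 4, 0, 3, 4] 7 2 13 false [.lett 3, .lett 3, .lett 1, .lett 2, .lett 2, .lett 0, .stab 6 false, .stab 5 false, .stab 7 false, .stab 6 false, .stab 6 false, .stab 7 false, .stab 7 false, .stab 6 false, .stab 6 false, .stab 7 false, .edge 13 [6, 1, 7, 4, 6, 5, 7], .lett 3, .lett 3, .lett 1, .lett 2, .lett 2, .lett 0, .stab 15 false, .stab 15 false, .stab 15 false] [.stab 7 false, .stab 6 false, .stab 7 false, .stab 6 false, .stab 7 false, .stab 7 false, .stab 8 false, .stab 7 false, .stab 8 false, .stab 7 false, .edge 41 [5, 4, 5, 5, 6, 7, 6, 5, 2, 6], .lett 0, .lett 3, .lett 3, .lett 0, .lett 2, .lett 2] [5, 7, 3, 5, 5, 6, 7, 0]⟩,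
   ⟨1, 8, 8, 0, [0, 3, 0, 2, 2, 1, 2, 1, 3, 7, 7], [0, 3, 0, 2, 2, 1, 3, 0, 3, 3], [2], .loop 1 [5, 0, 2, 2, 1, 2, 2, 0, 2, 1, 2, 4, 0, 5, 2, 0, 3, 1, 4, 6, 5, 0, 3, 5, 1, 5, 5, 1] 1 3 9 false [.lett 2, .lett 2, .stab 7 false, .stab 7 false, .stab 6 false, .stab 6 false, .stab 7 false, .stab 6 false, .stab 7 false, .stab 7 false, .stab 6 false, .edge 41 [3, 5, 5, 7, 6, 1, 1, 7, 5], .lett 1, .lett 3, .lett 3, .lett 0, .lett 2, .lett 2] [.lett 1, .lett 2, .lett 2, .lett 1, .stab 7 false, .stab 8 false, .stab 7 false, .stab 8 false, .stab 6 false, .stab 7 false, .stab 6 false, .stab 7 false, .edge 41 [0, 1, 6, 4, 7, 6, 2, 6], .lett 3, .lett 3, .lett 1, .lett 2, .lett 2, .lett 0] [0, 6, 3, 0, 5, 3]⟩,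
   ⟨1, 8, 5, 0, [5, 3, 3, 0, 3, 3, 1, 2, 0, 3, 1, 2, 4, 2, 2, 4, 1, 2, 5, 6, 4, 1, 3, 4, 2], [5, 0, 2, 2, 1, 2, 2, 0, 0, 2, 2, 4, 1, 5, 2, 2, 5, 2, 6, 4, 3, 5, 2, 1, 2, 4], [4, 0, 5, 7], .loop 1 [5, 2, 2, 0, 2, 4, 0, 5, 3, 0, 4, 6, 4, 0, 4, 3, 0] 9 5 38 false [.lett 2, .lett 5, .lett 7, .lett 2, .lett 5, .lett 3, .lett 5, .lett 1, .lett 4, .lett 3, .lett 3, .lett 0, .lett 3, .lett 3, .lett 0, .lett 3, .stab 8 false, .stab 6 false, .stab 6 false, .stab 7 false, .stab 7 false, .stab 7 false, .stab 6 false, .stab 7 false, .edge 13 [5, 5, 7, 1, 6, 7, 0, 7], .lett 7, .lett 0, .stab 17 false, .stab 17 false, .stab 17 false, .stab 14 false, .stab 17 false, .stab 14 false, .stab 17 false, .stab 15 false, .stab 15 false, .edge 46 [0, 3, 5, 6, 5, 7, 6, 2, 5], .lett 2, .lett 1, .lett 2, .lett 2, .lett 1, .lett 2, .lett 4, .lett 2, .lett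 0, .lett 3, .lett 6, .lett 4, .lett 2, .lett 0, .lett 3, .lett 6, .lett 4, .lett 0, .stab 44 false, .stab 43 false, .stab 44 false, .stab 43 false] [.lett 3, .lett 6, .lett 4, .lett 2, .lett 4, .lett 0, .stab 7 false, .stab 6 false, .stab 7 false, .stab 8 false, .stab 5 false, .stab 7 false, .edge 27 [0, 1, 6, 3, 5, 7, 5, 6], .lett 7, .lett 0] [6, 7, 0, 3, 5, 2]⟩,
   ⟨0, 8, 8, 0, [5, 3, 3, 0, 3, 3, 1, 2, 1, 2, 4, 1], [1, 2, 1, 3], [], .loop 1 [5, 3, 1, 5, 6, 6, 2, 0, 5, 5, 0, 3, 6, 4, 3, 3, 5, 2, 1, 3] 7 13 16 false [.lett 2, .lett 0, .stab 7 false, .stab 7 false, .stab 6 false, .stab 5 false, .stab 7 false, .stab 6 false, .stab 7 false, .stab 6 false, .stab 6 false, .stab 7 false, .stab 6 false, .edge 41 [0, 0, 6, 7, 5, 4, 6], .lett 3, .lett 3, .lett 1, .lett 2, .lett 2, .lett 1, .edge 48 [1, 5, 0, 1, 3, 6], .lett 3, .lett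 3, .lett 1, .lett 2, .lett 2, .lett 0] [.lett 3, .lett 0, .lett 2, .lett 2, .stab 5 false, .stab 7 false, .stab 8 false, .stab 7 false, .stab 6 false, .stab 6 false, .stab 5 false, .stab 7 false, .stab 7 false, .edge 41 [2, 5, 4, 5, 7, 0, 5, 6, 5]] []⟩,
   ⟨1, 8, 5, 0, [5, 0, 2, 2, 1, 2, 2, 2, 2, 0, 2, 4, 0, 2, 1, 4, 0, 6, 4, 2, 6, 5, 1, 6, 4, 4, 3, 4], [5, 3, 3, 0, 3, 3, 1, 3, 1, 4, 2, 1, 5, 0, 5, 7, 5, 1, 5, 3, 1, 4, 2, 2, 1], [1, 3, 5, 7], .loop 3 [5, 3, 3, 0, 3, 3, 1, 4, 0, 3, 0, 2, 2, 1, 2, 2, 4, 4, 0, 6, 5, 2, 4, 2, 5, 1, 7, 7] 5 7 23 false [.lett 2, .lett 1, .lett 3, .lett 1, .lett 2, .lett 2, .lett 5, .lett 0, .lett 4, .lett 1, .lett 5, .lett 6, .lett 5, .lett 2, .lett 2, .lett 1, .lett 4, .lett 2, .lett 0, .stab 16 false, .stab 16 false, .stab 15 false, .stab 17 false, .stab 17 false, .stab 15 false, .stab 17 false,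 .edge 46 [6, 5, 7, 6, 5, 2, 5, 7], .lett 7, .lett 3, .lett 0, .stab 43 false, .stab 42 false, .stab 44 false, .stab 44 false, .stab 43 false, .stab 50 false] [.lett 3, .lett 0, .stab 15 false, .stab 14 false, .stab 17 false, .stab 16 false, .stab 17 false, .stab 17 false, .stab 15 false, .stab 16 false, .edge 46 [5, 6, 1, 1, 1, 7, 5], .lett 7, .lett 3, .lett 0, .stab 43 false, .stab 50 false, .stab 44 false, .stab 50 false, .stab 44 false, .stab 43 false, .edge 49 [1, 2, 2, 2, 6, 7, 5, 6], .lett 3, .lett 0, .lett 2, .lett 0, .lett 2, .lett 5, .lett 1, .lett 5, .lett 0, .lett 5, .lett 6, .lett 4, .lett 3, .lett 5, .lett 0, .lett 4] [5, 5, 5, 5, 7, 2, 1, 6, 7]⟩,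
   ⟨1, 8, 8, 0, [4, 0, 3, 0, 2, 2, 5, 5, 3, 5, 6, 4, 3, 5, 5, 0, 4, 3, 4], [5, 3, 3, 0, 3, 3, 1, 1, 2, 1, 4, 2, 1, 2, 5, 2, 1, 6, 4, 2, 7, 5, 2], [4, 0, 0, 0, 4, 3, 6], .loop 8 [5, 0, 2, 2, 1, 2, 2, 0, 2, 0, 2, 2, 4, 2, 5, 5, 1, 5, 5, 6, 4, 7, 5, 1, 4, 2, 0, 4] 7 6 16 false [.lett 2, .lett 0, .stab 50 false, .stab 44 false, .stab 50 false, .stab 50 false, .stab 44 false, .stab 43 false, .edge 45 [2, 3, 7, 5, 7, 1], .lett 3, .lett 3, .lett 1, .lett 2, .lett 2, .lett 0, .stab 44 false, .stab 44 false, .stab 50 false, .stab 43 false, .stab 44 false, .edge 45 [3, 7, 6, 5, 7, 2, 6, 1, 6], .lett 3, .lett 3, .lett 1, .lett 2, .lett 2, .lett 1, .stab 43 false, .stab 44 false, .stab 44 false, .stab 43 false, .stab 43 false, .stab 43 false, .stab 42 false] [.lett 3, .lett 0, .lett 2, .lett 2] [5, 5, 6, 7, 6, 1, 7, 2, 7]⟩,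
   ⟨1, 8, 3, 0, [5, 0, 2, 2, 1, 2, 2, 2, 5, 6, 6, 0, 5, 1, 4, 2, 6, 4, 0, 4, 1, 2, 4, 1], [5, 1, 2, 1, 4, 1, 2, 1, 4, 4, 2, 6, 4, 0, 5, 0, 4, 2, 2, 4], [5, 1, 5, 6, 6, 6], .loop 8 [5, 0, 2, 2, 1, 2, 2, 2, 0, 3, 0, 2, 4, 0, 2, 0, 4, 2, 0, 6, 4, 2, 1, 2, 5] 1 17 2 false [.lett 2, .lett 2, .stab 43 false, .stab 43 false, .stab 44 false, .stab 50 false, .stab 44 false, .stab 50 false] [.lett 1, .lett 2, .lett 2, .lett 0, .stab 50 false, .stab 44 false, .stab 50 false, .edge 49 [0, 5, 6, 7, 1, 0, 5, 7], .lett 3, .lett 3, .lett 1, .lett 2, .lett 2, .lett 0, .stab 29 false, .stab 29 false, .stab 26 false, .stab 24 false, .stab 24 false, .edge 28 [5, 2, 0, 7, 3, 6, 7, 6], .lett 3, .lett 3, .lett 1, .lett 2, .lett 2, .lett 1] [6, 1, 6, 7, 0, 5, 6]⟩,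
   ⟨1, 5, 8, 0, [5, 3, 3, 0, 3, 3, 1, 2, 2, 5, 6, 6, 0, 2, 0, 4, 2, 1, 6, 4, 1, 2, 4, 7, 4, 2, 0], [5, 3, 3, 0, 3, 3, 1, 4, 3, 3, 5, 5, 1, 2, 6, 4, 3, 0, 4, 6, 4, 2, 1, 5], [5, 3, 5, 6, 6, 5, 6], .loop 5 [5, 0, 2, 2, 1, 2, 2, 2, 1, 2, 4, 1, 5, 1, 1, 3, 5, 6, 5, 2, 4, 2, 2, 0, 4, 4] 1 5 0 false [.stab 24 false, .stab 26 false, .stab 29 false, .stab 25 false, .stab 29 false, .stab 24 false, .stab 24 false] [.lett 3, .lett 3, .lett 1, .lett 2, .lett 2, .lett 1, .stab 25 false, .stab 29 false, .stab 25 false, .stab 29 false, .stab 25 false, .stab 24 false, .edge 30 [6, 5, 0, 6, 7, 6, 2, 5, 7], .lett 3, .lett 3, .lett 1, .lett 2, .lett 2, .lett 0, .stab 15 false, .stab 16 false, .stab 17 false, .stab 14 false, .stab 17 false, .stab 14 false, .edge 46 [3, 5, 7, 3, 3, 0, 6], .lett 3, .lett 3, .lett 1, .lett 2, .lett 2, .lett 0] [0,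 5, 6, 1, 5, 4, 7, 5, 6]⟩,
   ⟨1, 8, 8, 0, [5, 0, 2, 2, 1, 2, 2, 1, 2, 2, 5, 6, 6, 4, 2, 1, 4, 3, 6, 4, 1, 2, 6, 3, 4, 1, 5, 3], [5, 0, 3, 4, 0, 2, 2, 4, 1, 6, 5, 3, 5, 2, 0, 4], [2, 5, 3, 7], .loop 1 [5, 1, 3, 1, 4, 0, 2, 0, 4, 0, 4, 6, 4, 1, 3, 5, 5, 2] 4 11 55 false [.lett 2, .lett 2, .lett 4, .lett 2, .lett 6, .lett 4, .lett 3, .lett 3, .lett 6, .lett 4, .lett 2, .lett 4, .stab 6 false, .stab 8 false, .stab 7 false, .stab 8 false, .stab 6 false, .stab 7 false, .stab 8 false, .stab 6 false, .stab 6 false, .stab 7 false, .edge 41 [0, 5, 0, 2, 6, 1, 6, 5], .lett 3, .lett 3, .lett 1, .lett 4, .lett 2, .lett 5, .lett 2, .lett 1, .lett 5, .lett 5, .lett 6, .lett 4, .lett 0, .lett 4, .lett 1, .lett 4, .lett 3, .lett 7, .lett 0, .stab 43 false, .stab 50 false, .stab 44 false, .stab 44 false, .stab 44 false, .edge 45 [7, 6, 3, 2,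 6, 7], .lett 5, .lett 3, .lett 5, .lett 7, .lett 2, .lett 2, .lett 5, .lett 7, .lett 3, .lett 5, .lett 3, .lett 3, .lett 5, .lett 2, .lett 0, .lett 2, .lett 2, .lett 0, .lett 2, .lett 1, .lett 3, .lett 0, .stab 42 false, .stab 44 false, .stab 50 false, .stab 50 false, .stab 44 false, .stab 42 false] [.lett 5, .lett 2, .lett 0, .lett 2, .lett 2, .lett 0, .lett 2, .lett 1, .lett 3, .lett 0, .stab 8 false, .stab 7 false, .stab 8 false, .stab 8 false, .stab 8 false, .stab 6 false, .stab 7 false, .stab 6 false, .stab 7 false, .stab 6 false, .stab 7 false, .edge 41 [2, 2, 6, 3, 7, 5], .lett 0, .lett 3, .lett 0, .lett 2, .lett 2, .lett 0, .lett 5, .lett 0, .lett 2, .lett 1, .lett 6, .lett 4, .lett 0, .lett 5, .lett 3, .lett 5, .lett 1, .lett 6] [5, 6, 3, 7, 1, 5, 5]⟩,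
   ⟨1, 8, 8, 0, [5, 0, 2, 2, 1, 2, 2, 0, 3, 0, 2, 2, 4, 0, 5, 0, 3, 4, 0, 6, 5, 3, 5, 3, 3], [5, 3, 3, 0, 3, 3, 3, 1, 4, 2, 0, 4, 3, 0, 6, 4, 2, 1, 4, 1, 5, 5], [1, 4, 0, 5, 7], .loop 5 [5, 0, 3, 3, 1, 4, 0, 3, 4, 4, 0, 3, 6, 5, 0, 4, 3, 3, 4, 3] 10 75 28 false [.lett 2, .lett 0, .lett 2, .lett 2, .lett 0, .lett 2, .lett 1, .lett 3, .lett 0, .stab 25 false, .stab 24 false, .stab 24 false, .stab 29 false, .stab 29 false, .edge 54 [5, 6, 1, 1, 3, 6, 7, 6, 5], .lett 0, .lett 3, .lett 0, .lett 2, .lett 2, .lett 0, .lett 5, .lett 0, .lett 2, .lett 1, .lett 6, .lett 4, .lett 0, .lett 5, .lett 3, .lett 5, .lett 1, .lett 6, .stab 44 false, .stab 44 false, .stab 44 false, .stab 50 false, .stab 42 false] [.lett 4, .lett 2, .lett 2, .lett 4, .lett 2, .lett 6, .lett 4, .lett 3, .lett 3, .lett 6, .lett 4, .lett 2, .lett 4, .stab 26 false,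 .stab 26 false, .stab 29 false, .stab 29 false, .stab 25 false, .stab 29 false, .edge 54 [2, 7, 6, 5, 3, 5, 5, 7, 6], .lett 3, .lett 3, .lett 1, .lett 4, .lett 2, .lett 5, .lett 2, .lett 1, .lett 5, .lett 5, .lett 6, .lett 4, .lett 0, .lett 4, .lett 1, .lett 4, .lett 3, .lett 7, .lett 0, .stab 44 false, .stab 50 false, .stab 42 false, .stab 44 false, .stab 44 false, .stab 44 false, .edge 55 [0, 4, 7, 6, 2, 5, 2], .lett 5, .lett 3, .lett 5, .lett 7, .lett 2, .lett 2, .lett 5, .lett 7, .lett 3, .lett 5, .lett 3, .lett 3, .lett 5, .lett 2, .lett 0, .lett 2, .lett 2, .lett 0, .lett 2, .lett 1, .lett 3, .lett 0] [1, 6, 5, 3, 5, 5, 5, 7, 1]⟩,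
   ⟨1, 8, 8, 0, [5, 3, 3, 0, 3, 3, 1, 1, 2, 5, 6, 6, 1, 5, 0, 4, 2, 7, 5, 0, 5, 2, 0], [5, 0, 0, 2, 2, 4, 3, 5, 2, 0, 3, 4, 6, 4, 2, 2, 7], [3, 4, 0, 4, 6, 6, 5, 1, 1, 6], .loop 1 [5, 3, 5, 6, 6, 2, 5, 3, 4, 2, 1, 6, 4, 0, 2, 0, 4] 4 29 56 false [.lett 5, .lett 2, .lett 1, .lett 5, .lett 5, .lett 6, .lett 4, .lett 0, .lett 4, .lett 1, .lett 4, .lett 3, .lett 7, .lett 0, .stab 7 false, .stab 6 false, .stab 6 false, .stab 6 false, .stab 7 false, .stab 6 false, .stab 7 false, .stab 6 false, .stab 7 false, .stab 6 false, .stab 7 false, .edge 41 [1, 5, 7, 0, 0, 5, 2, 6], .lett 5, .lett 3, .lett 5, .lett 7, .lett 2, .lett 2, .lett 5, .lett 7, .lett 3, .lett 5, .lett 3, .lett 3, .lett 5, .lett 2, .lett 0, .lett 2, .lett 2, .lett 0, .lett 2, .lett 1, .lett 3, .lett 0, .stab 42 false, .stab 44 false, .stab 44 false, .stab 44 false,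 .stab 50 false, .edge 56 [4, 5, 5, 5, 6, 5, 7, 0, 6, 5], .lett 7, .lett 0, .lett 4, .lett 2, .lett 4, .lett 1, .lett 5, .lett 7, .lett 0, .lett 3, .lett 1, .lett 4, .lett 1, .lett 3, .lett 3, .lett 1, .lett 2, .lett 1, .stab 43 false, .stab 44 false, .stab 44 false, .stab 43 false, .stab 43 false, .stab 43 false] [.lett 3, .lett 5, .lett 0, .lett 2, .lett 2, .stab 6 false, .stab 6 false, .stab 6 false, .stab 7 false, .stab 7 false, .stab 8 false, .stab 7 false, .stab 6 false, .stab 5 false, .stab 7 false, .stab 6 false, .edge 41 [1, 5, 5, 5, 5, 5, 3, 2, 6], .lett 5, .lett 3, .lett 5, .lett 7, .lett 2, .lett 2, .lett 5, .lett 7, .lett 3, .lett 5, .lett 3, .lett 3, .lett 5, .lett 2, .lett 0, .lett 2, .lett 2, .lett 0, .lett 2, .lett 1, .lett 3, .lett 0] [0, 7, 4, 5, 6, 7, 1]⟩,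
   ⟨1, 8, 5, 0, [5, 0, 2, 0, 3, 4, 2, 5, 3, 4, 0, 4, 6, 5, 2, 0, 5, 0, 2, 2], [5, 3, 3, 0, 3, 3, 1, 2, 0, 3, 0, 3, 4, 0, 4, 4, 0, 2, 4, 6, 4, 3, 3, 0, 4], [3, 5, 2, 7], .loop 8 [5, 3, 3, 0, 3, 3, 1, 2, 0, 3, 1, 3, 4, 0, 5, 0, 3, 0, 2, 6, 4, 6, 3, 5, 1, 4] 9 31 12 false [.lett 4, .lett 2, .lett 0, .lett 3, .lett 6, .lett 4, .lett 2, .lett 0, .lett 3, .lett 6, .lett 4, .lett 0, .stab 44 false, .stab 50 false, .stab 43 false, .stab 44 false, .stab 44 false, .stab 44 false] [.lett 3, .lett 0, .lett 3, .lett 3, .lett 0, .lett 3, .stab 43 false, .stab 44 false, .stab 50 false, .stab 42 false, .stab 44 false, .edge 55 [6, 2, 5, 6, 7, 3], .lett 1, .lett 6, .stab 43 false, .stab 50 false, .stab 44 false, .stab 44 false, .stab 43 false, .stab 43 false, .edge 56 [3, 5, 2, 5, 7, 1, 2], .lett 2, .lett 1, .lett 2, .lett 2, .lett 1, .lett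 2, .lett 2, .lett 5, .lett 0, .lett 4, .lett 2, .lett 4, .lett 3, .lett 6, .lett 4, .lett 3, .lett 3, .lett 6, .lett 4, .lett 2, .lett 4, .lett 0, .stab 42 false, .stab 44 false, .stab 44 false, .stab 50 false, .stab 44 false, .stab 44 false, .edge 49 [5, 0, 5, 7, 0, 5, 5, 6], .lett 7, .lett 0] [0, 5, 4, 6, 7, 6, 3]⟩,
   ⟨1, 5, 8, 0, [5, 0, 2, 2, 1, 2, 2, 0, 4, 3, 4, 0, 5, 3, 6, 4, 0, 7, 5, 5, 0, 2, 1], [5, 0, 2, 2, 1, 2, 2, 0, 3, 0, 3, 4, 1, 3, 5, 0, 2, 0, 6, 4, 3, 4, 6, 1, 1, 2, 4], [4, 0, 0, 0, 3, 1, 4, 6], .loop 8 [5, 2, 2, 5, 6, 6, 0, 4, 4, 3, 4, 4, 6, 4, 7, 5, 0, 4, 0, 4, 0] 3 21 31 false [.lett 0, .lett 3, .stab 44 false, .stab 42 false, .stab 44 false, .stab 43 false, .edge 45 [1, 5, 6, 4, 7, 5, 6, 2], .lett 1, .lett 6, .stab 42 false, .stab 44 false, .stab 43 false, .stab 50 false, .edge 53 [5, 3, 7, 5, 2, 5, 6, 5,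 7], .lett 2, .lett 1, .lett 2, .lett 2, .lett 1, .lett 2, .lett 2, .lett 5, .lett 0, .lett 4, .lett 2, .lett 4, .lett 3, .lett 6, .lett 4, .lett 3, .lett 3, .lett 6, .lett 4, .lett 2, .lett 4, .lett 0, .stab 16 false, .stab 17 false, .stab 17 false, .stab 16 false, .stab 16 false, .stab 15 false, .edge 32 [0, 6, 5, 3, 7, 5], .lett 7, .lett 0, .stab 24 false, .stab 24 false, .stab 29 false, .stab 25 false, .stab 24 false, .stab 26 false, .stab 24 false] [.lett 2, .lett 2, .lett 1, .lett 2, .lett 4, .lett 2, .lett 0, .lett 3, .lett 6, .lett 4, .lett 2, .lett 0, .lett 3, .lett 6, .lett 4, .lett 0] [3, 5, 7, 1, 7, 2, 5, 7]⟩]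

/-- facts -/
def facts2 : List Fact :=
  [⟨1, 8, 5, 0, [5, 3, 3, 0, 3, 3, 1, 1, 3, 3, 4, 2, 0, 4, 4, 6, 4, 1, 6, 5, 0, 2, 5, 5], [5, 3, 3, 0, 3, 3, 1, 3, 1, 3, 3, 4, 3, 1, 2, 5, 5, 6, 4, 4, 3, 6, 5], [3, 5, 7], .loop 8 [5, 1, 2, 5, 6, 6, 3, 1, 2, 2, 4, 6, 5, 3, 5, 6, 4, 2, 4, 3, 6] 3 14 12 false [.lett 1, .lett 3, .lett 5, .lett 3, .lett 0, .lett 3, .lett 3, .lett 0, .lett 3, .stab 50 false, .stab 44 false, .stab 50 false, .stab 43 false, .edge 56 [0, 3, 3, 5, 6, 0], .lett 1, .lett 6, .stab 44 false, .stab 44 false, .stab 44 false, .stab 50 false, .stab 44 false, .stab 44 false] [.lett 3, .lett 6, .lett 4, .lett 2, .lett 0, .lett 3, .lett 6, .lett 4, .lett 0, .stab 43 false, .stab 43 false, .stab 44 false, .edge 49 [2, 0, 5, 3, 6, 7, 3], .lett 1, .lett 6, .stab 24 false, .stab 26 false, .stab 29 false, .stab 24 false, .stab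 29 false, .stab 24 false, .edge 34 [2, 5, 5, 0, 5, 5, 5, 5, 6], .lett 1, .lett 5, .lett 3, .lett 5, .lett 7, .lett 2, .lett 2, .lett 5, .lett 7, .lett 2, .lett 5, .lett 3, .lett 5, .lett 1, .lett 4, .lett 3, .lett 3, .lett 0, .lett 3, .lett 3, .lett 0, .lett 3] [7, 1, 5, 6, 1, 7, 6, 2]⟩,
   ⟨1, 8, 8, 0, [5, 3, 3, 0, 3, 3, 3, 1, 2, 4, 0, 5, 0, 5, 3, 1, 6, 5, 2, 4, 0, 2, 4], [5, 0, 2, 1, 2, 2, 4, 2, 0, 5, 3, 6, 4, 2, 1, 4, 1, 5, 5], [3, 5, 3, 7], .loop 1 [5, 3, 3, 0, 3, 3, 1, 4, 3, 0, 5, 2, 2, 0, 2, 0, 2, 1, 4, 0, 2, 6, 5, 3, 5, 5, 3, 0] 3 5 21 false [.lett 1, .lett 5, .lett 7, .lett 2, .lett 1, .lett 3, .lett 5, .lett 7, .lett 2, .lett 1, .lett 3, .lett 5, .lett 3, .lett 0, .lett 3, .lett 3, .lett 0, .lett 3, .stab 5 false, .stab 7 false, .stab 8 false, .stab 7 false, .stab 7 false, .stab 6 false, .stab 7 false, .stab 6 false,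 .edge 41 [5, 6, 7, 4, 6, 5, 3, 6, 5], .lett 1, .lett 6, .stab 43 false, .stab 42 false, .stab 44 false, .stab 44 false, .stab 44 false, .stab 43 false, .stab 42 false] [.stab 5 false, .stab 7 false, .stab 7 false, .stab 8 false, .stab 7 false, .stab 6 false, .stab 7 false, .stab 6 false, .stab 6 false, .stab 7 false, .edge 13 [1, 6, 1, 5, 5, 0, 5, 6, 5], .lett 1, .lett 6, .stab 16 false, .stab 15 false, .stab 16 false, .stab 17 false, .stab 17 false, .stab 15 false, .stab 15 false, .stab 16 false, .edge 46 [5, 3, 3, 7, 5, 6, 5], .lett 1, .lett 5, .lett 3, .lett 5, .lett 7, .lett 2, .lett 2, .lett 5, .lett 7, .lett 2, .lett 5, .lett 3, .lett 5, .lett 1, .lett 4, .lett 3, .lett 3, .lett 0, .lett 3, .lett 3, .lett 0, .lett 3] [0, 4, 7, 5, 7, 6, 2, 5]⟩,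
   ⟨1, 8, 8, 0, [5, 0, 2, 2, 1, 2, 2, 2, 0, 3, 1, 2, 4, 0, 2, 4, 0, 5, 6, 5, 0, 5, 3, 5], [5, 1, 4, 0, 2, 1, 5, 6, 4, 3, 5, 2, 6, 6, 4, 3, 1, 3], [6, 4, 1, 4, 6], .loop 8 [5, 0, 2, 2, 1, 2, 2, 0, 3, 1, 5, 6, 6, 1, 3, 5, 6, 4, 0, 4, 4, 1, 5, 3] 4 22 44 false [.lett 4, .stab 43 false, .stab 44 false, .stab 44 false, .stab 43 false, .stab 43 false, .stab 43 false, .stab 42 false, .edge 55 [3, 5, 7, 2, 6, 0, 5, 7], .lett 3, .lett 3, .lett 1, .lett 4, .lett 2, .lett 5, .lett 2, .lett 1, .lett 5, .lett 5, .lett 6, .lett 4, .lett 0, .lett 4, .lett 1, .lett 4, .lett 3, .lett 7, .lett 0, .stab 43 false, .stab 44 false, .stab 43 false, .stab 43 false, .stab 43 false, .edge 57 [5, 6, 7, 4, 6, 3], .lett 5, .lett 3, .lett 5, .lett 7, .lett 2, .lett 2, .lett 5, .lett 7, .lett 3, .lett 5, .lett 3, .lett 3, .lett 5, .lett 2, .lett 0, .lett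 2, .lett 2, .lett 0, .lett 2, .lett 1, .lett 3, .lett 0, .stab 44 false, .stab 50 false, .stab 50 false, .stab 43 false] [.lett 3, .lett 5, .lett 7, .lett 2, .lett 2, .lett 5, .lett 7, .lett 3, .lett 5, .lett 3, .lett 3, .lett 5, .lett 2, .lett 0, .lett 2, .lett 2, .lett 0, .lett 2, .lett 1, .lett 3, .lett 0, .stab 44 false, .stab 42 false, .stab 44 false, .stab 44 false, .stab 44 false, .stab 43 false, .edge 52 [0, 4, 5, 3, 5, 7, 6], .lett 0, .lett 3, .lett 0, .lett 2, .lett 2, .lett 0, .lett 5, .lett 0, .lett 2, .lett 1, .lett 6, .lett 4, .lett 0, .lett 5, .lett 3, .lett 5, .lett 1, .lett 6] [0, 5, 7, 3, 6, 0, 5, 6, 7, 6]⟩,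
   ⟨1, 8, 8, 0, [5, 3, 0, 3, 4, 0, 3, 0, 5, 5, 0, 4, 6, 4, 3, 0, 4], [5, 3, 3, 0, 3, 3, 1, 2, 0, 4, 2, 4, 3, 5, 5, 3, 6, 4, 2, 0, 3, 6, 4, 3, 6, 5, 2], [5, 5, 6, 6, 5, 6], .loop 1 [5, 3, 3, 0, 3, 3, 1, 2, 1, 2, 4, 2, 4, 3, 7, 5, 3, 0, 3, 3] 8 12 32 false [.lett 0, .lett 6, .lett 4, .lett 1, .lett 2, .lett 4, .lett 1, .lett 6, .lett 4, .lett 0, .lett 0, .stab 5 false, .stab 7 false, .stab 6 false, .stab 8 false, .stab 5 false, .stab 7 false, .stab 6 false, .stab 6 false, .stab 5 false, .stab 7 false, .edge 41 [2, 5, 5, 6, 7, 3, 5, 5, 7], .lett 2, .lett 1, .lett 3, .lett 1, .lett 2, .lett 1, .lett 4, .lett 0, .lett 2, .lett 4, .lett 3, .lett 6, .lett 4, .lett 3, .lett 0, .lett 4, .lett 2, .lett 7, .lett 0, .lett 0, .stab 42 false, .stab 44 false, .stab 44 false, .stab 44 false, .stab 42 false, .stab 44 false] [.lett 5, .lett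 0, .lett 4, .lett 3, .lett 3, .lett 5, .lett 3, .lett 1, .lett 3, .lett 3, .stab 7 false, .stab 8 false, .stab 7 false, .stab 6 false, .stab 6 false, .stab 7 false, .stab 8 false, .stab 7 false, .stab 6 false, .stab 6 false, .stab 6 false, .edge 41 [1, 1, 7, 5, 2, 4, 7, 6, 5], .lett 1, .lett 5, .lett 7, .lett 1, .lett 5, .lett 1, .lett 2, .lett 5, .lett 7] [0, 7, 6, 4, 5, 3, 6, 7, 6]⟩,
   ⟨1, 8, 8, 0, [5, 3, 3, 0, 3, 0, 4, 3, 3, 1, 4, 2, 6, 4, 1, 4, 0], [5, 0, 2, 2, 1, 2, 2, 2, 2, 1, 3, 4, 2, 2, 5, 0, 4, 2, 6, 4, 2, 4, 4, 2], [2, 4, 0, 5, 7], .loop 8 [5, 3, 3, 0, 3, 3, 1, 2, 0, 3, 1, 3, 4, 2, 0, 3, 3, 5, 6, 4, 2, 1, 4, 1, 4, 0] 10 40 21 false [.lett 4, .stab 44 false, .stab 44 false, .stab 50 false, .stab 43 false, .stab 42 false, .edge 52 [6, 5, 3, 6, 7, 1, 3], .lett 1, .lett 6, .lett 2, .lett 5, .lett 0, .lett 5, .lett 1,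 .lett 5, .lett 7, .lett 4, .lett 4, .lett 0, .lett 3, .lett 4, .lett 3, .lett 5, .lett 0, .lett 2, .lett 2, .stab 50 false, .stab 44 false, .stab 43 false, .stab 43 false] [.lett 3, .lett 5, .lett 7, .lett 2, .lett 2, .lett 5, .lett 7, .lett 3, .lett 5, .lett 3, .lett 3, .lett 5, .lett 2, .lett 0, .lett 2, .lett 2, .lett 0, .lett 2, .lett 1, .lett 3, .lett 0, .stab 44 false, .stab 50 false, .stab 43 false, .stab 44 false, .stab 42 false, .stab 44 false, .edge 57 [3, 4, 6, 5, 7, 0, 6, 7], .lett 7, .lett 0, .lett 4, .lett 2, .lett 4, .lett 1, .lett 5, .lett 7, .lett 0, .lett 3, .lett 1, .lett 4, .lett 1, .lett 3, .lett 3, .lett 1, .lett 2, .lett 1, .stab 43 false, .stab 43 false, .stab 44 false, .stab 43 false, .edge 61 [6, 7, 5, 3, 4, 5, 7, 6], .lett 1, .lett 2, .lett 0, .lett 3, .lett 1, .lett 3, .lett 3, .lett 1, .lett 3,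 .lett 4, .lett 2, .lett 2, .lett 4, .lett 2, .lett 6, .lett 4, .lett 3, .lett 3, .lett 6, .lett 4, .lett 2, .lett 4] [4, 6, 5, 7, 6, 2, 1, 7, 5]⟩,
   ⟨1, 5, 8, 0, [5, 0, 2, 2, 1, 2, 0, 3, 3, 0, 4, 2, 4, 0, 5, 6, 4, 3, 5, 0, 0, 3, 4], [5, 0, 2, 2, 1, 2, 2, 2, 1, 3, 3, 4, 1, 4, 2, 7, 4, 1, 4, 1, 4], [5, 3, 0, 5, 6, 6, 6], .loop 5 [5, 1, 3, 4, 0, 5, 1, 2, 1, 5, 6, 4, 4, 2, 5, 5, 3, 4] 5 45 2 false [.lett 1, .lett 2, .stab 26 false, .stab 29 false, .stab 24 false, .stab 25 false, .stab 29 false] [.lett 2, .lett 0, .lett 2, .lett 5, .lett 1, .lett 5, .lett 0, .lett 5, .lett 6, .lett 4, .lett 3, .lett 5, .lett 0, .lett 4, .stab 26 false, .stab 29 false, .stab 25 false, .stab 24 false, .stab 24 false, .stab 24 false, .edge 54 [0, 1, 5, 3, 0, 7], .lett 1, .lett 2, .lett 6, .stab 43 false, .stab 43 false, .stab 44 false, .stab 50 false,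 .stab 44 false, .stab 43 false, .edge 57 [7, 5, 6, 2, 6, 3, 5, 7, 6], .lett 1, .lett 3, .lett 5, .lett 0, .lett 3, .lett 3, .lett 4, .lett 7, .lett 4, .lett 0, .lett 5, .lett 1, .lett 4, .lett 3, .lett 3, .lett 0, .lett 2, .lett 0, .lett 3, .lett 3, .lett 0, .stab 50 false, .stab 44 false, .stab 43 false, .stab 43 false, .stab 43 false, .edge 52 [3, 6, 5, 7, 6, 3, 5, 5], .lett 7, .lett 3, .lett 0] [5, 5, 6, 0, 3, 2]⟩,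
   ⟨1, 8, 8, 0, [5, 0, 2, 2, 1, 2, 2, 0, 2, 4, 2, 0, 2, 2, 6, 4, 4, 4, 3, 5, 2, 4, 4], [5, 0, 2, 2, 1, 2, 0, 3, 1, 2, 4, 0, 5, 1, 5, 3, 6, 5, 1, 4, 2, 5], [5, 3, 1, 2, 2, 5, 6, 6, 2, 2, 4, 2, 0, 5, 6], .loop 8 [5, 0, 2, 2, 1, 2, 2, 0, 2, 4, 0, 3, 1, 4, 1, 4, 6, 5, 3, 5, 2, 1, 3, 4, 1] 9 34 35 false [.lett 3, .lett 6, .lett 4, .lett 2, .lett 0, .lett 3, .lett 6, .lett 4, .lett 0, .stab 42 false, .stab 44 false, .stab 43 false, .stab 43 false, .stab 42 false, .edge 57 [0, 5, 3, 3, 0, 7, 6], .lett 1, .lett 6, .stab 44 false, .stab 50 false, .stab 44 false, .stab 42 false, .stab 44 false, .stab 50 false, .stab 43 false, .edge 57 [7, 5, 3, 6, 5, 7, 1, 5, 5, 6], .lett 1, .lett 5, .lett 3, .lett 5, .lett 7, .lett 2, .lett 2, .lett 5, .lett 7, .lett 2, .lett 5, .lett 3, .lett 5, .lett 1, .lett 4, .lett 3, .lett 3, .lett 0, .lett 3,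 .lett 3, .lett 0, .lett 3, .stab 44 false, .stab 44 false, .stab 44 false, .stab 50 false] [.lett 1, .lett 3, .lett 5, .lett 3, .lett 0, .lett 3, .lett 3, .lett 0, .lett 3, .stab 44 false, .stab 44 false, .stab 44 false, .stab 50 false, .stab 44 false, .stab 42 false, .edge 52 [0, 2, 7, 6, 2, 2], .lett 1, .lett 6] [2, 3, 7, 0, 6, 5, 7]⟩,
   ⟨1, 8, 8, 0, [3, 0, 5, 2, 2, 0, 2, 0, 0, 4, 4, 3, 5, 0, 6, 4, 2, 0, 6, 3, 4], [5, 3, 3, 0, 3, 3, 1, 2, 2, 0, 3, 4, 1, 3, 4, 0, 3, 1, 6, 5, 3, 3, 5, 0, 2, 2, 4], [5, 6, 4, 6], .loop 1 [5, 0, 2, 2, 1, 2, 2, 2, 1, 3, 1, 4, 2, 1, 3, 5, 3, 4, 6, 4, 0, 5, 6, 3, 4, 7, 7] 9 22 21 false [.lett 7, .lett 0, .stab 6 false, .stab 6 false, .stab 7 false, .stab 8 false, .stab 8 false, .stab 6 false, .stab 7 false, .stab 6 false, .stab 6 false, .stab 7 false, .edge 41 [0, 7, 5, 2, 3, 7, 2], .lett 2, .lett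 1, .lett 2, .lett 2, .lett 1, .lett 2, .lett 4, .lett 2, .lett 0, .lett 3, .lett 6, .lett 4, .lett 2, .lett 0, .lett 3, .lett 6, .lett 4, .lett 0, .stab 43 false, .stab 43 false] [.stab 6 false, .stab 7 false, .stab 8 false, .stab 6 false, .stab 7 false, .stab 7 false, .stab 8 false, .stab 7 false, .edge 13 [5, 6, 1, 7, 6, 5, 2, 7], .lett 2, .lett 1, .lett 2, .lett 2, .lett 1, .lett 2, .lett 2, .lett 5, .lett 0, .lett 4, .lett 2, .lett 4, .lett 3, .lett 6, .lett 4, .lett 3, .lett 3, .lett 6, .lett 4, .lett 2, .lett 4, .lett 0, .stab 16 false, .stab 14 false, .stab 17 false, .stab 14 false, .stab 17 false, .stab 17 false, .edge 46 [6, 3, 7, 3, 5, 3], .lett 7, .lett 0] [6, 2, 1, 7, 5, 6, 5, 0]⟩,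
   ⟨1, 8, 8, 0, [5, 0, 2, 2, 1, 2, 2, 0, 3, 0, 2, 2, 4, 0, 3, 4, 1, 2, 4, 6, 4, 3, 4, 0, 2], [5, 0, 2, 2, 1, 2, 2, 0, 3, 0, 2, 2, 4, 0, 3, 5, 3, 1, 2, 6, 5, 0, 4, 1, 5, 2, 2, 1, 4], [5, 1, 5, 6, 6, 3, 6], .loop 8 [5, 3, 3, 0, 3, 1, 5, 6, 6, 2, 1, 2, 4, 4, 6, 5, 3, 3, 0, 4] 9 34 38 false [.lett 3, .lett 6, .lett 4, .lett 2, .lett 0, .lett 3, .lett 6, .lett 4, .lett 0, .stab 43 false, .stab 44 false, .stab 50 false, .stab 44 false, .stab 43 false, .stab 50 false, .stab 42 false, .edge 58 [5, 3, 6, 2, 3, 5], .lett 1, .lett 6, .stab 26 false, .stab 26 false, .stab 24 false, .stab 29 false, .stab 26 false, .stab 25 false, .stab 24 false, .edge 54 [6, 5, 7, 1, 6, 5, 7, 1], .lett 1, .lett 5, .lett 3, .lett 5, .lett 7, .lett 2, .lett 2, .lett 5, .lett 7, .lett 2, .lett 5, .lett 3, .lett 5, .lett 1, .lett 4, .lett 3, .lett 3, .lett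 0, .lett 3, .lett 3, .lett 0, .lett 3, .stab 44 false, .stab 50 false, .stab 43 false, .stab 44 false, .stab 44 false, .stab 43 false, .edge 56 [0, 7, 3, 6, 5, 7, 5, 3, 5], .lett 7, .lett 0, .stab 50 false, .stab 50 false, .stab 44 false, .stab 44 false, .stab 50 false, .stab 43 false] [.lett 1, .lett 3, .lett 5, .lett 3, .lett 0, .lett 3, .lett 3, .lett 0, .lett 3] [1, 6, 2, 5, 3, 2]⟩,
   ⟨1, 5, 8, 0, [5, 0, 2, 2, 1, 2, 2, 4, 4, 3, 1, 4, 3, 5, 3, 0, 3, 3, 6, 4, 4, 3, 3, 5, 2, 0, 4], [5, 3, 1, 3, 3, 1, 3, 4, 0, 4, 0, 3, 0, 5, 6, 4, 2, 0, 3, 5, 2, 1], [4, 0, 0, 0, 4, 3, 6], .loop 5 [5, 3, 3, 0, 3, 3, 3, 3, 5, 6, 6, 1, 2, 2, 4, 0, 6, 4, 6, 4, 1, 5, 2, 5] 3 26 26 false [.stab 25 false, .stab 25 false, .stab 29 false, .stab 25 false, .stab 24 false, .stab 29 false, .stab 25 false, .edge 59 [5, 5, 5, 4, 5, 0, 7, 6], .lett 2, .lett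 1, .lett 2, .lett 2, .lett 1, .lett 2, .lett 2, .lett 5, .lett 0, .lett 4, .lett 2, .lett 4, .lett 3, .lett 6, .lett 4, .lett 3, .lett 3, .lett 6, .lett 4, .lett 2, .lett 4, .lett 0, .stab 50 false, .stab 44 false, .stab 44 false, .stab 44 false, .stab 43 false, .edge 49 [5, 7, 3, 6, 7, 3, 5], .lett 7, .lett 0, .stab 25 false, .stab 25 false, .stab 29 false, .stab 26 false, .stab 24 false] [.lett 7, .lett 0, .stab 25 false, .stab 29 false, .stab 26 false, .stab 24 false, .edge 59 [1, 2, 3, 6, 5, 7], .lett 2, .lett 1, .lett 2, .lett 2, .lett 1, .lett 2, .lett 4, .lett 2, .lett 0, .lett 3, .lett 6, .lett 4, .lett 2, .lett 0, .lett 3, .lett 6, .lett 4, .lett 0] [0, 7, 2, 3, 5, 7, 5]⟩,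
   ⟨1, 8, 8, 0, [5, 0, 2, 2, 1, 2, 2, 1, 2, 0, 3, 3, 1, 4, 0, 3, 4, 3, 5, 6, 5, 3, 4, 0, 5, 1, 5, 3], [5, 0, 2, 2, 1, 2, 2, 0, 3, 0, 2, 2, 4, 0, 2, 2, 4, 4, 2, 2, 6, 5, 2, 6, 5, 0, 4], [3, 5, 1, 5, 7], .loop 8 [5, 3, 3, 0, 3, 3, 1, 3, 1, 2, 2, 1, 2, 4, 0, 4, 1, 6, 5, 3, 4, 0, 0, 2, 4] 8 28 16 false [.lett 2, .lett 1, .lett 4, .lett 0, .lett 2, .lett 4, .lett 3, .lett 6, .lett 4, .lett 3, .lett 0, .lett 4, .lett 2, .lett 7, .lett 0, .lett 0, .stab 43 false, .stab 42 false, .stab 44 false, .stab 44 false, .stab 42 false] [.lett 0, .lett 2, .lett 0, .lett 3, .stab 43 false, .stab 43 false, .stab 44 false, .stab 50 false, .stab 44 false, .stab 50 false, .edge 60 [0, 6, 1, 5, 4, 5, 7, 6], .lett 1, .lett 1, .lett 5, .lett 7, .lett 0, .lett 5, .lett 3, .lett 0, .lett 5, .lett 7, .lett 1, .lett 5, .lett 0, .lett 4, .lett 3, .lett 3,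 .lett 5, .lett 3, .lett 1, .lett 3, .lett 3, .stab 25 false, .stab 25 false, .stab 24 false, .stab 29 false, .stab 24 false, .edge 54 [5, 4, 7, 5, 6, 2, 5, 6, 7], .lett 1, .lett 5, .lett 7, .lett 1, .lett 5, .lett 1, .lett 2, .lett 5, .lett 7] [1, 2, 6, 5, 2, 7, 5, 6]⟩,
   ⟨1, 8, 9, 0, [], [], [], .defEdge⟩,
   ⟨2, 9, 1, 0, [5, 0, 2, 2, 1, 2, 0, 3, 1, 4, 1, 4, 4, 1, 2, 1], [5, 0, 2, 2, 1, 2, 2, 0, 3, 1, 2, 2, 4, 0, 4, 3, 0, 2, 0, 6], [], .loop 1 [5, 1, 2, 0, 3, 3, 1, 4, 2, 0, 4, 3, 0, 5, 6, 4, 0, 4, 3, 5, 5, 6, 6] 8 11 53 false [.lett 4, .lett 0, .lett 6, .lett 4, .lett 1, .lett 2, .lett 4, .lett 1, .lett 6, .lett 4, .lett 0, .lett 0, .stab 6 false, .stab 7 false, .stab 8 false, .stab 7 false, .stab 7 false, .edge 13 [5, 6, 3, 5, 5, 3, 5], .lett 2, .lett 1, .lett 3, .lett 1, .lett 2, .lett 1, .lett 4, .lett 0, .lett 2, .lett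 4, .lett 3, .lett 6, .lett 4, .lett 3, .lett 0, .lett 4, .lett 2, .lett 7, .lett 0, .lett 0, .stab 16 false, .stab 17 false, .stab 16 false, .stab 14 false, .edge 46 [5, 6, 5, 0, 6, 0, 2], .lett 6, .lett 4, .lett 3, .lett 0, .lett 4, .lett 0, .lett 6, .lett 4, .lett 0, .edge 71 [0, 5, 5, 6, 5, 7, 2, 1, 6, 7], .lett 2, .lett 2, .lett 0, .lett 2, .lett 4, .lett 2, .lett 2, .lett 5, .lett 1] [] []⟩,
   ⟨1, 8, 10, 0, [], [], [7], .defEdge⟩,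
   ⟨2, 10, 3, 0, [5, 3, 3, 0, 3, 3, 1, 4, 1, 1, 5, 3, 3, 1, 2, 5, 3, 6, 4, 1, 6, 4, 3, 6, 5, 1], [5, 3, 3, 0, 3, 3, 1, 3, 0, 3, 1, 2, 1, 4, 1, 4, 0, 5, 5, 6, 4, 0, 3, 4, 3, 3, 5], [], .loop 3 [5, 3, 0, 3, 3, 1, 4, 1, 5, 1, 5, 3, 3, 6, 4, 1, 3, 4, 4, 3] 7 11 21 false [.lett 1, .lett 2, .lett 2, .lett 0, .stab 14 false, .stab 17 false, .stab 17 false, .stab 17 false, .edge 47 [0, 3, 5, 5, 5, 6, 5, 0, 6], .lett 3, .lett 3, .lett 1, .lett 2, .lett 2, .lett 1, .stab 50 false, .stab 43 false, .edge 48 [4, 6, 1, 5, 6, 7, 6], .lett 3, .lett 3, .lett 1, .lett 2, .lett 2, .lett 0, .stab 44 false, .stab 43 false, .stab 44 false, .edge 73 [0, 0, 4, 5, 3, 7, 5], .lett 3, .lett 3] [] []⟩,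
   ⟨1, 5, 11, 0, [], [], [4, 0, 5, 3, 7], .defEdge⟩,
   ⟨2, 11, 3, 0, [5, 3, 3, 0, 3, 3, 1, 3, 1, 3, 3, 4, 3, 4, 2, 0, 3, 7, 4, 0, 2, 4, 2], [5, 0, 0, 2, 4, 2, 4, 1, 5, 5, 6, 4, 7, 5, 1, 5, 3, 3], [], .loop 1 [5, 0, 2, 2, 1, 2, 2, 1, 3, 5, 6, 6, 0, 2, 4, 0, 4, 0, 6, 4, 2, 5, 5, 0] 9 33 36 false [.lett 0, .lett 3, .lett 6, .lett 4, .lett 2, .lett 0, .lett 3, .lett 6, .lett 4, .lett 0, .stab 5 false, .stab 7 false, .stab 8 false, .stab 8 false, .stab 6 false, .stab 8 false, .stab 7 false, .edge 27 [0, 5, 0, 5, 0, 5, 7, 6, 5], .lett 1, .lett 6, .edge 75 [1, 5, 5, 5, 5, 5, 5, 3], .lett 1, .lett 5, .lett 3, .lett 5, .lett 7, .lett 2, .lett 2, .lett 5, .lett 7, .lett 2, .lett 5, .lett 3, .lett 5, .lett 1, .lett 4, .lett 3, .lett 3, .lett 0, .lett 3, .lett 3, .lett 0, .lett 3] [.lett 3, .lett 5, .lett 3, .lett 0, .lett 3, .lett 3,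 .lett 0, .lett 3, .stab 5 false, .stab 7 false, .stab 8 false, .stab 7 false, .stab 7 false, .stab 6 false, .stab 7 false, .stab 6 false, .edge 41 [0, 2, 5, 0, 7, 6, 1, 5], .lett 1, .lett 6, .stab 43 false, .stab 43 false, .stab 43 false, .stab 44 false, .stab 44 false, .stab 43 false, .stab 42 false, .edge 53 [0, 4, 6, 5, 0, 6, 7]] []⟩,
   ⟨1, 8, 12, 0, [], [], [5, 2, 2, 5, 6, 6, 6], .defEdge⟩,
   ⟨2, 12, 5, 0, [5, 3, 1, 3, 3, 1, 3, 4, 0, 5, 0, 2, 4, 3, 6, 4, 3, 1, 5, 3, 5, 1], [5, 3, 3, 0, 3, 3, 1, 1, 1, 2, 4, 0, 4, 4, 3, 0, 4, 1, 6, 5, 2, 1, 4], [], .loop 8 [5, 0, 2, 2, 1, 2, 2, 1, 3, 1, 4, 1, 2, 4, 0, 6, 4, 2, 5, 3, 6] 11 14 6 false [.lett 0, .lett 4, .stab 42 false, .stab 44 false, .stab 44 false, .stab 44 false, .edge 77 [7, 1, 5, 4], .lett 1, .lett 2, .lett 6] [.lett 4, .lett 2, .lett 5, .lett 7, .lett 4, .lett 1, .lett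 4, .lett 0, .lett 4, .lett 3, .lett 1, .lett 3, .lett 1, .lett 2, .stab 43 false, .stab 44 false, .stab 50 false, .stab 43 false, .stab 43 false, .stab 42 false, .edge 52 [3, 5, 3, 0, 6, 5], .lett 1, .lett 2, .lett 6, .stab 44 false, .stab 44 false, .stab 42 false, .stab 44 false, .stab 50 false, .stab 44 false, .edge 55 [4, 5, 5, 7, 5, 6, 7, 3, 5, 6], .lett 1, .lett 2, .lett 2, .lett 1, .lett 3, .lett 1, .lett 2, .lett 2, .lett 5, .lett 0, .lett 4, .lett 1, .lett 5, .lett 6, .lett 5, .lett 2, .lett 2, .lett 1, .lett 4, .lett 2, .lett 0, .stab 50 false, .stab 43 false, .stab 44 false, .stab 44 false, .edge 58 [1, 5, 0, 2, 6, 7, 6]] []⟩,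
   ⟨1, 3, 13, 0, [], [], [3, 5, 3, 3, 7], .defEdge⟩,
   ⟨2, 13, 5, 0, [5, 3, 3, 0, 3, 3, 1, 3, 1, 3, 3, 5, 6, 6, 1, 5, 3, 4, 4, 6, 4, 0, 7, 5, 3, 1, 4], [5, 3, 3, 0, 3, 3, 1, 2, 1, 3, 4, 2, 4, 0, 4, 4, 6, 4, 0, 5, 5, 7, 5, 0, 4], [], .loop 5 [5, 3, 3, 0, 3, 3, 3, 1, 2, 2, 4, 0, 3, 0, 4, 1, 4, 4, 6, 4, 1, 3, 6, 5, 1, 3, 4] 0 2 6 false [.stab 25 false, .stab 29 false, .stab 26 false, .stab 29 false, .edge 30 [5, 6, 5, 7, 2, 7, 3, 6], .lett 1, .lett 1, .lett 1, .stab 17 false, .stab 17 false, .stab 15 false, .edge 79 [0, 4, 5, 5, 6, 7, 6, 5, 2], .lett 1] [] []⟩,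
   ⟨1, 8, 14, 0, [], [], [5, 0, 2, 6], .defEdge⟩,
   ⟨2, 14, 5, 0, [5, 0, 2, 2, 1, 2, 5, 6, 6, 2, 1, 4, 3, 1, 5, 6, 4, 1, 5, 0, 2, 4, 0, 3], [5, 0, 2, 2, 1, 2, 2, 0, 0, 2, 4, 3, 5, 0, 3, 3, 6, 4, 2, 2, 5, 5, 3, 5], [], .loop 8 [5, 2, 2, 1, 2, 4, 3, 5, 3, 6, 4, 1, 5, 6] 3 34 18 false [.lett 5, .lett 0, .lett 4, .lett 2, .lett 4, .lett 3, .lett 6, .lett 4, .lett 3, .lett 3, .lett 6, .lett 4, .lett 2, .lett 4, .lett 0, .stab 44 false, .stab 44 false, .stab 50 false, .stab 50 false, .stab 44 false, .edge 81 [6, 5, 3, 6, 2, 5], .lett 7, .lett 0] [.lett 3, .lett 3, .lett 0, .lett 3, .lett 3, .lett 0, .lett 3, .stab 43 false, .stab 44 false, .stab 44 false, .stab 43 false, .stab 43 false, .stab 43 false, .edge 55 [6, 1, 1, 1, 6, 7, 6], .lett 7, .lett 0, .stab 50 false, .stab 43 false, .stab 43 false, .stab 42 false, .edge 68 [1, 0,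 0, 0, 0], .lett 2, .lett 1, .lett 2, .lett 2, .lett 1, .lett 2, .lett 4, .lett 2, .lett 0, .lett 3, .lett 6, .lett 4, .lett 2, .lett 0, .lett 3, .lett 6, .lett 4, .lett 0, .stab 42 false, .stab 44 false, .stab 42 false, .stab 44 false, .stab 43 false, .stab 42 false, .edge 51 [7, 5, 2, 6, 1, 7, 1]] []⟩,
   ⟨1, 8, 15, 0, [], [], [3, 3, 5, 3, 7], .defEdge⟩,
   ⟨2, 15, 8, 0, [5, 3, 3, 0, 3, 3, 1, 3, 0, 3, 1, 2, 1, 4, 3, 1, 3, 3, 5, 5, 6, 4, 2, 6, 4, 0, 6], [5, 1, 2, 1, 3, 3, 4, 2, 4, 1, 5, 2, 6, 4, 2, 1, 2, 4], [], .loop 8 [5, 0, 2, 2, 1, 2, 2, 1, 2, 4, 2, 2, 4, 0, 2, 6, 5, 1, 3, 4, 2, 2, 5] 11 29 17 false [.lett 4, .lett 0, .lett 5, .lett 1, .lett 4, .lett 3, .lett 3, .lett 0, .lett 2, .lett 0, .lett 3, .lett 3, .lett 0, .stab 50 false, .stab 44 false, .edge 83 [0, 1, 3, 5, 5, 3, 5], .lett 7, .lett 3, .lett 0] [.lett 6, .lett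 5, .lett 2, .lett 2, .lett 1, .lett 4, .lett 2, .lett 0, .stab 50 false, .stab 43 false, .stab 44 false, .stab 44 false, .stab 43 false, .stab 50 false, .stab 42 false, .edge 57 [0, 1, 1, 6, 0, 7, 0], .lett 7, .lett 3, .lett 0, .stab 43 false, .stab 44 false, .stab 44 false, .stab 50 false, .stab 43 false, .stab 44 false, .edge 67 [4, 5, 5, 0, 3], .lett 5, .lett 1, .lett 4, .lett 2, .lett 5, .lett 7, .lett 4, .lett 1, .lett 4, .lett 0, .lett 4, .lett 3, .lett 1, .lett 3, .lett 1, .lett 2, .stab 44 false, .stab 44 false, .stab 43 false, .stab 43 false, .stab 42 false, .edge 56 [5, 7, 6, 5, 7, 1]] []⟩,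
   ⟨1, 3, 16, 0, [], [], [5, 1, 5, 6, 6, 6], .defEdge⟩,
   ⟨2, 16, 5, 0, [5, 3, 3, 0, 3, 3, 1, 3, 1, 3, 3, 5, 6, 6, 3, 0, 2, 2, 4, 4, 6, 5, 1, 5, 1, 2, 2, 4, 1], [5, 3, 3, 0, 3, 3, 1, 2, 1, 5, 6, 6, 0, 4, 0, 4, 2, 6, 4, 0, 4, 2, 0, 3, 1, 4], [], .loop 5 [5, 0, 2, 2, 1, 2, 1, 3, 1, 2, 1, 4, 2, 2, 0, 5, 3, 6, 4, 2, 0, 3, 5, 2, 1] 3 6 43 false [.lett 5, .lett 7, .lett 2, .lett 1, .lett 3, .lett 5, .lett 7, .lett 2, .lett 1, .lett 3, .lett 5, .lett 3, .lett 0, .lett 3, .lett 3, .lett 0, .lett 3, .stab 29 false, .stab 29 false, .stab 25 false, .stab 29 false, .edge 30 [5, 6, 2, 7, 3, 5, 6, 5, 7], .lett 1, .lett 6, .stab 14 false, .stab 17 false, .stab 17 false, .stab 16 false, .stab 17 false, .stab 17 false, .stab 16 false, .edge 85 [0, 0, 0, 5, 2, 6, 5], .lett 2, .lett 1, .lett 2, .lett 2, .lett 1, .lett 2, .lett 2, .lett 5, .lett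 0, .lett 4, .lett 2, .lett 4, .lett 3, .lett 6, .lett 4, .lett 3, .lett 3, .lett 6, .lett 4, .lett 2, .lett 4, .lett 0] [.lett 0, .stab 29 false, .stab 25 false, .stab 24 false, .stab 29 false, .stab 25 false, .stab 26 false, .edge 59 [7, 0, 3, 6, 1, 3], .lett 1, .lett 6, .stab 50 false, .stab 50 false, .stab 42 false, .edge 58 [1, 6, 5, 0, 6, 1, 5, 7, 6, 5]] []⟩,
   ⟨1, 5, 17, 0, [], [], [4, 0, 0, 0, 4, 6], .defEdge⟩,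
   ⟨2, 17, 8, 0, [5, 3, 3, 0, 3, 3, 1, 3, 1, 3, 1, 2, 1, 4, 2, 5, 3, 0, 7, 4, 2, 1, 5, 3, 3], [5, 3, 3, 0, 3, 3, 1, 1, 2, 1, 3, 3, 4, 2, 0, 3, 1, 5, 6, 4, 0, 3, 1, 4, 1, 4, 4, 1, 3], [], .loop 8 [5, 3, 3, 0, 3, 3, 1, 3, 0, 2, 1, 4, 0, 5, 1, 3, 1, 4, 6, 4, 3, 3, 5, 2, 2, 4] 1 11 15 false [.lett 2, .stab 42 false, .stab 44 false, .stab 44 false, .stab 44 false, .edge 77 [6, 4, 7, 2, 6, 7, 5, 7], .coin 78, .lett 1, .lett 3, .lett 3, .lett 0, .lett 2, .lett 2, .stab 24 false, .stab 25 false, .stab 24 false, .stab 24 false, .stab 29 false, .stab 26 false, .stab 24 false, .edge 87 [2, 7, 2, 3, 5, 7, 6], .lett 0, .lett 3, .lett 3, .lett 0, .lett 2, .lett 2] [.lett 3, .lett 1, .lett 2, .lett 2, .lett 0, .stab 50 false, .stab 50 false, .edge 64 [6, 1, 0, 7, 0]] []⟩,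
   ⟨1, 5, 18, 0, [], [], [5, 1, 5, 6, 6, 3, 6], .defEdge⟩]

/-- facts -/
def facts3 : List Fact :=
  [⟨2, 18, 8, 0, [5, 3, 3, 0, 3, 3, 1, 4, 4, 0, 5, 0, 4, 2, 5, 6, 5, 2, 0, 4, 3, 0, 3, 4], [5, 0, 2, 2, 1, 2, 2, 0, 2, 4, 1, 5, 0, 2, 2, 6, 4, 7, 4, 3, 5, 3, 5], [], .loop 3 [5, 3, 3, 0, 3, 3, 1, 3, 0, 2, 2, 4, 0, 4, 3, 5, 6, 4, 0, 4, 2, 4, 1] 2 26 35 false [.lett 2, .lett 0, .lett 3, .stab 17 false, .stab 17 false, .stab 17 false, .stab 17 false, .stab 17 false, .stab 17 false, .stab 14 false, .edge 79 [0, 6, 2, 5, 5, 5, 6, 2, 7, 6], .coin 80, .lett 1, .lett 1, .lett 5, .lett 7, .lett 0, .lett 5, .lett 3, .lett 0, .lett 5, .lett 7, .lett 1, .lett 5, .lett 0, .lett 4, .lett 3, .lett 3, .lett 5, .lett 3, .lett 1, .lett 3, .lett 3, .stab 29 false, .stab 25 false, .stab 26 false, .stab 29 false, .stab 24 false, .edge 89 [1, 5, 2,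 5, 7, 1, 6], .lett 1, .lett 5, .lett 7, .lett 1, .lett 5, .lett 1, .lett 2, .lett 5, .lett 7] [.lett 1, .lett 2, .lett 1, .lett 4, .lett 0, .lett 2, .lett 4, .lett 3, .lett 6, .lett 4, .lett 3, .lett 0, .lett 4, .lett 2, .lett 7, .lett 0, .lett 0, .stab 15 false, .stab 16 false, .stab 15 false, .stab 17 false, .stab 15 false, .stab 15 false, .stab 16 false, .edge 46 [6, 1, 5, 5, 6, 7, 6, 3]] []⟩,
   ⟨1, 5, 19, 0, [], [], [5, 3, 5, 6, 6, 3, 6], .defEdge⟩,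
   ⟨2, 19, 8, 0, [5, 0, 2, 2, 1, 2, 2, 2, 1, 3, 1, 4, 0, 5, 1, 5, 0, 4, 6, 5, 3, 5, 3, 1, 3, 0, 3], [5, 3, 0, 5, 6, 6, 3, 3, 5, 1, 5, 6, 4, 4, 3, 4, 3, 5, 0, 5, 6, 6], [], .loop 8 [5, 3, 3, 0, 3, 3, 3, 0, 2, 0, 4, 0, 5, 2, 2, 5, 0, 6, 4, 3, 5, 2, 1, 5] 3 6 46 false [.lett 5, .lett 7, .lett 2, .lett 1, .lett 3, .lett 5, .lett 7, .lett 2, .lett 1, .lett 3, .lett 5, .lett 3, .lett 0, .lett 3, .lett 3, .lett 0, .lett 3, .stab 50 false, .stab 43 false, .stab 44 false, .stab 50 false, .stab 43 false, .stab 42 false, .edge 58 [5, 5, 7, 1, 5, 6, 5, 0, 7], .lett 1, .lett 6, .stab 25 false, .stab 29 false, .stab 25 false, .stab 24 false, .stab 29 false, .stab 24 false, .stab 26 false, .edge 34 [0, 2, 6, 1, 7, 6, 5, 7], .lett 2, .lett 1, .lett 2, .lett 2, .lett 1, .lett 2, .lett 2, .lett 5, .lett 0, .lett 4, .lett 2, .lett 4, .lett 3,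 .lett 6, .lett 4, .lett 3, .lett 3, .lett 6, .lett 4, .lett 2, .lett 4, .lett 0, .stab 25 false, .stab 24 false, .stab 25 false, .stab 29 false, .stab 29 false, .stab 25 false, .edge 91 [5, 6, 4, 5, 2, 2, 7], .lett 7, .lett 0] [.lett 0, .stab 50 false, .stab 50 false, .stab 44 false, .stab 44 false, .stab 44 false, .edge 70 [1, 3, 0, 5, 6, 5, 7]] []⟩,
   ⟨1, 8, 20, 0, [], [], [2, 5, 7], .defEdge⟩,
   ⟨1, 8, 20, 0, [5, 0, 2, 2, 1, 2, 2, 4, 0, 3, 0, 2, 2, 1, 2, 4, 0, 5, 0, 0, 6, 4, 3, 1, 3, 5, 2, 1, 4], [5, 3, 3, 0, 3, 3, 3, 5, 6, 6, 3, 3, 0, 3, 4], [5, 3, 0, 5, 6, 6, 3, 4, 2, 5, 1, 6], .loop 8 [5, 0, 2, 2, 1, 2, 0, 2, 2, 1, 4, 3, 5, 2, 2, 5, 6, 4, 3, 7, 4, 1] 7 0 8 false [.lett 1, .stab 43 false, .stab 43 false, .stab 44 false, .stab 50 false, .stab 44 false, .stab 43 false, .edge 55 [6, 5, 2, 6, 3, 5, 7], .lett 3, .lett 3,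 .lett 1, .lett 2, .lett 2, .lett 0, .stab 42 false, .stab 44 false, .stab 50 false, .stab 44 false, .stab 44 false] [.lett 3, .lett 3, .lett 0, .lett 2, .lett 2, .stab 50 false, .stab 44 false, .stab 43 false, .stab 44 false, .stab 43 false, .edge 93 [6, 7, 5, 3, 6, 7, 1, 3], .lett 1, .lett 3, .lett 3, .lett 0, .lett 2, .lett 2] [1, 6, 3, 6, 2, 7]⟩,
   ⟨2, 20, 8, 0, [5, 1, 3, 3, 1, 4, 2, 1, 6, 4, 2, 5, 6], [3, 1, 5, 2, 2, 0, 2, 2, 1, 5, 2, 1, 2, 6, 5, 1, 4, 3, 1, 4], [], .loop 5 [4, 3, 1, 4, 3, 1, 3, 1, 3, 4, 3, 6, 5, 2, 4, 3, 1, 3] 8 20 34 false [.lett 4, .lett 0, .lett 0, .stab 25 false, .stab 25 false, .stab 24 false, .stab 29 false, .stab 24 false, .stab 24 false, .edge 91 [0, 5, 7, 5, 0, 1, 0, 6], .coin 92, .lett 2, .lett 1, .lett 3, .lett 1, .lett 2, .lett 1, .lett 4, .lett 0, .lett 2, .lett 4, .lett 3, .lett 6, .lett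 4, .lett 3, .lett 0, .lett 4, .lett 2, .lett 7, .lett 0, .lett 0, .stab 43 false, .stab 44 false, .stab 43 false, .stab 42 false, .edge 93 [0, 0, 0, 3, 5, 0], .lett 6, .lett 4, .lett 3, .lett 0, .lett 4, .lett 0, .lett 6, .lett 4, .lett 0] [.lett 7, .lett 0, .lett 5, .lett 3, .lett 0, .lett 5, .lett 7, .lett 1, .lett 5, .lett 0, .lett 4, .lett 3, .lett 3, .lett 5, .lett 3, .lett 1, .lett 3, .lett 3, .stab 29 false, .stab 29 false, .stab 25 false, .stab 29 false, .stab 24 false, .stab 24 false, .edge 87 [2, 3, 5, 5, 7, 6, 1], .coin 88] []⟩,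
   ⟨1, 8, 21, 0, [], [], [5, 3, 5, 6, 6, 3, 5, 3, 5, 6], .defEdge⟩,
   ⟨2, 21, 5, 0, [5, 0, 2, 1, 2, 2, 4, 2, 1, 5, 1, 5, 3, 6, 4, 6, 4, 1, 5, 0, 6], [5, 3, 4, 2, 5, 2, 6, 5, 3, 4, 0, 3, 0, 2, 0, 4], [], .loop 8 [5, 2, 5, 6, 6, 1, 4, 4, 2, 1, 2, 6, 4, 1, 2, 0, 3, 4] 8 37 39 false [.lett 3, .lett 0, .lett 4, .lett 2, .lett 7, .lett 0, .lett 0, .stab 50 false, .stab 44 false, .stab 44 false, .stab 44 false, .stab 50 false, .stab 50 false, .stab 44 false, .stab 42 false, .edge 61 [3, 7, 5, 7, 2, 7, 3], .lett 6, .lett 4, .lett 3, .lett 0, .lett 4, .lett 0, .lett 6, .lett 4, .lett 0, .stab 44 false, .stab 42 false, .stab 44 false, .stab 43 false, .stab 50 false, .edge 96 [0, 7, 6, 2, 5, 5, 5, 2, 7], .lett 2, .lett 2, .lett 0, .lett 2, .lett 4, .lett 2, .lett 2, .lett 5, .lett 1, .lett 4, .lett 0, .lett 6, .lett 4, .lett 1, .lett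 2, .lett 4, .lett 1, .lett 6, .lett 4, .lett 0, .lett 0] [.lett 5, .lett 7, .lett 2, .lett 5, .lett 3, .lett 1, .lett 5, .lett 0, .lett 3, .lett 0, .lett 2, .lett 0, .lett 3, .stab 44 false, .stab 44 false, .stab 44 false, .stab 50 false, .stab 50 false, .edge 60 [1, 5, 5, 5, 6, 7, 6, 2, 5]] []⟩,
   ⟨1, 3, 22, 0, [], [], [4, 0, 0, 0, 4, 6], .defEdge⟩,
   ⟨2, 22, 8, 0, [5, 3, 3, 0, 3, 3, 1, 2, 0, 3, 0, 4, 0, 4, 2, 2, 5, 0, 6, 4, 1, 4, 1, 4], [5, 3, 3, 0, 3, 3, 1, 1, 3, 0, 2, 0, 3, 4, 3, 4, 3, 0, 2, 0, 6, 5, 2, 4, 3, 5, 0, 2, 4, 1], [], .loop 1 [5, 0, 2, 2, 1, 2, 1, 2, 5, 6, 6, 2, 0, 4, 1, 2, 6, 4, 1, 5, 7, 0, 2, 4] 9 11 32 false [.lett 5, .lett 1, .lett 4, .lett 3, .lett 3, .lett 0, .lett 3, .lett 3, .lett 0, .lett 3, .stab 5 false, .stab 7 false, .stab 8 false, .stab 6 false, .stab 7 false, .stab 6 false, .stab 7 false, .stab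 6 false, .stab 7 false, .edge 13 [5, 5, 2, 6, 7, 0, 6, 5], .lett 7, .lett 0, .stab 16 false, .stab 16 false, .stab 16 false, .stab 17 false, .stab 16 false, .stab 14 false, .stab 17 false, .stab 17 false, .stab 15 false, .edge 98 [5, 2, 2, 6, 4, 7, 5], .lett 2, .lett 1, .lett 2, .lett 2, .lett 1, .lett 2, .lett 4, .lett 2, .lett 0, .lett 3, .lett 6, .lett 4, .lett 2, .lett 0, .lett 3, .lett 6, .lett 4, .lett 0] [.lett 2, .lett 4, .lett 3, .lett 6, .lett 4, .lett 3, .lett 3, .lett 6, .lett 4, .lett 2, .lett 4, .lett 0, .stab 8 false, .stab 7 false, .stab 6 false, .stab 7 false, .stab 7 false, .stab 6 false, .stab 5 false, .stab 7 false, .stab 6 false, .edge 41 [2, 5, 0, 6, 1, 5, 7, 5], .lett 7, .lett 0, .stab 43 false, .stab 50 false, .stab 44 false, .stab 50 false, .stab 42 false, .edge 52 [7, 5, 6, 0, 5, 7, 2, 5]] []⟩,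
   ⟨1, 5, 23, 0, [], [], [5, 1, 5, 6, 6, 6], .defEdge⟩,
   ⟨2, 23, 8, 0, [2, 0, 4, 2, 1, 3, 6, 4, 2, 0, 3, 0, 5], [5, 0, 2, 2, 1, 2, 2, 2, 1, 5, 6, 6, 0, 2, 1, 4, 1, 6, 5, 0, 3], [], .loop 3 [5, 3, 3, 0, 3, 1, 3, 4, 0, 5, 0, 3, 3, 6, 5, 3, 4, 4, 1, 5, 3, 5] 3 7 42 false [.lett 7, .lett 2, .lett 1, .lett 3, .lett 5, .lett 7, .lett 2, .lett 1, .lett 3, .lett 5, .lett 3, .lett 0, .lett 3, .lett 3, .lett 0, .lett 3, .stab 16 false, .stab 17 false, .stab 16 false, .stab 16 false, .stab 14 false, .edge 79 [6, 7, 5, 0, 6, 2, 7, 5, 6], .coin 80, .lett 1, .lett 6, .stab 29 false, .stab 25 false, .stab 24 false, .stab 29 false, .stab 29 false, .stab 25 false, .edge 100 [5, 6, 5, 7, 3, 5, 5], .lett 2, .lett 1, .lett 2, .lett 2, .lett 1, .lett 2, .lett 2, .lett 5, .lett 0, .lett 4, .lett 2, .lett 4, .lett 3, .lett 6, .lett 4, .lett 3,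 .lett 3, .lett 6, .lett 4, .lett 2, .lett 4, .lett 0] [.lett 4, .lett 0, .stab 15 false, .stab 15 false, .stab 14 false, .stab 17 false, .edge 85 [5, 6, 7, 3, 6, 7, 2, 5], .coin 86, .lett 1, .lett 6, .stab 29 false, .stab 25 false, .stab 26 false, .stab 25 false, .stab 29 false, .stab 29 false, .edge 54 [7, 0, 5, 6, 1, 5, 6, 5]] []⟩,
   ⟨1, 8, 24, 0, [], [], [4, 0, 0, 0, 0, 2, 4, 3, 6], .defEdge⟩,
   ⟨2, 24, 3, 0, [5, 3, 3, 0, 3, 3, 3, 0, 2, 1, 4, 1, 3, 5, 5, 2, 4, 6, 5, 3, 3, 4, 3, 6, 5, 5, 3], [5, 3, 3, 0, 3, 1, 3, 4, 1, 4, 0, 3, 5, 6, 4, 3, 3, 7], [], .loop 3 [5, 0, 2, 2, 1, 2, 2, 0, 2, 0, 4, 0, 2, 4, 1, 5, 5, 3, 6, 4, 1, 6, 5] 11 22 47 false [.lett 3, .lett 5, .lett 0, .lett 3, .lett 3, .lett 4, .lett 7, .lett 4, .lett 0, .lett 5, .lett 1, .lett 4, .lett 3, .lett 3, .lett 0, .lett 2, .lett 0, .lett 3, .lett 3, .lett 0,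 .stab 16 false, .stab 16 false, .stab 16 false, .stab 15 false, .stab 14 false, .stab 17 false, .stab 15 false, .edge 98 [5, 5, 6, 3, 0, 5, 3, 5], .coin 99, .lett 7, .lett 3, .lett 0, .stab 50 false, .stab 44 false, .stab 42 false, .stab 44 false, .stab 42 false, .stab 44 false, .edge 57 [7, 2, 1, 6, 5, 7, 6], .lett 3, .lett 0, .lett 2, .lett 0, .lett 2, .lett 5, .lett 1, .lett 5, .lett 0, .lett 5, .lett 6, .lett 4, .lett 3, .lett 5, .lett 0, .lett 4, .stab 44 false, .stab 50 false, .stab 50 false, .stab 44 false, .stab 43 false, .edge 55 [0, 5, 2, 7, 6, 1, 5, 6, 7], .lett 1, .lett 2, .lett 6, .stab 50 false, .stab 44 false, .stab 50 false, .stab 44 false, .stab 43 false, .stab 42 false, .edge 102 [0, 7, 5, 7, 1, 6, 0, 0], .lett 1] [] []⟩,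
   ⟨1, 8, 25, 0, [], [], [4, 0, 0, 0, 4, 2, 6], .defEdge⟩,
   ⟨2, 25, 8, 0, [5, 0, 2, 2, 1, 2, 2, 0, 2, 2, 5, 6, 6, 0, 3, 4, 4, 0, 4, 6, 4, 3, 5, 2, 7, 5, 0, 4], [5, 0, 2, 2, 1, 2, 2, 1, 3, 5, 6, 6, 0, 4, 3, 4, 0, 2, 6, 4, 1, 4, 4], [], .loop 3 [5, 0, 2, 2, 1, 2, 0, 3, 4, 1, 3, 5, 1, 1, 6, 4, 3, 7, 4, 2, 2] 11 7 39 false [.lett 5, .lett 0, .lett 5, .lett 6, .lett 4, .lett 3, .lett 5, .lett 0, .lett 4, .stab 15 false, .stab 16 false, .stab 15 false, .stab 17 false, .stab 15 false, .stab 14 false, .edge 46 [5, 4, 5, 2, 6, 2, 6], .lett 1, .lett 2, .lett 6, .stab 44 false, .stab 44 false, .stab 44 false, .stab 50 false, .stab 44 false, .stab 43 false, .edge 57 [0, 5, 5, 5, 2, 6, 5, 0], .lett 1, .lett 3, .lett 5, .lett 0, .lett 3, .lett 3, .lett 4, .lett 7, .lett 4, .lett 0, .lett 5, .lett 1, .lett 4, .lett 3, .lett 3, .lett 0,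 .lett 2, .lett 0, .lett 3, .lett 3, .lett 0, .stab 43 false, .stab 43 false, .stab 43 false, .stab 44 false, .stab 44 false, .stab 44 false, .edge 104 [4, 6, 5, 7, 6, 5, 3, 5, 7], .lett 7, .lett 3, .lett 0] [.lett 0, .lett 4, .lett 3, .lett 1, .lett 3, .lett 1, .lett 2, .stab 16 false, .stab 16 false, .stab 15 false, .stab 14 false, .stab 17 false, .stab 15 false, .edge 98 [1, 3, 3, 3, 6, 7, 5, 7], .coin 99] []⟩,
   ⟨1, 8, 26, 0, [], [], [5, 1, 2, 5, 6, 6, 6], .defEdge⟩,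
   ⟨2, 26, 5, 0, [5, 3, 3, 0, 3, 3, 1, 4, 1, 3, 1, 2, 2, 0, 5, 0, 3, 5, 1, 4, 2, 1, 6, 5, 0, 4, 2, 5], [5, 0, 2, 2, 1, 2, 2, 1, 2, 1, 3, 4, 0, 3, 4, 3, 4, 2, 6, 5, 3, 5, 3, 3], [], .loop 5 [5, 1, 2, 1, 4, 1, 5, 1, 2, 5, 5, 6, 4, 7, 2, 1, 1, 2, 4] 2 45 53 false [.lett 3, .lett 5, .lett 3, .lett 1, .lett 3, .lett 3, .stab 26 false, .stab 29 false, .stab 25 false, .stab 25 false, .stab 24 false, .edge 89 [0, 2, 7, 2, 4, 5, 6], .coin 90, .lett 1, .lett 5, .lett 7, .lett 1, .lett 5, .lett 1, .lett 2, .lett 5, .lett 7, .stab 50 false, .stab 44 false, .stab 44 false, .stab 50 false, .stab 43 false, .stab 42 false, .edge 94 [6, 5, 7, 6, 5, 3, 2, 7, 5], .coin 95, .lett 1, .lett 1, .lett 6, .lett 3, .lett 5, .lett 1, .lett 2, .lett 5, .lett 7, .lett 2, .lett 5, .lett 3, .lett 1, .lett 5, .lett 0, .lett 3, .lett 0, .lett 2, .lett 0, .lett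 3, .stab 50 false, .stab 44 false, .stab 44 false, .stab 44 false, .stab 43 false, .stab 43 false, .stab 42 false, .edge 106 [6, 3, 7, 5, 0, 6, 7, 5], .lett 1, .lett 1, .lett 5, .lett 7, .lett 0, .lett 5, .lett 3, .lett 0, .lett 5, .lett 7, .lett 1, .lett 5, .lett 0, .lett 4, .lett 3] [] []⟩]

/-- facts -/
def facts : List Fact := facts0 ++ facts1 ++ facts2 ++ facts3

/-- a living orbit -/
noncomputable def live0 : Live := ⟨0, [0, 1, 2, 3], [cls0]⟩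

/-- a living orbit -/
noncomputable def live1 : Live := ⟨1, [5, 6, 7, 8], [cls1]⟩

/-- a living orbit -/
noncomputable def live2 : Live := ⟨3, [14, 15, 16, 17], [cls2]⟩

/-- a living orbit -/
noncomputable def live3 : Live := ⟨5, [24, 25, 26, 29], [cls3]⟩

/-- a living orbit -/
noncomputable def live4 : Live := ⟨8, [42, 43, 44, 50], [cls4]⟩

/-- the living orbits -/
noncomputable def lives : List Live := [live0, live1, live2, live3, live4]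

/-- facts removing the other orbits -/
def dead : List Nat := [12, 20, 38, 40, 72, 74, 76, 78, 80, 82, 84, 86, 88, 90, 92, 95, 97, 99, 101, 103, 105, 107]


end CfsgLib.Spor.Ly.GK
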