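import Cfsg.Agent.Lib.Spor.Ly.GKPerm
import Cfsg.Agent.Lib.DCE.Order

/-!
Kernel checks: the representation.
-/

namespace CfsgLib.Spor.Ly.GK

open CfsgLib.PresCert CfsgLib.DCE

theorem pair_ok :
    okPair P = true := by decide +kernel

theorem levels_ok :
    okWLevels P [] ls = true := by decide +kernel


end CfsgLib.Spor.Ly.GK
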