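import Cfsg.Agent.Lib.Spor.Ly.GKData
import Cfsg.Agent.Lib.Spor.Ly.GKSubV

/-!
Kernel checks: the stabiliser of the edge point.
-/

namespace CfsgLib.Spor.Ly.GK

open CfsgLib.PresCert CfsgLib.DCE

theorem v0_els :
    okEls P base V0ws V0els = true := by decide +kernel

theorem v0_levels :
    okWLevels P [] V0ls = true := by decide +kernel

theorem v0_gens :
    (V0ls.all fun L => L.gens.all fun w => (V0ws ++ V0els.map Prod.fst).contains w) = true := by decide +kernel

theorem e0_levels :
    okWLevels P [] [E0L0] = true := by decide +kernel

theorem e0_fix :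
    (V0ws.all fun w => (w.all fun x => Nat.blt x P.g) &&
    Nat.beq (P.app w E0L0.base) E0L0.base) = true := by decide +kernel

theorem v0_pairs :
    okPairs V0ws (S.edge 0).src = true := by decide +kernel

theorem e0_base :
    Nat.beq E0L0.base (S.edge 0).pt = true := by decide +kernel


end CfsgLib.Spor.Ly.GK
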