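import Cfsg.Agent.Lib.Spor.Ly.PtsDefs

/-!
Kernel checks on the points of the representation of `⟨a, b, c, d⟩`.
-/

namespace CfsgLib.Spor.Ly.Pts

open CfsgLib.PresCert CfsgLib.DCE CfsgLib.Spor.Ly.Five

theorem l14_1 :
    ok14 1 = true := by decide +kernel

theorem l14_3 :
    ok14 3 = true := by decide +kernel

theorem l14_5 :
    ok14 5 = true := by decide +kernel

theorem l14_7 :
    ok14 7 = true := by decide +kernel

end CfsgLib.Spor.Ly.Pts
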