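import Cfsg.Agent.Lib.Spor.Ly.PtsDefs

/-!
Kernel checks on the points of the representation of `⟨a, b, c, d⟩`.
-/

namespace CfsgLib.Spor.Ly.Pts

open CfsgLib.PresCert CfsgLib.DCE CfsgLib.Spor.Ly.Five

theorem pts_0 :
    okPts 0 1953 = true := by decide +kernel

theorem pts_1953 :
    okPts 1953 1953 = true := by decide +kernel

theorem pts_3906 :
    okPts 3906 1953 = true := by decide +kernel

theorem pts_5859 :
    okPts 5859 1953 = true := by decide +kernel

theorem pts_7812 :
    okPts 7812 1953 = true := by decide +kernel

theorem pts_9765 :
    okPts 9765 1953 = true := by decide +kernel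

theorem pts_11718 :
    okPts 11718 1953 = true := by decide +kernel

theorem pts_13671 :
    okPts 13671 1953 = true := by decide +kernel

theorem pts_15624 :
    okPts 15624 1953 = true := by decide +kernel

theorem pts_17577 :
    okPts 17577 1953 = true := by decide +kernel

end CfsgLib.Spor.Ly.Pts
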