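import Cfsg.Agent.Lib.Spor.Ly.PtsDefs

/-!
Kernel checks on the points of the representation of `⟨a, b, c, d⟩`.
-/

namespace CfsgLib.Spor.Ly.Pts

open CfsgLib.PresCert CfsgLib.DCE CfsgLib.Spor.Ly.Five

theorem l7_0 :
    ok7 0 = true := by decide +kernel

theorem l7_1 :
    ok7 1 = true := by decide +kernel

theorem l7_2 :
    ok7 2 = true := by decide +kernel

theorem l7_3 :
    ok7 3 = true := by decide +kernel

theorem l7_4 :
    ok7 4 = true := by decide +kernel

theorem l7_5 :
    ok7 5 = true := by decide +kernel

theorem l7_6 :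
    ok7 6 = true := by decide +kernel

theorem l7_7 :
    ok7 7 = true := by decide +kernel

end CfsgLib.Spor.Ly.Pts
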