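import Cfsg.Agent.Lib.Spor.Ly.PtsDefs

/-!
Kernel checks on the points of the representation of `⟨a, b, c, d⟩`.
-/

namespace CfsgLib.Spor.Ly.Pts

open CfsgLib.PresCert CfsgLib.DCE CfsgLib.Spor.Ly.Five

theorem u1_0 :
    okU 1 0 1953 = true := by decide +kernel

theorem u1_1953 :
    okU 1 1953 1953 = true := by decide +kernel

theorem u1_3906 :
    okU 1 3906 1953 = true := by decide +kernel

theorem u1_5859 :
    okU 1 5859 1953 = true := by decide +kernel

theorem u1_7812 :
    okU 1 7812 1953 = true := by decide +kernel

theorem u1_9765 :
    okU 1 9765 1953 = true := by decide +kernel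

theorem u1_11718 :
    okU 1 11718 1953 = true := by decide +kernel

theorem u1_13671 :
    okU 1 13671 1953 = true := by decide +kernel

theorem u1_15624 :
    okU 1 15624 1953 = true := by decide +kernel

theorem u1_17577 :
    okU 1 17577 1953 = true := by decide +kernel

end CfsgLib.Spor.Ly.Pts
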