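import Cfsg.Agent.Lib.Spor.Ly.RelsData
import Cfsg.Agent.Lib.DCE.Subst
import Cfsg.Agent.Lib.KnownB.LyMult.Values

/-!
The relators of the presented Lyons group as numeric words in `a, b, c, d, z`.
-/

set_option autoImplicit false

namespace CfsgLib.Spor.Ly

open CfsgLib.DCE Cfsg.Spor CfsgLib.KnownB.LyMult

/-- the group on `a, b` -/
abbrev Grp0 : Type := Grp 2 R0
/-- the group on `a, b, c` -/
abbrev GrpP : Type := Grp 3 RP
/-- the group on `a, b, c, d` -/
abbrev GrpK : Type := Grp 4 RK

/-- the presented Lyons group -/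
abbrev GLy : Type := Cfsg.Spor.Ly

/-- the five main generators, numbered -/
def lgen : Fin 5 → GLy
  | 0 => gn .a
  | 1 => gn .b
  | 2 => gn .c
  | 3 => gn .d
  | 4 => gn .z

/-- two words equal in the free group have the same values -/
theorem free_eq {m : ℕ} {Q : Type*} [Group Q] (f : Fin m → Q) {u w : List Nat}
    (h : wv (FreeGroup.of (α := Fin m)) u = wv FreeGroup.of w) : wv f u = wv f w := by
  have := congrArg (FreeGroup.lift f) h
  simpa [map_wv] using this

/-- the free group on five letters -/
def fval : Ly.Gen → FreeGroup (Fin 5) :=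
  val (FreeGroup.of 0) (FreeGroup.of 1) (FreeGroup.of 2) (FreeGroup.of 3) (FreeGroup.of 4)

theorem expand_ok : ((Ly.extra.zip RAll).all fun p =>
    decide (FreeGroup.lift fval p.1 = wv FreeGroup.of p.2)) = true := by
  decide +kernel

theorem lift_fval (r : FreeGroup Ly.Gen) :
    FreeGroup.lift lgen (FreeGroup.lift fval r) = FreeGroup.lift gn r := by
  rw [← MonoidHom.comp_apply]
  refine DFunLike.congr_fun (FreeGroup.ext_hom _ _ fun g => ?_) r
  rw [MonoidHom.comp_apply, FreeGroup.lift_apply_of, FreeGroup.lift_apply_of, fval, map_val,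
    gn_eq_val g]
  simp only [FreeGroup.lift_apply_of]
  rfl

theorem rall_one : ∀ w ∈ RAll, wv lgen w = 1 := by
  intro w hw
  obtain ⟨i, hi, rfl⟩ := List.getElem_of_mem hw
  have hlen : Ly.extra.length = RAll.length := by decide +kernel
  have hi' : i < Ly.extra.length := hlen.symm ▸ hi
  have hm : (Ly.extra[i]'hi', RAll[i]) ∈ Ly.extra.zip RAll :=
    List.mem_iff_getElem.2 ⟨i, by rw [List.length_zip]; omega, List.getElem_zip⟩
  have h := of_decide_eq_true (List.all_eq_true.1 expand_ok _ hm)
  have := congrArg (FreeGroup.lift lgen) h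
  simp only at this
  rw [lift_fval, rel_one (List.getElem_mem _), map_wv] at this
  simp only [FreeGroup.lift_apply_of] at this
  exact this.symm

theorem rk_sub : (RK.all fun w => RAll.contains w) = true := by decide +kernel

theorem rz_sub : (RZ.all fun w => RAll.contains w) = true := by decide +kernel

theorem rk_one : ∀ w ∈ RK, wv lgen w = 1 := fun w hw =>
  rall_one w (List.contains_iff_mem.1 (List.all_eq_true.1 rk_sub w hw))

theorem rz_one : ∀ w ∈ RZ, wv lgen w = 1 := fun w hw =>
  rall_one w (List.contains_iff_mem.1 (List.all_eq_true.1 rz_sub w hw))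

end CfsgLib.Spor.Ly
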