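import Cfsg.Agent.Lib.Spor.Ly.PtsChkM
import Cfsg.Agent.Lib.Spor.Ly.PtsChkL
import Cfsg.Agent.Lib.Spor.Ly.PtsChkS
import Cfsg.Agent.Lib.Spor.Ly.PtsChkP
import Cfsg.Agent.Lib.Spor.Ly.PtsChkU1
import Cfsg.Agent.Lib.Spor.Ly.PtsChkU3
import Cfsg.Agent.Lib.Spor.Ly.PtsChkU5
import Cfsg.Agent.Lib.Spor.Ly.PtsChkU7
import Cfsg.Agent.Lib.Spor.Ly.GKLevels
import Cfsg.Agent.Lib.Spor.Ly.Rels
import Cfsg.Agent.Lib.DCE.Words

/-!
The group on `a, b, c, d` permutes 23436 points: 3906 lines in fourteen dimensions, and 19530 sets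
of three pairs of lines in seven dimensions.
-/

set_option autoImplicit false

namespace CfsgLib.Spor.Ly

open CfsgLib.PresCert CfsgLib.DCE CfsgLib.Spor.Ly.Five Equiv

namespace Pts

theorem okRange10 {p : Nat → Nat → Bool} {q : Nat → Bool}
    (hpq : ∀ lo len, p lo len = allBelow len fun k => q (Nat.add lo k))
    (h : ∀ t < 10, p (t * 1953) 1953 = true) : ∀ i < 19530, q i = true := by
  intro i hi
  have h' := h (i / 1953) (by omega)
  rw [hpq] at h'
  have := allBelow_spec h' (i % 1953) (Nat.mod_lt _ (by norm_num))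
  rwa [show Nat.add (i / 1953 * 1953) (i % 1953) = i by
    show i / 1953 * 1953 + i % 1953 = i
    exact Nat.div_add_mod' i 1953] at this

theorem pk_self {d v : ℕ} (h : v < 2 ^ (16 * d)) : v = pk 16 (fun t => lane 16 t v) d := by
  rw [← mod_eq_pk, Nat.mod_eq_of_lt h]

theorem norm_lead {v : ℕ} : ∀ f k, normAux v f k = true →
    ∃ p, k ≤ p ∧ p < k + f ∧ lane 16 p v = 1 ∧ ∀ t, k ≤ t → t < p → lane 16 t v = 0
  | 0, _, h => by simp [normAux] at h
  | f + 1, k, h => by
    rw [normAux] at h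
    cases hb : Nat.beq (lane 16 k v) 0 with
    | true =>
      rw [hb, cond_true] at h
      obtain ⟨p, h1, h2, h3, h4⟩ := norm_lead f (k + 1) h
      refine ⟨p, by omega, by omega, h3, fun t ht1 ht2 => ?_⟩
      rcases Nat.lt_or_ge k t with h' | h'
      · exact h4 t h' ht2
      · obtain rfl : t = k := by omega
        exact Nat.eq_of_beq_eq_true hb
    | false =>
      rw [hb, cond_false] at h
      exact ⟨k, le_rfl, by omega, Nat.eq_of_beq_eq_true h, fun t ht1 ht2 => by omega⟩

theorem line_inj {d u v : ℕ} (hu : okVec d u = true) (hv : okVec d v = true)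
    (h : lineOf (toV d u) = lineOf (toV d v)) : u = v := by
  simp only [okVec, Bool.and_eq_true, Nat.blt_eq, List.all_eq_true, List.mem_range] at hu hv
  obtain ⟨⟨hu1, hu2⟩, hu3⟩ := hu
  obtain ⟨⟨hv1, hv2⟩, hv3⟩ := hv
  obtain ⟨c, hc⟩ : toV d u ∈ lineOf (toV d v) := h ▸ ⟨1, one_smul _ _⟩
  obtain ⟨p, -, hp, hp1, hp0⟩ := norm_lead _ _ hu2
  obtain ⟨q, -, hq, hq1, hq0⟩ := norm_lead _ _ hv2
  rw [Nat.zero_add] at hp hq
  have e : ∀ t (ht : t < d), (lane 16 t u : ZMod 5) = (c : ZMod 5) * (lane 16 t v : ZMod 5) :=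
    fun t ht => by
      have := congrFun hc ⟨t, ht⟩
      simpa [toV, Units.smul_def] using this.symm
  have hpq : p = q := by
    rcases lt_trichotomy p q with h' | h' | h'
    · have := e p hp
      rw [hp1, hq0 p (Nat.zero_le _) h', Nat.cast_one, Nat.cast_zero, mul_zero] at this
      exact absurd this (by decide)
    · exact h'
    · have := e q hq
      rw [hp0 q (Nat.zero_le _) h', hq1, Nat.cast_one, Nat.cast_zero, mul_one] at this
      have h0 : (1 : ZMod 5) = 0 := by rw [← c.mul_inv, ← this, zero_mul]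
      exact absurd h0 (by decide)
  subst hpq
  have hc1 : (c : ZMod 5) = 1 := by
    have := e p hp
    rw [hp1, hq1, Nat.cast_one, mul_one] at this
    exact this.symm
  rw [pk_self hu1, pk_self hv1]
  refine pk_congr fun t ht => ?_
  have := e t ht
  rw [hc1, one_mul, ZMod.natCast_eq_natCast_iff', Nat.mod_eq_of_lt (hu3 t ht),
    Nat.mod_eq_of_lt (hv3 t ht)] at this
  exact this

theorem vecs_spec {d : ℕ} {v ord pos : Nat → Nat} (h : okVecs d v ord pos = true) :
    (∀ i < 3906, okVec d (v i) = true) ∧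
      Function.Injective fun i : Fin 3906 => lineOf (toV d (v i)) := by
  have hh := fun i hi => allBelow_spec h i hi
  simp only [Bool.and_eq_true, Bool.or_eq_true, Nat.beq_eq, Nat.blt_eq, Nat.ble_eq] at hh
  refine ⟨fun i hi => (hh i hi).1.1.1, fun a b hab => ?_⟩
  have e := line_inj (hh a a.2).1.1.1 (hh b b.2).1.1.1 hab
  refine injective_of_key (fun i : Fin 3906 => v i) id ord pos v (fun _ => rfl)
    (fun i hi => ⟨(hh i hi).1.1.2, (hh i hi).1.2⟩) (fun j hj => ?_) e
  rcases (hh j (by omega)).2 with h' | h'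
  · omega
  · exact h'

theorem line_map {d G : ℕ} {v : Nat → Nat} (hd : d ≤ 125) (hG : Small d G)
    (hv : ∀ i < 3906, okVec d (v i) = true) (g : GL (Fin d) (ZMod 5))
    (hg : g.1 = toM d G) {i j : ℕ} (hi : i < 3906) (hj : j < 3906)
    (h : okMult d (vmulF d (v i) G) (v j) = true) :
    setAct d g⁻¹ (lineOf (toV d (v i))) = lineOf (toV d (v j)) := by
  have h1 := hv i hi
  have h2 := hv j hj
  simp only [okVec, Bool.and_eq_true, Nat.blt_eq, List.all_eq_true, List.mem_range] at h1 h2
  obtain ⟨c, hc⟩ := exists_of_okMult (pk_self h2.1.1) h2.2 h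
  refine setAct_line g (c := c) ?_
  rw [hg, ← (toV_vmulF hd h1.2 hG).1]
  exact hc

/-- the matrices in fourteen dimensions -/
theorem D14 : GenSet 14 4 M14 := GenSet.of_ok gens14

/-- the matrices in seven dimensions -/
theorem D7 : GenSet 7 4 M7 := GenSet.of_ok gens7

/-- the representation in fourteen dimensions -/
noncomputable def rho14 : GrpK →* GL (Fin 14) (ZMod 5) := D14.rep rels14

/-- the representation in seven dimensions -/
noncomputable def rho7 : GrpK →* GL (Fin 7) (ZMod 5) := D7.rep rels7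

theorem gen_inv_val {n m : ℕ} {G : List ℕ} (D : GenSet n m G) (k : Fin m) :
    ((D.gen k)⁻¹ : GL (Fin n) (ZMod 5)).1 = toM n (letM G (2 * k + 1)) := rfl

theorem img2_spec : ∀ x < 8, ∀ i < 3906, img2 x i < 3906 ∧ img2 (Nat.xor x 1) (img2 x i) = i ∧
    okMult 7 (vmulF 7 (v7 i) (M7.getD x 0)) (v7 (img2 x i)) = true := by
  intro x hx i hi
  have h : ok7 x = true := by
    interval_cases x
    exacts [l7_0, l7_1, l7_2, l7_3, l7_4, l7_5, l7_6, l7_7]
  have := allBelow_spec h i hi
  simp only [Bool.and_eq_true, Nat.beq_eq, Nat.blt_eq] at this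
  exact ⟨this.1.1, this.1.2, this.2⟩

/-- a generator on the lines of the second kind -/
noncomputable def sig2 (k : Fin 4) : Perm (Fin 3906) where
  toFun i := ⟨img2 (2 * k + 1) i, (img2_spec _ (by omega) i i.2).1⟩
  invFun i := ⟨img2 (2 * k) i, (img2_spec _ (by omega) i i.2).1⟩
  left_inv i := Fin.ext (by
    have := (img2_spec (2 * k + 1) (by omega) i i.2).2.1
    rwa [show Nat.xor (2 * (k : ℕ) + 1) 1 = 2 * k from
      Nat.xor_one_of_odd (odd_two_mul_add_one _)] at this)
  right_inv i := Fin.ext (by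
    have := (img2_spec (2 * k) (by omega) i i.2).2.1
    rwa [show Nat.xor (2 * (k : ℕ)) 1 = 2 * k + 1 from
      Nat.xor_one_of_even (even_two_mul _)] at this)

theorem gen_top : Subgroup.closure (Set.range (Grp.gen (m := 4) (rels := RK))) = ⊤ :=
  Grp.closure_gen

theorem exists_pi2 : ∃ π : GrpK →* Perm (Fin 3906), ∀ k, π (Grp.gen k) = sig2 k := by
  obtain ⟨hv, hinj⟩ := vecs_spec vecs7
  refine exists_perms ((setAct 7).comp rho7) _ hinj Grp.gen gen_top sig2 fun k i => ?_
  have h := img2_spec (2 * (k : ℕ) + 1) (by omega) i i.2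
  have := line_map (by norm_num) (D7.small _ (two_mul_lt k).2) hv (D7.gen k)⁻¹
    (gen_inv_val D7 k) i.2 h.1 h.2.2
  rwa [inv_inv, ← D7.rep_gen rels7] at this

/-- the action on the lines of the second kind -/
noncomputable def pi2 : GrpK →* Perm (Fin 3906) := exists_pi2.choose

theorem pi2_gen (k : Fin 4) : pi2 (Grp.gen k) = sig2 k := exists_pi2.choose_spec k

theorem six_spec : ∀ i < 19530, okSix i = true ∧ ordP.half (posP.half i) = i ∧
    posP.half i < 19530 ∧ (i + 1 < 19530 → keyP (ordP.half i) < keyP (ordP.half (i + 1))) := by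
  intro i hi
  have h := okRange10 (p := okPts) (q := fun i => okSix i && Nat.beq (ordP.half (posP.half i)) i &&
      Nat.blt (posP.half i) 19530 &&
      (Nat.ble 19530 (i + 1) || Nat.blt (keyP (ordP.half i)) (keyP (ordP.half (i + 1)))))
    (fun lo len => rfl) (fun t ht => by
      interval_cases t
      exacts [pts_0, pts_1953, pts_3906, pts_5859, pts_7812, pts_9765, pts_11718, pts_13671,
        pts_15624, pts_17577]) i hi
  simp only [Bool.and_eq_true, Bool.or_eq_true, Nat.beq_eq, Nat.blt_eq, Nat.ble_eq] at h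
  exact ⟨h.1.1.1, h.1.1.2, h.1.2, fun h' => h.2.resolve_left (by omega)⟩

theorem six_lt {i s : ℕ} (hi : i < 19530) (hs : s < 6) : pr i s < 3906 := by
  have h := (six_spec i hi).1
  simp only [okSix, Bool.and_eq_true, Nat.blt_eq] at h
  interval_cases s <;> omega

/-- one of the six lines, as a point -/
noncomputable def prF (i : Fin 19530) (s : ℕ) (hs : s < 6) : Fin 3906 := ⟨pr i s, six_lt i.2 hs⟩

/-- the set of three pairs of a point of the second kind -/
noncomputable def setU (i : Fin 19530) : Finset (Sym2 (Fin 3906)) :=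
  {s(prF i 0 (by norm_num), prF i 1 (by norm_num)), s(prF i 2 (by norm_num), prF i 3 (by norm_num)),
    s(prF i 4 (by norm_num), prF i 5 (by norm_num))}

/-- the key of an unordered pair -/
def symKey : Sym2 (Fin 3906) → ℕ :=
  Sym2.lift ⟨fun a b => pairKey a b, fun a b => by simp [pairKey, Nat.min_comm, Nat.max_comm]⟩

theorem setU_inj : Function.Injective setU := by
  refine injective_of_key setU (fun S => ∑ p ∈ S, symKey p) ordP.half posP.half keyP (fun i => ?_)
    (fun i hi => ⟨(six_spec i hi).2.1, (six_spec i hi).2.2.1⟩)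
    fun j hj => (six_spec j (by omega)).2.2.2 hj
  have h := (six_spec i i.2).1
  simp only [okSix, Bool.and_eq_true, Nat.blt_eq] at h
  rw [setU, Finset.sum_insert, Finset.sum_insert, Finset.sum_singleton]
  · rfl
  · simp only [Finset.mem_singleton, Sym2.eq_iff, prF, Fin.ext_iff, not_or, not_and]
    refine ⟨?_, ?_⟩ <;> intros <;> omega
  · simp only [Finset.mem_insert, Finset.mem_singleton, Sym2.eq_iff, prF, Fin.ext_iff, not_or,
      not_and]
    refine ⟨⟨?_, ?_⟩, ?_, ?_⟩ <;> intros <;> omega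

attribute [local irreducible] img2 pr PermData.img

theorem samePair_eq {a b c d : Fin 3906} (h : samePair a b c d = true) : s(a, b) = s(c, d) := by
  simp only [samePair, Bool.or_eq_true, Bool.and_eq_true, Nat.beq_eq] at h
  rw [Sym2.eq_iff]
  exact h.imp (fun h => ⟨Fin.ext h.1, Fin.ext h.2⟩) fun h => ⟨Fin.ext h.1, Fin.ext h.2⟩

theorem triple_eq (a b c d e f a' b' c' d' e' f' : Fin 3906)
    (h : ((samePair a b a' b' = true ∨ samePair a b c' d' = true) ∨ samePair a b e' f' = true) ∧
      ((samePair c d a' b' = true ∨ samePair c d c' d' = true) ∨ samePair c d e' f' = true) ∧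
      ((samePair e f a' b' = true ∨ samePair e f c' d' = true) ∨ samePair e f e' f' = true) ∧
      ((samePair a b a' b' = true ∨ samePair c d a' b' = true) ∨ samePair e f a' b' = true) ∧
      ((samePair a b c' d' = true ∨ samePair c d c' d' = true) ∨ samePair e f c' d' = true) ∧
      ((samePair a b e' f' = true ∨ samePair c d e' f' = true) ∨ samePair e f e' f' = true)) :
    ({s(a, b), s(c, d), s(e, f)} : Finset (Sym2 (Fin 3906))) = {s(a', b'), s(c', d'), s(e', f')} := by
  obtain ⟨p1, p2, p3, q1, q2, q3⟩ := h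
  have hp := fun {u v w x : Fin 3906} (h : samePair u v w x = true) => samePair_eq h
  ext z
  simp only [Finset.mem_insert, Finset.mem_singleton]
  constructor
  · rintro (rfl | rfl | rfl)
    · exact p1.elim (·.elim (fun h => .inl (hp h)) fun h => .inr (.inl (hp h)))
        fun h => .inr (.inr (hp h))
    · exact p2.elim (·.elim (fun h => .inl (hp h)) fun h => .inr (.inl (hp h)))
        fun h => .inr (.inr (hp h))
    · exact p3.elim (·.elim (fun h => .inl (hp h)) fun h => .inr (.inl (hp h)))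
        fun h => .inr (.inr (hp h))
  · rintro (rfl | rfl | rfl)
    · exact q1.elim (·.elim (fun h => .inl (hp h).symm) fun h => .inr (.inl (hp h).symm))
        fun h => .inr (.inr (hp h).symm)
    · exact q2.elim (·.elim (fun h => .inl (hp h).symm) fun h => .inr (.inl (hp h).symm))
        fun h => .inr (.inr (hp h).symm)
    · exact q3.elim (·.elim (fun h => .inl (hp h).symm) fun h => .inr (.inl (hp h).symm))
        fun h => .inr (.inr (hp h).symm)

theorem u_spec (k : Fin 4) : ∀ i < 19530, ∃ lo r, lo + r = i ∧ r < 1953 ∧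
    okU (2 * k + 1) lo 1953 = true := by
  intro i hi
  have h : ∀ t < 10, okU (2 * k + 1) (t * 1953) 1953 = true := by
    intro t ht
    fin_cases k
    · interval_cases t
      exacts [u1_0, u1_1953, u1_3906, u1_5859, u1_7812, u1_9765, u1_11718, u1_13671, u1_15624, u1_17577]
    · interval_cases t
      exacts [u3_0, u3_1953, u3_3906, u3_5859, u3_7812, u3_9765, u3_11718, u3_13671, u3_15624, u3_17577]
    · interval_cases t
      exacts [u5_0, u5_1953, u5_3906, u5_5859, u5_7812, u5_9765, u5_11718, u5_13671, u5_15624, u5_17577]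
    · interval_cases t
      exacts [u7_0, u7_1953, u7_3906, u7_5859, u7_7812, u7_9765, u7_11718, u7_13671, u7_15624, u7_17577]
  exact ⟨i / 1953 * 1953, i % 1953, Nat.div_add_mod' i 1953, Nat.mod_lt _ (by norm_num),
    h (i / 1953) (by omega)⟩

theorem img_spec {x : ℕ} (hx : x < 8) {i : ℕ} (hi : i < 23436) :
    GK.P.img x i < 23436 ∧ GK.P.img (Nat.xor x 1) (GK.P.img x i) = i :=
  okPair_spec GK.pair_ok (k := x) hx ⟨i, hi⟩

/-- a generator on all the points -/
noncomputable def sig (k : Fin 4) : Perm (Fin 23436) where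
  toFun i := ⟨GK.P.img (2 * k + 1) i, (img_spec (by omega) i.2).1⟩
  invFun i := ⟨GK.P.img (2 * k) i, (img_spec (by omega) i.2).1⟩
  left_inv i := Fin.ext (by
    have := (img_spec (x := 2 * k + 1) (by omega) i.2).2
    rwa [show Nat.xor (2 * (k : ℕ) + 1) 1 = 2 * k from
      Nat.xor_one_of_odd (odd_two_mul_add_one _)] at this)
  right_inv i := Fin.ext (by
    have := (img_spec (x := 2 * k) (by omega) i.2).2
    rwa [show Nat.xor (2 * (k : ℕ)) 1 = 2 * k + 1 from
      Nat.xor_one_of_even (even_two_mul _)] at this)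

/-- the object of a point -/
noncomputable def obj (i : Fin 23436) : Set (Fin 14 → ZMod 5) ⊕ Finset (Sym2 (Fin 3906)) :=
  if h : (i : ℕ) < 3906 then .inl (lineOf (toV 14 (v14 i))) else .inr (setU ⟨i - 3906, by omega⟩)

/-- the action on the objects -/
noncomputable def objAct : GrpK →* Perm (Set (Fin 14 → ZMod 5) ⊕ Finset (Sym2 (Fin 3906))) :=
  (Perm.sumCongrHom _ _).comp (((setAct 14).comp rho14).prod ((pairsAct 3906).comp pi2))

theorem exists_pi : ∃ π : GrpK →* Perm (Fin 23436), ∀ k, π (Grp.gen k) = sig k := by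
  obtain ⟨hv, hinj⟩ := vecs_spec vecs14
  refine exists_perms objAct obj (fun a b h => ?_) Grp.gen gen_top sig fun k i => ?_
  · by_cases ha : (a : ℕ) < 3906 <;> by_cases hb : (b : ℕ) < 3906
    · rw [obj, obj, dif_pos ha, dif_pos hb, Sum.inl.injEq] at h
      exact Fin.ext (congrArg (fun j : Fin 3906 => (j : ℕ))
        (hinj (a₁ := ⟨a, ha⟩) (a₂ := ⟨b, hb⟩) h))
    · simp [obj, ha, hb] at h
    · simp [obj, ha, hb] at h
    · rw [obj, obj, dif_neg ha, dif_neg hb, Sum.inr.injEq] at h
      have := congrArg (fun j : Fin 19530 => (j : ℕ)) (setU_inj h)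
      exact Fin.ext (by simp only at this; omega)
  by_cases hi : (i : ℕ) < 3906
  · have h : ok14 (2 * k + 1) = true := by
      fin_cases k
      exacts [l14_1, l14_3, l14_5, l14_7]
    have h' := allBelow_spec h i hi
    simp only [Bool.and_eq_true, Nat.blt_eq] at h'
    have := line_map (by norm_num) (D14.small _ (two_mul_lt k).2) hv (D14.gen k)⁻¹
      (gen_inv_val D14 k) hi h'.1 h'.2
    rw [inv_inv, ← D14.rep_gen rels14] at this
    have hs : ((sig k i : Fin 23436) : ℕ) < 3906 := h'.1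
    rw [obj, dif_pos hi, obj, dif_pos hs]
    exact congrArg Sum.inl this
  · have hi' : (i : ℕ) - 3906 < 19530 := by omega
    obtain ⟨lo, r, e, hr, hU⟩ := u_spec k _ hi'
    have h := allBelow_spec hU r hr
    rw [show Nat.add lo r = (i : ℕ) - 3906 from e] at h
    simp only [Bool.and_eq_true, Bool.or_eq_true, Nat.ble_eq, Nat.blt_eq] at h
    rw [show Nat.add 3906 ((i : ℕ) - 3906) = i from Nat.add_sub_cancel' (not_lt.1 hi)] at h
    obtain ⟨⟨hj1, hj2⟩, ⟨⟨⟨⟨p1, p2⟩, p3⟩, q1⟩, q2⟩, q3⟩ := h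
    have hs : ¬ ((sig k i : Fin 23436) : ℕ) < 3906 := Nat.not_lt.2 hj1
    rw [obj, dif_neg hi, obj, dif_neg hs]
    refine congrArg Sum.inr ?_
    show (setU ⟨(i : ℕ) - 3906, hi'⟩).image (Sym2.map (pi2 (Grp.gen k))) = _
    rw [pi2_gen]
    simp only [setU, Finset.image_insert, Finset.image_singleton, Sym2.map_mk]
    refine triple_eq _ _ _ _ _ _ _ _ _ _ _ _ ?_
    simp only [sig, sig2, prF, Equiv.coe_fn_mk]
    exact ⟨p1, p2, p3, q1, q2, q3⟩

end Pts

/-- the permutations of the points -/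
noncomputable def piK : GrpK →* Perm (Fin 23436) := Pts.exists_pi.choose

theorem piK_gen (k : Fin 4) : piK (Grp.gen k) = Pts.sig k := Pts.exists_pi.choose_spec k

theorem piK_img (x : ℕ) (hx : x < 8) (i : Fin 23436) :
    (((piK (lv (Grp.gen (m := 4) (rels := RK)) x))⁻¹ i : Fin 23436) : ℕ) = GK.P.img x i := by
  rcases Nat.mod_two_eq_zero_or_one x with h2 | h2
  · obtain ⟨k, rfl⟩ : ∃ k : Fin 4, x = 2 * k := ⟨⟨x / 2, by omega⟩, by simp only; omega⟩
    rw [show lv (Grp.gen (m := 4) (rels := RK)) (2 * k) = Grp.gen k by simp [lv], piK_gen]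
    rfl
  · obtain ⟨k, rfl⟩ : ∃ k : Fin 4, x = 2 * k + 1 := ⟨⟨x / 2, by omega⟩, by simp only; omega⟩
    rw [show lv (Grp.gen (m := 4) (rels := RK)) (2 * k + 1) = (Grp.gen k)⁻¹ by
      simp [lv, Nat.add_mod, show (2 * (k : ℕ) + 1) / 2 = k by omega], map_inv, inv_inv, piK_gen]
    rfl

/-- the representation of the group on `a, b, c, d` on 23436 points -/
noncomputable def permsK : Perms GK.P GrpK where
  m := 4
  g_eq := rfl
  gen := Grp.gen
  π := piK
  img x hx i := piK_img x hx i

end CfsgLib.Spor.Ly
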