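import Cfsg.Agent.Lib.Spor.Ly.Five
import Cfsg.Agent.Lib.DCE.Subst

/-!
Presented groups represented by packed matrices over the field of five elements.
-/

set_option autoImplicit false

namespace CfsgLib.Spor.Ly.Five

open CfsgLib.DCE

variable (n : ℕ) (G : List ℕ)

/-- the packed matrix of a letter -/
def letM (x : ℕ) : ℕ := G.getD x 0

/-- the value of a word -/
def evalF : List ℕ → ℕ
  | [] => oneF n
  | x :: w => mulF n (letM G x) (evalF w)

/-- the generators come with their inverses and are well formed -/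
def okGens (m : ℕ) : Bool :=
  Nat.ble n 125 && okOne n && okEnt n (oneF n) &&
    (List.range (2 * m)).all fun x => okEnt n (letM G x) &&
      Nat.beq (mulF n (letM G x) (letM G (x ^^^ 1))) (oneF n)

variable {n G}

/-- an invertible matrix from a packed pair -/
def unitM {P Q : ℕ} (hn : n ≤ 125) (hP : Small n P) (hQ : Small n Q) (h1 : toM n (oneF n) = 1)
    (e1 : mulF n P Q = oneF n) (e2 : mulF n Q P = oneF n) : GL (Fin n) (ZMod 5) :=
  ⟨toM n P, toM n Q, by rw [← toM_mulF hn hP hQ, e1, h1], by rw [← toM_mulF hn hQ hP, e2, h1]⟩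

/-- what a checked list of generators provides -/
structure GenSet (n m : ℕ) (G : List ℕ) : Prop where
  hn : n ≤ 125
  one : toM n (oneF n) = 1
  smallOne : Small n (oneF n)
  small : ∀ x < 2 * m, Small n (letM G x)
  inv : ∀ x < 2 * m, mulF n (letM G x) (letM G (x ^^^ 1)) = oneF n

theorem GenSet.of_ok {m : ℕ} (h : okGens n G m = true) : GenSet n m G := by
  simp only [okGens, Bool.and_eq_true, Nat.ble_eq, List.all_eq_true, List.mem_range,
    Nat.beq_eq] at h
  obtain ⟨⟨⟨h1, h2⟩, h2'⟩, h3⟩ := h
  exact ⟨h1, toM_one h2, okEnt_spec h2', fun x hx => okEnt_spec (h3 x hx).1, fun x hx => (h3 x hx).2⟩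

variable {m : ℕ} (D : GenSet n m G)

theorem two_mul_lt (k : Fin m) : 2 * (k : ℕ) < 2 * m ∧ 2 * (k : ℕ) + 1 < 2 * m := by
  have := k.2
  omega

/-- a generator as an invertible matrix -/
def GenSet.gen (k : Fin m) : GL (Fin n) (ZMod 5) :=
  unitM D.hn (D.small _ (two_mul_lt k).1) (D.small _ (two_mul_lt k).2) D.one
    (by
      have e : (2 * (k : ℕ)) ^^^ 1 = 2 * k + 1 := by
        simp [Nat.xor_one_of_even (even_two_mul _)]
      have := D.inv _ (two_mul_lt k).1
      rwa [e] at this)
    (by
      have e : (2 * (k : ℕ) + 1) ^^^ 1 = 2 * k := by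
        simp [Nat.xor_one_of_odd (odd_two_mul_add_one _)]
      have := D.inv _ (two_mul_lt k).2
      rwa [e] at this)

include D in
theorem GenSet.small_eval : ∀ w : List ℕ, (∀ x ∈ w, x < 2 * m) → Small n (evalF n G w)
  | [], _ => D.smallOne
  | x :: w, h => small_mulF D.hn (D.small x (h x (List.mem_cons_self ..)))
      (GenSet.small_eval w fun y hy => h y (List.mem_cons_of_mem _ hy))

theorem GenSet.coe_wv : ∀ w : List ℕ, (∀ x ∈ w, x < 2 * m) →
    ((wv D.gen w : GL (Fin n) (ZMod 5)) : Matrix (Fin n) (Fin n) (ZMod 5)) = toM n (evalF n G w)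
  | [], _ => by simp [wv, evalF, D.one]
  | x :: w, h => by
    have hx := h x (List.mem_cons_self ..)
    have hw : ∀ y ∈ w, y < 2 * m := fun y hy => h y (List.mem_cons_of_mem _ hy)
    rw [wv_cons, Units.val_mul, GenSet.coe_wv w hw, evalF,
      toM_mulF D.hn (D.small x hx) (D.small_eval w hw)]
    congr 1
    rw [lv, dif_pos (by omega)]
    rcases Nat.mod_two_eq_zero_or_one x with h2 | h2
    · rw [if_pos h2]
      show toM n (letM G (2 * (x / 2))) = _
      rw [show 2 * (x / 2) = x by omega]
    · rw [if_neg (by omega)]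
      show toM n (letM G (2 * (x / 2) + 1)) = _
      rw [show 2 * (x / 2) + 1 = x by omega]

theorem GenSet.wv_eq_one {w : List ℕ} (hw : ∀ x ∈ w, x < 2 * m)
    (h : Nat.beq (evalF n G w) (oneF n) = true) : wv D.gen w = 1 :=
  Units.ext (by rw [D.coe_wv w hw, Nat.eq_of_beq_eq_true h, D.one]; rfl)

/-- the relators hold -/
def okRelsF (n : ℕ) (G : List ℕ) (m : ℕ) (rels : List (List ℕ)) : Bool :=
  rels.all fun w => (w.all fun x => Nat.blt x (2 * m)) && Nat.beq (evalF n G w) (oneF n)

/-- the representation of a presented group -/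
noncomputable def GenSet.rep {rels : List (List ℕ)} (h : okRelsF n G m rels = true) :
    Grp m rels →* GL (Fin n) (ZMod 5) :=
  Grp.lift D.gen fun w hw => by
    have := List.all_eq_true.1 h w hw
    simp only [Bool.and_eq_true, List.all_eq_true, Nat.blt_eq] at this
    exact D.wv_eq_one this.1 this.2

theorem GenSet.rep_gen {rels : List (List ℕ)} (h : okRelsF n G m rels = true) (k : Fin m) :
    D.rep h (Grp.gen k) = D.gen k := by simp [GenSet.rep]

end CfsgLib.Spor.Ly.Five
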