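import Cfsg.Agent.Lib.Spor.Ly.Upper

/-!
The exact order of the presented Lyons group from the upper bound and a divisor of the order.
-/

set_option autoImplicit false

namespace CfsgLib.Spor.Ly

open CfsgLib.PresCert CfsgLib.DCE

theorem psiK_range :
    psiK.range = Subgroup.closure ({lgen 0, lgen 1, lgen 2, lgen 3} : Set GLy) := by
  rw [MonoidHom.range_eq_map, ← Grp.closure_gen (m := 4) (rels := RK), MonoidHom.map_closure,
    ← Set.range_comp]
  congr 1
  ext q
  simp only [Set.mem_range, Function.comp_apply, psiK_gen, Set.mem_insert_iff,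
    Set.mem_singleton_iff]
  constructor
  · rintro ⟨k, rfl⟩
    fin_cases k <;> simp
  · rintro (rfl | rfl | rfl | rfl)
    exacts [⟨0, rfl⟩, ⟨1, rfl⟩, ⟨2, rfl⟩, ⟨3, rfl⟩]

variable (hdvd : 51765179004000000 ∣ Nat.card GLy)

include hdvd in
theorem exact_of_dvd : Nat.card GLy = 51765179004000000 ∧ psiK.range.index = 8835156 ∧
    Function.Injective psiK := by
  obtain ⟨hfin, hle⟩ := gly_bound
  obtain ⟨hfinK, -⟩ := gk_bound
  obtain ⟨hi, -⟩ := psiK_index_le
  have hcard : Nat.card GLy = 51765179004000000 :=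
    le_antisymm (hle.trans (by norm_num)) (Nat.le_of_dvd Nat.card_pos hdvd)
  have hsurj := psiK.rangeRestrict_surjective
  have hr : Nat.card psiK.range ≤ 5859000000 :=
    (Nat.card_le_card_of_surjective _ hsurj).trans k_faithful.2.le
  have e : Nat.card psiK.range * psiK.range.index = 5859000000 * 8835156 := by
    rw [psiK.range.card_mul_index, hcard]
  have hidx : psiK.range.index = 8835156 := le_antisymm hi (by
    by_contra h
    have h2 : Nat.card psiK.range * psiK.range.index < 5859000000 * 8835156 :=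
      lt_of_le_of_lt (Nat.mul_le_mul_right _ hr)
        (Nat.mul_lt_mul_of_pos_left (not_le.1 h) (by norm_num))
    exact h2.ne e)
  have hr2 : Nat.card psiK.range = 5859000000 := by
    rw [hidx] at e
    exact Nat.eq_of_mul_eq_mul_right (by norm_num) e
  refine ⟨hcard, hidx, ?_⟩
  have : Finite psiK.range := Finite.of_surjective _ hsurj
  have hb := (Nat.bijective_iff_surjective_and_card psiK.rangeRestrict).2
    ⟨hsurj, by rw [hr2, k_faithful.2]⟩
  exact fun x y hxy => hb.1 (Subtype.ext hxy)

include hdvd in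
theorem abcd_index_of_dvd : (((Subgroup.closure ({Cfsg.Spor.Ly.a, Cfsg.Spor.Ly.b, Cfsg.Spor.Ly.c,
    Cfsg.Spor.Ly.d} : Set (FreeGroup Cfsg.Spor.Ly.Gen))).map (PresentedGroup.mk
      (Cfsg.Spor.coxRelators Cfsg.Spor.Ly.edges ∪ {r | r ∈ Cfsg.Spor.Ly.extra})))).index =
      8835156 := by
  refine Eq.trans (congrArg Subgroup.index ?_) (exact_of_dvd hdvd).2.1
  rw [MonoidHom.map_closure, psiK_range]
  congr 1
  simp only [Set.image_insert_eq, Set.image_singleton]
  rfl

end CfsgLib.Spor.Ly
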