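import Cfsg.Agent.Lib.Spor.Ly.Exact
import Cfsg.Agent.Lib.KnownB.LyCent.KitOf
import Cfsg.Agent.Lib.KnownB.LyCent.SimpleQ

/-!
The closed enumeration of the presented Lyons group, and its simplicity.
-/

set_option autoImplicit false

namespace CfsgLib.Spor.Ly

open CfsgLib.PresCert CfsgLib.DCE CfsgLib.KnownB.LyCent

theorem orbLen_part5 : ∀ j : Fin GK.lives.length,
    CfsgLib.Spor.Ly.orbLen GK.lives[j] = orbSizes (part5 j) := by decide +kernel

variable (hdvd : 51765179004000000 ∣ Nat.card GLy)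

include hdvd in
/-- the enumeration is closed -/
theorem kit_of_dvd [Finite GrpK] : Kit modelGK := by
  obtain ⟨-, hidx, hinj⟩ := exact_of_dvd hdvd
  refine kit_of GK.setup_ok gk_live_ok (facts_sound modelGK GK.setup_ok GK.facts gk_facts_ok)
    hinj k_faithful.2 gk_edgeStab GK.cover_ok (fun k => ?_) hidx
  have h := (gk_stab_index GK.lives[k] (List.getElem_mem k.2)).1
  rwa [← orbLen_part5]

include hdvd in
/-- the presented group is the Lyons group -/
theorem isLy_of_dvd : Cfsg.IsLy GLy := by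
  obtain ⟨hfinK, -⟩ := gk_bound
  obtain ⟨hfin, -⟩ := gly_bound
  exact ⟨isSimpleGroup_Q (kit_of_dvd hdvd), (exact_of_dvd hdvd).1⟩

end CfsgLib.Spor.Ly
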