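import Mathlib

/-!
Square matrices over the field of five elements packed into one natural number, the entry in row `i`
and column `j` being the lane `n * i + j` of width 16. A product costs one multiplication of long
numbers for each column and a reduction of all lanes at once, so it is cheap for the kernel.
-/

set_option autoImplicit false

namespace CfsgLib.Spor.Ly.Five

open Matrix

/-- a number packed from `m` lanes of width `w` -/
def pk (w : ℕ) (f : ℕ → ℕ) : ℕ → ℕ
  | 0 => 0
  | m + 1 => f 0 + 2 ^ w * pk w (fun t => f (t + 1)) m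
termination_by structural m => m

/-- a mask: `c` in every lane -/
def msk (w c : ℕ) : ℕ → ℕ
  | 0 => 0
  | m + 1 => c + 2 ^ w * msk w c m

/-- a lane -/
def lane (w t x : ℕ) : ℕ := x / 2 ^ (w * t) % 2 ^ w

theorem pk_congr {w : ℕ} : ∀ {m : ℕ} {f g : ℕ → ℕ}, (∀ t < m, f t = g t) → pk w f m = pk w g m
  | 0, _, _, _ => rfl
  | m + 1, f, g, h => by
    rw [pk, pk, h 0 m.succ_pos, pk_congr fun t ht => h (t + 1) (Nat.succ_lt_succ ht)]

theorem pk_add {w : ℕ} : ∀ (m : ℕ) (f g : ℕ → ℕ),
    pk w f m + pk w g m = pk w (fun t => f t + g t) m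
  | 0, _, _ => rfl
  | m + 1, f, g => by
    simp only [pk]
    rw [← pk_add m]; ring

theorem pk_smul {w : ℕ} (c : ℕ) : ∀ (m : ℕ) (f : ℕ → ℕ),
    c * pk w f m = pk w (fun t => c * f t) m
  | 0, _ => rfl
  | m + 1, f => by
    simp only [pk]
    rw [← pk_smul c m]; ring

theorem pk_zero {w : ℕ} : ∀ m : ℕ, pk w (fun _ => 0) m = 0
  | 0 => rfl
  | m + 1 => by simp [pk, pk_zero m]

theorem pk_append {w : ℕ} : ∀ (a b : ℕ) (f : ℕ → ℕ),
    pk w f (a + b) = pk w f a + 2 ^ (w * a) * pk w (fun t => f (a + t)) b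
  | 0, b, f => by simp [pk]
  | a + 1, b, f => by
    rw [show a + 1 + b = a + b + 1 by ring, pk, pk, pk_append a b,
      show (fun t => f (a + t + 1)) = fun t => f (a + 1 + t) from
        funext fun t => by rw [Nat.add_right_comm], show w * (a + 1) = w + w * a by ring, pow_add]
    ring

theorem pk_block {w n : ℕ} : ∀ (m : ℕ) (g : ℕ → ℕ → ℕ),
    pk (w * n) (fun i => pk w (g i) n) m = pk w (fun t => g (t / n) (t % n)) (n * m)
  | 0, _ => by simp [pk]
  | m + 1, g => by
    rcases Nat.eq_zero_or_pos n with rfl | hn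
    · simp only [Nat.zero_mul, pk]; simp [pk_zero]
    rw [pk, pk_block m, show n * (m + 1) = n + n * m by ring, pk_append,
      pk_congr (f := fun t => g (t / n) (t % n)) (g := g 0) fun t ht => by
        rw [Nat.div_eq_of_lt ht, Nat.mod_eq_of_lt ht]]
    congr 2
    refine pk_congr fun t _ => ?_
    rw [Nat.add_mod_left, Nat.add_div_left _ hn]

theorem pk_lt {w : ℕ} : ∀ (m : ℕ) (f : ℕ → ℕ), (∀ t < m, f t < 2 ^ w) → pk w f m < 2 ^ (w * m)
  | 0, _, _ => by simp [pk]
  | m + 1, f, h => by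
    have h0 := h 0 m.succ_pos
    have ih := pk_lt m (fun t => f (t + 1)) fun t ht => h (t + 1) (Nat.succ_lt_succ ht)
    rw [pk, show w * (m + 1) = w + w * m by ring, pow_add]
    calc f 0 + 2 ^ w * pk w (fun t => f (t + 1)) m
        < 2 ^ w + 2 ^ w * pk w (fun t => f (t + 1)) m := by omega
      _ = 2 ^ w * (pk w (fun t => f (t + 1)) m + 1) := by ring
      _ ≤ 2 ^ w * 2 ^ (w * m) := Nat.mul_le_mul_left _ ih

theorem lane_pk {w : ℕ} : ∀ (m : ℕ) (f : ℕ → ℕ), (∀ t < m, f t < 2 ^ w) → ∀ t < m,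
    lane w t (pk w f m) = f t
  | 0, _, _, t, ht => absurd ht (Nat.not_lt_zero t)
  | m + 1, f, h, 0, _ => by
    rw [lane, pk]
    simp [Nat.add_mod, Nat.mod_eq_of_lt (h 0 m.succ_pos)]
  | m + 1, f, h, t + 1, ht => by
    have ih := lane_pk m (fun t => f (t + 1)) (fun t ht => h (t + 1) (Nat.succ_lt_succ ht)) t
      (Nat.lt_of_succ_lt_succ ht)
    have e : (f 0 + 2 ^ w * pk w (fun t => f (t + 1)) m) / 2 ^ w = pk w (fun t => f (t + 1)) m := by
      rw [Nat.add_mul_div_left _ _ (Nat.two_pow_pos w), Nat.div_eq_of_lt (h 0 m.succ_pos),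
        Nat.zero_add]
    rw [lane, pk, show w * (t + 1) = w + w * t by ring, pow_add, ← Nat.div_div_eq_div_mul, e]
    exact ih

theorem mod_eq_pk {w : ℕ} : ∀ (m x : ℕ), x % 2 ^ (w * m) = pk w (fun t => lane w t x) m
  | 0, x => by simp [pk, Nat.mod_one]
  | m + 1, x => by
    rw [pk, show w * (m + 1) = w + w * m by ring, pow_add, Nat.mod_mul, mod_eq_pk m]
    congr 1
    · simp [lane]
    · congr 1
      refine pk_congr fun t _ => ?_
      rw [lane, lane, Nat.div_div_eq_div_mul, ← pow_add, show w + w * t = w * (t + 1) by ring]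

theorem and_msk {w a : ℕ} (ha : a ≤ w) : ∀ (m x : ℕ),
    x &&& msk w (2 ^ a - 1) m = pk w (fun t => x / 2 ^ (w * t) % 2 ^ a) m
  | 0, x => by simp [msk, pk]
  | m + 1, x => by
    have hc : 2 ^ a - 1 < 2 ^ w := by
      have := Nat.pow_le_pow_right (n := 2) (by norm_num) ha
      have := Nat.two_pow_pos a
      omega
    have hx : x % 2 ^ a < 2 ^ w :=
      (Nat.mod_lt _ (Nat.two_pow_pos a)).trans_le (Nat.pow_le_pow_right (by norm_num) ha)
    have key : x &&& (2 ^ w * msk w (2 ^ a - 1) m + (2 ^ a - 1)) =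
        2 ^ w * ((x / 2 ^ w) &&& msk w (2 ^ a - 1) m) + x % 2 ^ a := by
      refine Nat.eq_of_testBit_eq fun i => ?_
      rw [Nat.testBit_and, Nat.testBit_two_pow_mul_add _ hc, Nat.testBit_two_pow_mul_add _ hx]
      split_ifs with hi
      · rw [Nat.testBit_two_pow_sub_one, Nat.testBit_mod_two_pow, Bool.and_comm]
      · rw [Nat.testBit_and, Nat.testBit_div_two_pow, Nat.sub_add_cancel (not_lt.1 hi)]
    rw [msk, pk, add_comm (2 ^ a - 1), key, and_msk ha m, add_comm]
    congr 1
    · simp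
    · congr 1
      refine pk_congr fun t _ => ?_
      rw [Nat.div_div_eq_div_mul, ← pow_add, show w + w * t = w * (t + 1) by ring]

theorem sub_lane {a k x t : ℕ} (h : k + a ≤ 16) :
    x / 2 ^ k / 2 ^ (16 * t) % 2 ^ a = lane 16 t x / 2 ^ k % 2 ^ a := by
  rw [lane, Nat.div_div_eq_div_mul, mul_comm, ← Nat.div_div_eq_div_mul]
  generalize x / 2 ^ (16 * t) = y
  obtain ⟨b, hb⟩ := Nat.exists_eq_add_of_le h
  rw [hb, show k + a + b = k + (a + b) by ring, pow_add, Nat.mod_mul_right_div_self, pow_add,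
    Nat.mod_mul_right_mod]

/-- one folding step -/
def fold (m x : ℕ) : ℕ :=
  (x &&& msk 16 15 m) + ((x >>> 4) &&& msk 16 4095 m)

/-- all lanes reduced to `0, …, 4` -/
def red (m x : ℕ) : ℕ :=
  let y := fold m (fold m (fold m x))
  y - 5 * (((13 * y) >>> 6) &&& msk 16 1023 m)

theorem fold_pk (m : ℕ) (f : ℕ → ℕ) (h : ∀ t < m, f t < 2 ^ 16) :
    fold m (pk 16 f m) = pk 16 (fun t => f t % 16 + f t / 16) m := by
  rw [fold, show (15 : ℕ) = 2 ^ 4 - 1 by norm_num, show (4095 : ℕ) = 2 ^ 12 - 1 by norm_num,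
    and_msk (by norm_num) m, and_msk (by norm_num) m, Nat.shiftRight_eq_div_pow, pk_add]
  refine pk_congr fun t ht => ?_
  rw [sub_lane (by norm_num), lane_pk m f h t ht]
  have := h t ht
  have e := sub_lane (a := 4) (k := 0) (x := pk 16 f m) (t := t) (by norm_num)
  simp only [pow_zero, Nat.div_one] at e
  rw [e, lane_pk m f h t ht]
  omega

theorem red_pk (m : ℕ) (f : ℕ → ℕ) (h : ∀ t < m, f t ≤ 2000) :
    red m (pk 16 f m) = pk 16 (fun t => f t % 5) m := by
  have h1 : ∀ t < m, f t < 2 ^ 16 := fun t ht => by have := h t ht; omega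
  rw [red, fold_pk m f h1, fold_pk m _ (fun t ht => by have := h t ht; omega),
    fold_pk m _ (fun t ht => by have := h t ht; omega)]
  set g : ℕ → ℕ := fun t => ((f t % 16 + f t / 16) % 16 + (f t % 16 + f t / 16) / 16) % 16 +
    ((f t % 16 + f t / 16) % 16 + (f t % 16 + f t / 16) / 16) / 16 with hgdef
  have hg : ∀ t < m, g t ≤ 17 ∧ g t % 5 = f t % 5 := by
    intro t ht; have := h t ht; simp only [hgdef]; omega
  try simp only
  rw [pk_smul, show (1023 : ℕ) = 2 ^ 10 - 1 by norm_num, Nat.shiftRight_eq_div_pow,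
    and_msk (by norm_num) m, pk_smul]
  have e : pk 16 g m = pk 16 (fun t => f t % 5) m +
      pk 16 (fun t => 5 * (pk 16 (fun t => 13 * g t) m / 2 ^ 6 / 2 ^ (16 * t) % 2 ^ 10)) m := by
    rw [pk_add]
    refine pk_congr fun t ht => ?_
    rw [sub_lane (by norm_num),
      lane_pk m (fun t => 13 * g t) (fun s hs => by have := (hg s hs).1; omega) t ht]
    have := hg t ht
    try simp only
    norm_num at this ⊢; obtain ⟨h17, h5⟩ := this; rw [← h5]; generalize g t = v at h17; interval_cases v <;> rfl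
  omega

/-- one column times one row -/
def colRow (n P Q k : ℕ) : ℕ :=
  ((P >>> (16 * k)) &&& msk (16 * n) 65535 n) * ((Q >>> (16 * n * k)) % 2 ^ (16 * n))

/-- the contribution of the first `k` columns of `P` to the product -/
def mulAux (n P Q : ℕ) : ℕ → ℕ
  | 0 => 0
  | k + 1 => mulAux n P Q k + colRow n P Q k

/-- the product of two packed matrices -/
def mulF (n P Q : ℕ) : ℕ := red (n * n) (mulAux n P Q n)

/-- the packed identity -/
def oneF (n : ℕ) : ℕ := msk (16 * (n + 1)) 1 n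

/-- the entries of the matrices lie in `0, …, 4` -/
def okEnt (n P : ℕ) : Bool :=
  (List.range (n * n)).all fun t => Nat.blt (lane 16 t P) 5

/-- the matrix of a packed matrix -/
def toM (n P : ℕ) : Matrix (Fin n) (Fin n) (ZMod 5) :=
  fun i j => (lane 16 (n * i + j) P : ZMod 5)

theorem colRow_eq (n P Q k : ℕ) : colRow n P Q k =
    pk 16 (fun t => lane 16 (n * (t / n) + k) P * lane 16 (n * k + t % n) Q) (n * n) := by
  rcases Nat.eq_zero_or_pos n with rfl | hn
  · simp [colRow, msk, pk]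
  have h1 : (P >>> (16 * k)) &&& msk (16 * n) 65535 n =
      pk (16 * n) (fun i => lane 16 (n * i + k) P) n := by
    rw [show (65535 : ℕ) = 2 ^ 16 - 1 by norm_num, and_msk (by omega) n, Nat.shiftRight_eq_div_pow]
    refine pk_congr fun i _ => ?_
    rw [lane, Nat.div_div_eq_div_mul, ← pow_add,
      show 16 * k + 16 * n * i = 16 * (n * i + k) by ring]
  have h2 : (Q >>> (16 * n * k)) % 2 ^ (16 * n) = pk 16 (fun j => lane 16 (n * k + j) Q) n := by
    rw [mod_eq_pk, Nat.shiftRight_eq_div_pow]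
    refine pk_congr fun j _ => ?_
    rw [lane, lane, Nat.div_div_eq_div_mul, ← pow_add,
      show 16 * n * k + 16 * j = 16 * (n * k + j) by ring]
  rw [colRow, h1, h2, mul_comm, pk_smul,
    ← pk_block n fun i j => lane 16 (n * i + k) P * lane 16 (n * k + j) Q]
  refine pk_congr fun i _ => ?_
  rw [mul_comm, pk_smul]

theorem mulAux_eq (n P Q : ℕ) : ∀ k, mulAux n P Q k = pk 16 (fun t =>
    ∑ s ∈ Finset.range k, lane 16 (n * (t / n) + s) P * lane 16 (n * s + t % n) Q) (n * n)
  | 0 => by simp [mulAux, pk_zero]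
  | k + 1 => by
    rw [mulAux, mulAux_eq n P Q k, colRow_eq, pk_add]
    exact pk_congr fun t _ => (Finset.sum_range_succ _ k).symm

theorem okEnt_spec {n P : ℕ} (h : okEnt n P = true) : ∀ t < n * n, lane 16 t P < 5 := by
  simpa [okEnt] using h

/-- what packed matrices satisfy -/
def Small (n P : ℕ) : Prop := ∀ t < n * n, lane 16 t P < 5

theorem idx_lt {n : ℕ} {i j : ℕ} (hi : i < n) (hj : j < n) : n * i + j < n * n := by
  calc n * i + j < n * i + n := by omega
    _ = n * (i + 1) := by ring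
    _ ≤ n * n := Nat.mul_le_mul_left n hi

theorem mulF_eq {n P Q : ℕ} (hn : n ≤ 125) (hP : Small n P) (hQ : Small n Q) :
    mulF n P Q = pk 16 (fun t => (∑ s ∈ Finset.range n,
      lane 16 (n * (t / n) + s) P * lane 16 (n * s + t % n) Q) % 5) (n * n) := by
  rw [mulF, mulAux_eq, red_pk]
  intro t ht
  have hn0 : 0 < n := Nat.pos_of_ne_zero fun h => by simp [h] at ht
  calc _ ≤ ∑ _s ∈ Finset.range n, 16 := by
        refine Finset.sum_le_sum fun s hs => ?_
        have h1 := hP _ (idx_lt (Nat.div_lt_of_lt_mul ht) (Finset.mem_range.1 hs))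
        have h2 := hQ _ (idx_lt (Finset.mem_range.1 hs) (Nat.mod_lt t hn0))
        calc _ ≤ 4 * 4 := Nat.mul_le_mul (by omega) (by omega)
          _ = 16 := rfl
    _ ≤ 2000 := by simp; omega

theorem small_mulF {n P Q : ℕ} (hn : n ≤ 125) (hP : Small n P) (hQ : Small n Q) :
    Small n (mulF n P Q) := by
  intro t ht
  rw [mulF_eq hn hP hQ, lane_pk _ _ (fun s _ => lt_trans (Nat.mod_lt _ (by norm_num)) (by norm_num)) t ht]
  exact Nat.mod_lt _ (by norm_num)

theorem toM_mulF {n P Q : ℕ} (hn : n ≤ 125) (hP : Small n P) (hQ : Small n Q) :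
    toM n (mulF n P Q) = toM n P * toM n Q := by
  ext i j
  rw [toM, mulF_eq hn hP hQ, lane_pk _ _
    (fun s _ => lt_trans (Nat.mod_lt _ (by norm_num)) (by norm_num)) _ (idx_lt i.2 j.2),
    ZMod.natCast_mod, Matrix.mul_apply, Nat.cast_sum]
  rw [← Fin.sum_univ_eq_sum_range]
  refine Finset.sum_congr rfl fun s _ => ?_
  have h0 : 0 < n := i.pos
  rw [Nat.mul_add_div h0, Nat.div_eq_of_lt j.2, Nat.add_zero, Nat.mul_add_mod,
    Nat.mod_eq_of_lt j.2]
  simp [toM]

theorem oneF_eq (n : ℕ) : oneF n = pk (16 * (n + 1)) (fun _ => 1) n := by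
  suffices h : ∀ w c m, msk w c m = pk w (fun _ => c) m from h _ _ _
  intro w c m
  induction m with
  | zero => rfl
  | succ m ih => rw [msk, pk, ih]

/-- the packed identity is the identity -/
def okOne (n : ℕ) : Bool :=
  (List.range (n * n)).all fun t => Nat.beq (lane 16 t (oneF n)) (bif t / n == t % n then 1 else 0)

theorem toM_one {n : ℕ} (h : okOne n = true) : toM n (oneF n) = 1 := by
  simp only [okOne, List.all_eq_true, List.mem_range, Nat.beq_eq] at h
  ext i j
  rw [toM, h _ (idx_lt i.2 j.2)]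
  have h0 : 0 < n := i.pos
  rw [Nat.mul_add_div h0, Nat.div_eq_of_lt j.2, Nat.add_zero, Nat.mul_add_mod,
    Nat.mod_eq_of_lt j.2, Matrix.one_apply]
  by_cases e : i = j
  · simp [e]
  · have : ((i : ℕ) == (j : ℕ)) = false := by simpa using fun h => e (Fin.ext h)
    simp [e, this]

theorem toM_ne {n P Q : ℕ} (i j : Fin n)
    (h : ((lane 16 (n * i + j) P : ZMod 5) == (lane 16 (n * i + j) Q : ZMod 5)) = false) :
    toM n P ≠ toM n Q := fun e => by
  have := congrFun (congrFun e i) j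
  simp only [toM] at this
  simp [this] at h

end CfsgLib.Spor.Ly.Five
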