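import Cfsg.Agent.Lib.Spor.Ly.GKData
import Cfsg.Agent.Lib.KnownB.LyMult.Fast

/-!
Kernel checks: facts about the double cosets.
-/

namespace CfsgLib.Spor.Ly.GK

open CfsgLib.PresCert CfsgLib.DCE CfsgLib.KnownB.LyMult

theorem facts_72T : okRangeT S facts 72 9 = true := by decide +kernel

theorem facts_72 : S.okRange facts 72 9 = true := by
  rw [← okRangeT_eq]; exact facts_72T

end CfsgLib.Spor.Ly.GK
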