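import Cfsg.Agent.Lib.Spor.Ly.GKData
import Cfsg.Agent.Lib.DCE.LiveParts

/-!
Kernel checks: a closed double coset.
-/

namespace CfsgLib.Spor.Ly.GK

open CfsgLib.PresCert CfsgLib.DCE

theorem live0_part0 :
    S.okClassPart facts live0.i 0 cls0 0 1302 = true := by decide +kernel

theorem live0_part1 :
    S.okClassPart facts live0.i 0 cls0 1302 1302 = true := by decide +kernel

theorem live0_part2 :
    S.okClassPart facts live0.i 0 cls0 2604 1302 = true := by decide +kernel

theorem live0_part3 :
    S.okClassPart facts live0.i 0 cls0 3906 1302 = true := by decide +kernel

theorem live0_part4 :
    S.okClassPart facts live0.i 0 cls0 5208 1302 = true := by decide +kernel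

theorem live0_part5 :
    S.okClassPart facts live0.i 0 cls0 6510 1302 = true := by decide +kernel

theorem live0_part6 :
    S.okClassPart facts live0.i 0 cls0 7812 1302 = true := by decide +kernel

theorem live0_part7 :
    S.okClassPart facts live0.i 0 cls0 9114 1302 = true := by decide +kernel

theorem live0_part8 :
    S.okClassPart facts live0.i 0 cls0 10416 1302 = true := by decide +kernel

theorem live0_part9 :
    S.okClassPart facts live0.i 0 cls0 11718 1302 = true := by decide +kernel

theorem live0_part10 :
    S.okClassPart facts live0.i 0 cls0 13020 1302 = true := by decide +kernel

theorem live0_part11 :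
    S.okClassPart facts live0.i 0 cls0 14322 1302 = true := by decide +kernel

theorem live0_part12 :
    S.okClassPart facts live0.i 0 cls0 15624 1302 = true := by decide +kernel

theorem live0_part13 :
    S.okClassPart facts live0.i 0 cls0 16926 1302 = true := by decide +kernel

theorem live0_part14 :
    S.okClassPart facts live0.i 0 cls0 18228 1302 = true := by decide +kernel

theorem live0_part15 :
    S.okClassPart facts live0.i 0 cls0 19530 1302 = true := by decide +kernel

theorem live0_part16 :
    S.okClassPart facts live0.i 0 cls0 20832 1302 = true := by decide +kernel

theorem live0_part17 :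
    S.okClassPart facts live0.i 0 cls0 22134 1302 = true := by decide +kernel

theorem live0_head : Setup.okLiveHead S facts live0 = true := by decide +kernel

theorem live0_ok : S.okLive facts live0 = true := by
  refine Setup.okLive_of_parts live0_head (by decide +kernel) fun e he => ?_
  obtain rfl : e = 0 := Nat.lt_one_iff.1 he
  exact ((((((((((((((((((Setup.classOK_of_part live0_part0).join
    (Setup.classOK_of_part live0_part1)).join
    (Setup.classOK_of_part live0_part2)).join
    (Setup.classOK_of_part live0_part3)).join
    (Setup.classOK_of_part live0_part4)).join
    (Setup.classOK_of_part live0_part5)).join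
    (Setup.classOK_of_part live0_part6)).join
    (Setup.classOK_of_part live0_part7)).join
    (Setup.classOK_of_part live0_part8)).join
    (Setup.classOK_of_part live0_part9)).join
    (Setup.classOK_of_part live0_part10)).join
    (Setup.classOK_of_part live0_part11)).join
    (Setup.classOK_of_part live0_part12)).join
    (Setup.classOK_of_part live0_part13)).join
    (Setup.classOK_of_part live0_part14)).join
    (Setup.classOK_of_part live0_part15)).join
    (Setup.classOK_of_part live0_part16)).join
    (Setup.classOK_of_part live0_part17))

end CfsgLib.Spor.Ly.GK
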