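import Cfsg.Agent.Lib.Spor.Ly.GKData
import Cfsg.Agent.Lib.DCE.LiveParts

/-!
Kernel checks: a closed double coset.
-/

namespace CfsgLib.Spor.Ly.GK

open CfsgLib.PresCert CfsgLib.DCE

theorem live3_part0 :
    S.okClassPart facts live3.i 0 cls3 0 1302 = true := by decide +kernel

theorem live3_part1 :
    S.okClassPart facts live3.i 0 cls3 1302 1302 = true := by decide +kernel

theorem live3_part2 :
    S.okClassPart facts live3.i 0 cls3 2604 1302 = true := by decide +kernel

theorem live3_part3 :
    S.okClassPart facts live3.i 0 cls3 3906 1302 = true := by decide +kernel

theorem live3_part4 :
    S.okClassPart facts live3.i 0 cls3 5208 1302 = true := by decide +kernel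

theorem live3_part5 :
    S.okClassPart facts live3.i 0 cls3 6510 1302 = true := by decide +kernel

theorem live3_part6 :
    S.okClassPart facts live3.i 0 cls3 7812 1302 = true := by decide +kernel

theorem live3_part7 :
    S.okClassPart facts live3.i 0 cls3 9114 1302 = true := by decide +kernel

theorem live3_part8 :
    S.okClassPart facts live3.i 0 cls3 10416 1302 = true := by decide +kernel

theorem live3_part9 :
    S.okClassPart facts live3.i 0 cls3 11718 1302 = true := by decide +kernel

theorem live3_part10 :
    S.okClassPart facts live3.i 0 cls3 13020 1302 = true := by decide +kernel

theorem live3_part11 :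
    S.okClassPart facts live3.i 0 cls3 14322 1302 = true := by decide +kernel

theorem live3_part12 :
    S.okClassPart facts live3.i 0 cls3 15624 1302 = true := by decide +kernel

theorem live3_part13 :
    S.okClassPart facts live3.i 0 cls3 16926 1302 = true := by decide +kernel

theorem live3_part14 :
    S.okClassPart facts live3.i 0 cls3 18228 1302 = true := by decide +kernel

theorem live3_part15 :
    S.okClassPart facts live3.i 0 cls3 19530 1302 = true := by decide +kernel

theorem live3_part16 :
    S.okClassPart facts live3.i 0 cls3 20832 1302 = true := by decide +kernel

theorem live3_part17 :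
    S.okClassPart facts live3.i 0 cls3 22134 1302 = true := by decide +kernel

theorem live3_head : Setup.okLiveHead S facts live3 = true := by decide +kernel

theorem live3_ok : S.okLive facts live3 = true := by
  refine Setup.okLive_of_parts live3_head (by decide +kernel) fun e he => ?_
  obtain rfl : e = 0 := Nat.lt_one_iff.1 he
  exact ((((((((((((((((((Setup.classOK_of_part live3_part0).join
    (Setup.classOK_of_part live3_part1)).join
    (Setup.classOK_of_part live3_part2)).join
    (Setup.classOK_of_part live3_part3)).join
    (Setup.classOK_of_part live3_part4)).join
    (Setup.classOK_of_part live3_part5)).join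
    (Setup.classOK_of_part live3_part6)).join
    (Setup.classOK_of_part live3_part7)).join
    (Setup.classOK_of_part live3_part8)).join
    (Setup.classOK_of_part live3_part9)).join
    (Setup.classOK_of_part live3_part10)).join
    (Setup.classOK_of_part live3_part11)).join
    (Setup.classOK_of_part live3_part12)).join
    (Setup.classOK_of_part live3_part13)).join
    (Setup.classOK_of_part live3_part14)).join
    (Setup.classOK_of_part live3_part15)).join
    (Setup.classOK_of_part live3_part16)).join
    (Setup.classOK_of_part live3_part17))

end CfsgLib.Spor.Ly.GK
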