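import Cfsg.Agent.Lib.Spor.Ly.GKData
import Cfsg.Agent.Lib.DCE.LiveParts

/-!
Kernel checks: a closed double coset.
-/

namespace CfsgLib.Spor.Ly.GK

open CfsgLib.PresCert CfsgLib.DCE

theorem live4_part0 :
    S.okClassPart facts live4.i 0 cls4 0 1302 = true := by decide +kernel

theorem live4_part1 :
    S.okClassPart facts live4.i 0 cls4 1302 1302 = true := by decide +kernel

theorem live4_part2 :
    S.okClassPart facts live4.i 0 cls4 2604 1302 = true := by decide +kernel

theorem live4_part3 :
    S.okClassPart facts live4.i 0 cls4 3906 1302 = true := by decide +kernel

theorem live4_part4 :
    S.okClassPart facts live4.i 0 cls4 5208 1302 = true := by decide +kernel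

theorem live4_part5 :
    S.okClassPart facts live4.i 0 cls4 6510 1302 = true := by decide +kernel

theorem live4_part6 :
    S.okClassPart facts live4.i 0 cls4 7812 1302 = true := by decide +kernel

theorem live4_part7 :
    S.okClassPart facts live4.i 0 cls4 9114 1302 = true := by decide +kernel

theorem live4_part8 :
    S.okClassPart facts live4.i 0 cls4 10416 1302 = true := by decide +kernel

theorem live4_part9 :
    S.okClassPart facts live4.i 0 cls4 11718 1302 = true := by decide +kernel

theorem live4_part10 :
    S.okClassPart facts live4.i 0 cls4 13020 1302 = true := by decide +kernel

theorem live4_part11 :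
    S.okClassPart facts live4.i 0 cls4 14322 1302 = true := by decide +kernel

theorem live4_part12 :
    S.okClassPart facts live4.i 0 cls4 15624 1302 = true := by decide +kernel

theorem live4_part13 :
    S.okClassPart facts live4.i 0 cls4 16926 1302 = true := by decide +kernel

theorem live4_part14 :
    S.okClassPart facts live4.i 0 cls4 18228 1302 = true := by decide +kernel

theorem live4_part15 :
    S.okClassPart facts live4.i 0 cls4 19530 1302 = true := by decide +kernel

theorem live4_part16 :
    S.okClassPart facts live4.i 0 cls4 20832 1302 = true := by decide +kernel

theorem live4_part17 :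
    S.okClassPart facts live4.i 0 cls4 22134 1302 = true := by decide +kernel

theorem live4_head : Setup.okLiveHead S facts live4 = true := by decide +kernel

theorem live4_ok : S.okLive facts live4 = true := by
  refine Setup.okLive_of_parts live4_head (by decide +kernel) fun e he => ?_
  obtain rfl : e = 0 := Nat.lt_one_iff.1 he
  exact ((((((((((((((((((Setup.classOK_of_part live4_part0).join
    (Setup.classOK_of_part live4_part1)).join
    (Setup.classOK_of_part live4_part2)).join
    (Setup.classOK_of_part live4_part3)).join
    (Setup.classOK_of_part live4_part4)).join
    (Setup.classOK_of_part live4_part5)).join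
    (Setup.classOK_of_part live4_part6)).join
    (Setup.classOK_of_part live4_part7)).join
    (Setup.classOK_of_part live4_part8)).join
    (Setup.classOK_of_part live4_part9)).join
    (Setup.classOK_of_part live4_part10)).join
    (Setup.classOK_of_part live4_part11)).join
    (Setup.classOK_of_part live4_part12)).join
    (Setup.classOK_of_part live4_part13)).join
    (Setup.classOK_of_part live4_part14)).join
    (Setup.classOK_of_part live4_part15)).join
    (Setup.classOK_of_part live4_part16)).join
    (Setup.classOK_of_part live4_part17))

end CfsgLib.Spor.Ly.GK
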