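import Cfsg.Agent.Lib.Spor.Ly.GKData
import Cfsg.Agent.Lib.Spor.Ly.GKSub3

/-!
Kernel checks: the stabiliser of a double coset.
-/

namespace CfsgLib.Spor.Ly.GK

open CfsgLib.PresCert CfsgLib.DCE

theorem s3_els :
    okEls P base S3ws S3els = true := by decide +kernel

theorem s3_levels :
    okWLevels P [] S3ls = true := by decide +kernel

theorem s3_gens :
    (S3ls.all fun L => L.gens.all fun w => (S3ws ++ S3els.map Prod.fst).contains w) = true := by decide +kernel

theorem s3_pairs :
    okPairs S3ws (live3.stabs.map fun f => (Setup.fget facts f).p) = true := by decide +kernel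


end CfsgLib.Spor.Ly.GK
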