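import Cfsg.Agent.Lib.DCE.Facts
import Cfsg.Agent.Lib.DCE.Subst

/-!
Words over letters with a given inversion: cancellation, and relators known up to cancellation,
rotation and inversion.
-/

set_option autoImplicit false

namespace CfsgLib.Spor.Ly

open CfsgLib.DCE

/-- inverse of a word -/
noncomputable def invW (linv : List Nat) (w : List Nat) : List Nat :=
  w.reverse.map fun x => linv.getD x 0

/-- cancel adjacent inverse letters -/
def cancel (linv : List Nat) : List Nat → List Nat
  | [] => []
  | x :: w =>
    match cancel linv w with
    | [] => [x]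
    | y :: r => bif y == linv.getD x 0 then r else x :: y :: r

/-- `r` is, up to cancellation, a rotation of the image of one of `ws` or of its inverse -/
noncomputable def okKnown (linv : List Nat) (N : Nat) (img : List (List Nat)) (ws : List (List Nat))
    (r : List Nat) : Bool :=
  (r.all fun x => Nat.blt x N) && (img.all fun v => v.all fun x => Nat.blt x N) &&
    ws.any fun w =>
      (w.all fun x => Nat.blt x img.length) &&
      let t := w.flatMap fun x => img.getD x []
      let t' := invW linv t
      (List.range (r.length + 1)).any fun i =>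
        let c := cancel linv (r.drop i ++ r.take i)
        c == cancel linv t || c == cancel linv t'

variable {Q : Type*} [Group Q] {linv : List Nat} {N : Nat} {g : Nat → Q}

theorem prod_cancel (hg : ∀ x < N, g (linv.getD x 0) = (g x)⁻¹) :
    ∀ w : List Nat, (∀ x ∈ w, x < N) → ((cancel linv w).map g).prod = (w.map g).prod := by
  intro w
  induction w with
  | nil => intro _; rfl
  | cons x w ih =>
    intro hw
    obtain ⟨hx, hw'⟩ := List.forall_mem_cons.1 hw
    rw [List.map_cons, List.prod_cons, ← ih hw', cancel]
    cases hc : cancel linv w with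
    | nil => simp
    | cons y r =>
      cases hb : (y == linv.getD x 0) with
      | false => simp only [hb, cond_false, List.map_cons, List.prod_cons]
      | true =>
        simp only [hb, cond_true, List.map_cons, List.prod_cons]
        rw [beq_iff_eq.1 hb, hg x hx, mul_inv_cancel_left]

theorem prod_invW (hg : ∀ x < N, g (linv.getD x 0) = (g x)⁻¹) :
    ∀ w : List Nat, (∀ x ∈ w, x < N) → ((invW linv w).map g).prod = ((w.map g).prod)⁻¹ := by
  intro w
  induction w with
  | nil => intro _; simp [invW]
  | cons x w ih =>
    intro hw
    obtain ⟨hx, hw'⟩ := List.forall_mem_cons.1 hw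
    have e : invW linv (x :: w) = invW linv w ++ [linv.getD x 0] := by simp [invW]
    rw [e, List.map_append, List.prod_append, ih hw', List.map_cons, List.map_nil, List.map_cons,
      List.prod_cons, List.prod_cons, List.prod_nil, mul_one, hg x hx, mul_inv_rev]

/-- A known word has value `1`. -/
theorem prod_of_okKnown {img ws : List (List Nat)} {r : List Nat}
    (hl : ∀ x < N, linv.getD x 0 < N) (hg : ∀ x < N, g (linv.getD x 0) = (g x)⁻¹) (f : Nat → Q)
    (hi : ∀ x < img.length, ((img.getD x []).map g).prod = f x)
    (hw : ∀ w ∈ ws, (w.map f).prod = 1) (h : okKnown linv N img ws r = true) :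
    (r.map g).prod = 1 := by
  simp only [okKnown, Bool.and_eq_true, List.all_eq_true, Nat.blt_eq, List.any_eq_true,
    Bool.or_eq_true, beq_iff_eq] at h
  obtain ⟨⟨hr, himg⟩, w, hwm, hwl, i, -, hc⟩ := h
  have ht : ∀ x ∈ w.flatMap (fun x => img.getD x []), x < N := by
    intro x hx
    obtain ⟨y, hy, hx⟩ := List.mem_flatMap.1 hx
    rw [List.getD_eq_getElem?_getD, List.getElem?_eq_getElem (hwl y hy)] at hx
    exact himg _ (List.getElem_mem _) x hx
  have et : ((w.flatMap fun x => img.getD x []).map g).prod = 1 := by
    rw [← hw w hwm]
    clear hwm ht hc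
    induction w with
    | nil => rfl
    | cons y w ih =>
      rw [List.flatMap_cons, List.map_append, List.prod_append, List.map_cons, List.prod_cons,
        hi y (hwl y (List.mem_cons_self ..)), ih fun z hz => hwl z (List.mem_cons_of_mem _ hz)]
  have hrot : ∀ x ∈ r.drop i ++ r.take i, x < N := by
    intro x hx
    rcases List.mem_append.1 hx with hx | hx
    · exact hr x (List.mem_of_mem_drop hx)
    · exact hr x (List.mem_of_mem_take hx)
  have ht' : ∀ x ∈ invW linv (w.flatMap fun x => img.getD x []), x < N := by
    intro x hx
    simp only [invW, List.mem_map, List.mem_reverse] at hx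
    obtain ⟨y, hy, rfl⟩ := hx
    exact hl y (ht y hy)
  have e : ((r.drop i ++ r.take i).map g).prod = 1 := by
    rw [← prod_cancel hg _ hrot]
    rcases hc with hc | hc
    · rw [hc, prod_cancel hg _ ht, et]
    · rw [hc, prod_cancel hg _ ht', prod_invW hg _ ht, et, inv_one]
  have e2 : r = r.take i ++ r.drop i := (List.take_append_drop i r).symm
  rw [e2, List.map_append, List.prod_append]
  rw [List.map_append, List.prod_append] at e
  exact mul_eq_one_iff_eq_inv.2 (eq_inv_of_mul_eq_one_left (by
    have : (List.map g (List.drop i r)).prod = ((List.map g (List.take i r)).prod)⁻¹ :=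
      eq_inv_of_mul_eq_one_left e
    rw [this, mul_inv_cancel]))

end CfsgLib.Spor.Ly
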