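import Cfsg.Agent.Lib.Spor.Ly.PKData

/-!
Kernel checks: a closed double coset.
-/

namespace CfsgLib.Spor.Ly.PK

open CfsgLib.PresCert CfsgLib.DCE

theorem live2_ok :
    S.okLive facts live2 = true := by decide +kernel


end CfsgLib.Spor.Ly.PK
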