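import Mathlib

/-!
Relators of `⟨a, b, c, d⟩` on `a, b, c, d, e` (generated data).
-/

namespace CfsgLib.Spor.Ly

/-- `e` as a word in `a, b, c, d` -/
def eK : List Nat := [3, 3, 1, 5, 0, 4, 1, 4, 0, 6, 4, 2, 0, 3, 6, 4, 6]

/-- `d` as a word in `a, b, c, e` (letter 6 for `e`) -/
def dWord : List Nat := [0, 2, 2, 1, 3, 5, 2, 5, 3, 1, 5, 0, 5, 1, 4, 0, 4, 0, 6, 0, 6, 0, 1, 5, 0, 2, 6]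

/-- relators in `a, b, c, d, e` (letters 8, 9 for `e` and its inverse) -/
def RK5 : List (List Nat) :=
  [[8, 7, 5, 7, 2, 1, 3, 5, 7, 1, 5, 0, 5, 1, 4, 0, 2, 2],
  [9, 4, 8, 4, 3, 3, 5, 2, 3],
  [9, 3, 4, 2, 8, 0, 2, 4, 3, 4, 1, 5, 0, 1, 3, 3],
  [9, 2, 4, 3, 8, 2, 5, 3, 3, 4, 2, 3, 3],
  [9, 5, 1, 5, 0, 4, 1, 4, 0, 8, 2, 4, 3, 5, 3, 4, 2, 5],
  [8, 0, 0, 8, 2, 4, 3, 1, 5, 0, 5, 1, 4, 0, 4, 5, 1, 2, 1, 3, 3, 1],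
  [9, 2, 8, 2, 4, 3, 2, 4, 3, 3, 4, 2, 5],
  [8, 0, 2, 2, 0, 3, 0, 8, 2, 4, 3, 1, 5, 0, 5, 1, 4, 0, 4, 5, 1, 1],
  [8, 1, 4, 0, 8, 1, 5, 0, 8, 1, 4, 0, 2, 5, 3, 0, 3, 4, 2, 0, 0, 0],
  [6, 6, 1, 1, 1, 1],
  [3, 7, 2, 6],
  [7, 0, 6, 1, 1, 1],
  [6, 5, 1, 5, 0, 4, 1, 4, 0, 6, 5, 1, 5, 0, 4, 1, 4, 0, 6, 5, 1, 5, 0, 4, 1, 4, 0, 6, 5, 1, 5, 0, 4, 1, 4, 0, 6, 5, 1, 5, 0, 4, 1, 4, 0],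
  [6, 5, 1, 5, 0, 4, 1, 4, 0, 6, 1, 5, 0, 5, 1, 4, 0, 4, 6, 5, 1, 5, 0, 4, 1, 4, 0, 1, 1]]

end CfsgLib.Spor.Ly
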