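import Cfsg.Agent.Lib.Spor.Ly.PFaithful
import Cfsg.Agent.Lib.Spor.Ly.Letters
import Cfsg.Agent.Lib.Spor.Ly.RKData
import Cfsg.Agent.Lib.Spor.Ly.PKFacts
import Cfsg.Agent.Lib.Spor.Ly.PKFacts0
import Cfsg.Agent.Lib.Spor.Ly.PKLive0
import Cfsg.Agent.Lib.Spor.Ly.PKLive1
import Cfsg.Agent.Lib.Spor.Ly.PKLive2
import Cfsg.Agent.Lib.Spor.Ly.PKLive3
import Cfsg.Agent.Lib.Spor.Ly.PKStab0
import Cfsg.Agent.Lib.Spor.Ly.PKStab1
import Cfsg.Agent.Lib.Spor.Ly.PKStab2
import Cfsg.Agent.Lib.Spor.Ly.PKStab3

/-!
The group on `a, b, c, d` has order at most 5859000000: the subgroup on `a, b, c` has index at most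
3906, by a double coset enumeration with the element `e`.
-/

set_option autoImplicit false

namespace CfsgLib.Spor.Ly

open CfsgLib.PresCert CfsgLib.DCE

/-- the element `e` -/
noncomputable def kE : GrpK := wv Grp.gen eK

/-- the meaning of the letters: those of `a, b, c`, and `e` -/
noncomputable def genK (x : Nat) : GrpK :=
  if x < 6 then psiP (permsP.val [x]) else kE

/-- a relator holds when it equals one of the given ones in the free group -/
theorem grpK_eq (u : List Nat)
    (h : (RK.any fun w => decide (wv (FreeGroup.of (α := Fin 4)) w = wv FreeGroup.of u)) = true) :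
    wv (Grp.gen (m := 4) (rels := RK)) u = 1 := by
  simp only [List.any_eq_true, decide_eq_true_eq] at h
  obtain ⟨w, hw, e⟩ := h
  rw [← free_eq Grp.gen e]
  exact Grp.wv_rel hw

theorem genK_word : ∀ x, x < 7 → genK x =
    wv (Grp.gen (m := 4) (rels := RK)) ([[0], [1], [2], [3], [4], [5], eK].getD x []) := by
  intro x hx
  interval_cases x <;>
    simp [genK, kE, permsP, Perms.val, wv, lv, psiP]

theorem genK_prod (w : List Nat) (hw : ∀ x ∈ w, x < 7) :
    (w.map genK).prod = wv (Grp.gen (m := 4) (rels := RK))
      (w.flatMap fun x => [[0], [1], [2], [3], [4], [5], eK].getD x []) := by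
  induction w with
  | nil => rfl
  | cons x w ih =>
    obtain ⟨hx, hw'⟩ := List.forall_mem_cons.1 hw
    rw [List.map_cons, List.prod_cons, List.flatMap_cons, wv_append, ih hw', genK_word x hx]

theorem kE_sq : kE * kE = 1 := by
  rw [kE, ← wv_append]
  exact grpK_eq _ (by decide +kernel)

theorem genK_inv : ∀ x, x < 7 → genK ([1, 0, 3, 2, 5, 4, 6].getD x 0) = (genK x)⁻¹ := by
  intro x hx
  interval_cases x
  all_goals first
    | (simp [genK, permsP, Perms.val, wv, lv, psiP]; done)
    | exact eq_inv_of_mul_eq_one_left (by simpa [genK] using kE_sq)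

/-- the meaning of the letters `a, b, c, d, e` -/
noncomputable def g5 (x : Nat) : GrpK :=
  wv Grp.gen ([[0], [1], [2], [3], [4], [5], [6], [7], eK, ivw eK].getD x [])

theorem g5_prod (w : List Nat) : (w.map g5).prod = wv (Grp.gen (m := 4) (rels := RK))
    (w.flatMap fun x => [[0], [1], [2], [3], [4], [5], [6], [7], eK, ivw eK].getD x []) := by
  induction w with
  | nil => rfl
  | cons x w ih => rw [List.map_cons, List.prod_cons, List.flatMap_cons, wv_append, ih, g5]

theorem rk5_one : ∀ w ∈ RK5, (w.map g5).prod = 1 := by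
  have h : (RK5.all fun w =>
      decide (wv (FreeGroup.of (α := Fin 4)) (w.flatMap fun x =>
          [[0], [1], [2], [3], [4], [5], [6], [7], eK, ivw eK].getD x []) =
        wv FreeGroup.of []) ||
      RK.any fun v => decide (wv (FreeGroup.of (α := Fin 4)) v =
      wv FreeGroup.of (w.flatMap fun x =>
        [[0], [1], [2], [3], [4], [5], [6], [7], eK, ivw eK].getD x []))) = true := by
    decide +kernel
  intro w hw
  rw [g5_prod]
  rcases Bool.or_eq_true_iff.1 (List.all_eq_true.1 h w hw) with h' | h'
  · exact free_eq Grp.gen (of_decide_eq_true h')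
  · exact grpK_eq _ h' 

/-- the images of `a, b, c, d, e` in the letters of the enumeration -/
noncomputable def imgK : List (List Nat) :=
  [[0], [1], [2], [3], [4], [5], dWord, invW [1, 0, 3, 2, 5, 4, 6] dWord, [6], [6]]

theorem dWord_val : (dWord.map genK).prod = wv (Grp.gen (m := 4) (rels := RK)) [6] := by
  have h1 : wv (Grp.gen (m := 4) (rels := RK))
      ([6] ++ ivw (dWord.flatMap fun x => [[0], [1], [2], [3], [4], [5], eK].getD x [])) = 1 :=
    grpK_eq _ (by decide +kernel)
  rw [wv_append, wv_ivw, mul_inv_eq_one] at h1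
  rw [genK_prod _ (by decide +kernel), h1]

theorem imgK_val : ∀ x < imgK.length, ((imgK.getD x []).map genK).prod = g5 x := by
  have hinv : ∀ x < 7, genK ([1, 0, 3, 2, 5, 4, 6].getD x 0) = (genK x)⁻¹ := genK_inv
  have h6 : genK 6 = kE := by simp [genK]
  intro x hx
  have : x < 10 := hx
  interval_cases x
  all_goals first
    | (simp [imgK, g5, genK_word]; done)
    | (show (dWord.map genK).prod = g5 6; rw [dWord_val]; rfl)
    | (show ((invW [1, 0, 3, 2, 5, 4, 6] dWord).map genK).prod = g5 7
       rw [prod_invW hinv _ (by decide +kernel), dWord_val, g5,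
         show ([[0], [1], [2], [3], [4], [5], [6], [7], eK, ivw eK].getD 7 [] : List Nat) = ivw [6]
           by decide +kernel, wv_ivw])
    | (show ([6].map genK).prod = g5 9
       rw [g5, show ([[0], [1], [2], [3], [4], [5], [6], [7], eK, ivw eK].getD 9 [] : List Nat)
         = ivw eK by rfl, wv_ivw]
       simpa [h6, kE] using eq_inv_of_mul_eq_one_left kE_sq)

/-- the relators of the enumeration follow from those of the group -/
noncomputable def okKnownK : Bool :=
  PK.S.rels.all fun r => r == [] || r == [6, 6] ||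
    okKnown [1, 0, 3, 2, 5, 4, 6] 7 imgK RK5 r

theorem knownK_ok : okKnownK = true := by decide +kernel

theorem edgesK_len : PK.S.edges.length = 1 := by decide +kernel

/-- the conjugations by `e` -/
noncomputable def okCommK : Bool :=
  allBelow (PK.S.edge 0).src.length fun k =>
    okKnown [1, 0, 3, 2, 5, 4, 6] 7 imgK RK5
      ((PK.S.edge 0).src.getD k [] ++ [6] ++ invW [1, 0, 3, 2, 5, 4, 6] ((PK.S.edge 0).img.getD k []) ++ [6])

theorem commK_ok : okCommK = true := by decide +kernel

theorem edgeK_lt : ((PK.S.edge 0).src.all fun w => w.all fun x => Nat.blt x 6) = true ∧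
    ((PK.S.edge 0).img.all fun w => w.all fun x => Nat.blt x 6) = true :=
  ⟨by decide +kernel, by decide +kernel⟩

theorem getD_lt {ws : List (List Nat)} {N : Nat} (h : (ws.all fun w => w.all fun x => Nat.blt x N) = true)
    (k : Nat) : ∀ x ∈ ws.getD k [], x < N := by
  simp only [List.all_eq_true, Nat.blt_eq] at h
  intro x hx
  rw [List.getD_eq_getElem?_getD] at hx
  cases hk : ws[k]? with
  | none => simp [hk] at hx
  | some w => simp only [hk, Option.getD_some] at hx; exact h w (List.mem_of_getElem? hk) x hx

theorem genK_val (w : List Nat) (hw : ∀ x ∈ w, x < 6) :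
    psiP (permsP.val w) = (w.map genK).prod := by
  induction w with
  | nil => simp [Perms.val, wv]
  | cons x w ih =>
    obtain ⟨hx, hw'⟩ := List.forall_mem_cons.1 hw
    rw [show x :: w = [x] ++ w from rfl, Perms.val_append, map_mul, ih hw', List.map_append,
      List.prod_append, List.map_singleton, List.prod_singleton, genK, if_pos hx]

/-- the model of the enumeration over `⟨a, b, c⟩` -/
noncomputable def modelPK : Model PK.S GrpP GrpK where
  M := permsP
  inj := p_faithful.1
  f := psiP
  T _ := kE
  comm := by
    intro e he k hk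
    rw [edgesK_len] at he
    obtain rfl : e = 0 := by omega
    have hs := getD_lt edgeK_lt.1 k
    have hi := getD_lt edgeK_lt.2 k
    have h := prod_of_okKnown (g := genK) (by decide) genK_inv g5 imgK_val rk5_one
      (allBelow_spec commK_ok k hk)
    refine Eq.trans (congrArg (· * _) (genK_val _ hs)) ?_
    refine Eq.trans ?_ (congrArg (_ * ·) (genK_val _ hi)).symm
    rw [List.map_append, List.map_append, List.map_append, List.prod_append, List.prod_append,
      List.prod_append, prod_invW genK_inv _ (fun x hx => (hi x hx).trans (by norm_num))] at h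
    simp only [List.map_singleton, List.prod_singleton, show genK 6 = kE by simp [genK]] at h
    have h6 := kE_sq
    generalize kE = t at h h6
    generalize (List.map genK ((PK.S.edge 0).src.getD k [])).prod = u at h
    generalize (List.map genK ((PK.S.edge 0).img.getD k [])).prod = v at h
    calc u * t = (u * t * v⁻¹ * t) * t⁻¹ * v := by group
      _ = t * v := by rw [h, inv_eq_of_mul_eq_one_left h6]; group
  gen' := genK
  gen'_lt := by
    intro x hx
    have : x < 6 := hx
    rw [genK, if_pos this]
    rfl
  gen'_let := by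
    intro x hx hx'
    have h1 : 6 ≤ x := hx
    have h2 : x < 7 := hx'
    obtain rfl : x = 6 := by omega
    have : (PK.S.letE 6).2 = [] := by decide +kernel
    rw [this]
    simp [genK, Perms.val, wv]
  gen'_inv := fun x hx => genK_inv x hx
  rels_eq := by
    intro r hr
    have h := List.all_eq_true.1 knownK_ok r hr
    simp only [Bool.or_eq_true, beq_iff_eq] at h
    rcases h with (rfl | rfl) | h
    · rfl
    · simpa [genK] using kE_sq
    · exact prod_of_okKnown (by decide) genK_inv g5 imgK_val rk5_one h
  gen_top := gen_top_p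
  top := by
    have hd : Grp.gen (m := 4) (rels := RK) 3 = (dWord.map genK).prod := by
      rw [dWord_val]; simp [wv, lv]
    refine top_le_iff.1 (Grp.closure_gen.symm.trans_le ((Subgroup.closure_le _).2 ?_))
    rintro _ ⟨k, rfl⟩
    fin_cases k
    · exact Subgroup.subset_closure (Or.inl ⟨Grp.gen 0, by simp [psiP, wv, lv]⟩)
    · exact Subgroup.subset_closure (Or.inl ⟨Grp.gen 1, by simp [psiP, wv, lv]⟩)
    · exact Subgroup.subset_closure (Or.inl ⟨Grp.gen 2, by simp [psiP, wv, lv]⟩)
    · show Grp.gen 3 ∈ _
      rw [hd]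
      refine Subgroup.list_prod_mem _ fun q hq => ?_
      obtain ⟨x, -, rfl⟩ := List.mem_map.1 hq
      unfold genK
      split_ifs
      · exact Subgroup.subset_closure (Or.inl ⟨_, rfl⟩)
      · exact Subgroup.subset_closure (Or.inr ⟨0, by rw [edgesK_len]; exact Nat.one_pos, rfl⟩)

theorem pk_edgeStab : EdgeStab modelPK := by
  refine EdgeStab.of_levels (N := modelPK) (fun _ => ⟨PK.E0L0.base, [], 0, .leaf 0, .leaf 0⟩)
    (fun _ => PK.V0ws) (fun e he => ?_) (fun e he => ?_) fun _ _ => p_edgeStab
  all_goals rw [edgesK_len] at he; obtain rfl : e = 0 := by omega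
  · decide +kernel
  · exact PK.v0_pairs

theorem pk_facts_ok : ∀ n < PK.facts.length, PK.S.okFact PK.facts n = true := by
  intro n hn
  have h : PK.facts.length = 27 := by decide +kernel
  rw [h] at hn
  exact okRange_get PK.facts_0 n (Nat.zero_le _) (by omega)

theorem psiP_index_le : psiP.range.index ≤ 3906 ∧ psiP.range.index ≠ 0 := by
  obtain ⟨hfin, -⟩ := gp_bound
  have hc := p_faithful.2
  have hlive : ∀ L ∈ PK.lives, PK.S.okLive PK.facts L = true := by
    intro L hL
    simp only [PK.lives, List.mem_cons, List.not_mem_nil, or_false] at hL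
    rcases hL with rfl | rfl | rfl | rfl
    exacts [PK.live0_ok, PK.live1_ok, PK.live2_ok, PK.live3_ok]
  have h := index_le modelPK PK.setup_ok pk_facts_ok pk_edgeStab hlive PK.cover_ok
    (fun L => [1, 30, 750, 3125].getD (PK.lives.findIdx fun L' => Nat.beq L'.i L.i) 0) (by
      intro L hL
      simp only [PK.lives, List.mem_cons, List.not_mem_nil, or_false] at hL
      rcases hL with rfl | rfl | rfl | rfl
      · exact modelPK.stab_index PK.s0_pairs
          (le_trans (by decide +kernel : 1500000 ≤ (PK.S0ls.map WLevel.len).prod)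
            (p_sub_card PK.s0_els PK.S0ls PK.s0_levels PK.s0_gens))
          (by rw [hc]; decide +kernel)
      · exact modelPK.stab_index PK.s1_pairs
          (le_trans (by decide +kernel : 50000 ≤ (PK.S1ls.map WLevel.len).prod)
            (p_sub_card PK.s1_els PK.S1ls PK.s1_levels PK.s1_gens))
          (by rw [hc]; decide +kernel)
      · exact modelPK.stab_index PK.s2_pairs
          (le_trans (by decide +kernel : 2000 ≤ (PK.S2ls.map WLevel.len).prod)
            (p_sub_card PK.s2_els PK.S2ls PK.s2_levels PK.s2_gens))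
          (by rw [hc]; decide +kernel)
      · exact modelPK.stab_index PK.s3_pairs
          (le_trans (by decide +kernel : 480 ≤ (PK.S3ls.map WLevel.len).prod)
            (p_sub_card PK.s3_els PK.S3ls PK.s3_levels PK.s3_gens))
          (by rw [hc]; decide +kernel))
  exact ⟨h.1.trans_eq (by decide +kernel), h.2⟩

theorem gk_bound : Finite GrpK ∧ Nat.card GrpK ≤ 5859000000 := by
  obtain ⟨hi, hi0⟩ := psiP_index_le
  obtain ⟨hfin, hP⟩ := gp_bound
  have hr : Nat.card psiP.range ≤ 1500000 :=
    (Nat.card_le_card_of_surjective _ psiP.rangeRestrict_surjective).trans hP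
  have : Finite psiP.range := Finite.of_surjective _ psiP.rangeRestrict_surjective
  have e := psiP.range.card_mul_index
  have hne : Nat.card GrpK ≠ 0 := by
    rw [← e]; exact Nat.mul_ne_zero (Nat.card_pos (α := psiP.range)).ne' hi0
  refine ⟨Nat.finite_of_card_ne_zero hne, ?_⟩
  rw [← e]
  exact (Nat.mul_le_mul hr hi).trans (by norm_num)

end CfsgLib.Spor.Ly
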