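import Cfsg.Agent.Lib.Spor.Ly.Five
import Cfsg.Agent.Lib.DCE.Grp

/-!
Permutations of finitely many points read off from an action: lines of packed vectors over the
field of five elements, and sets of three pairs of points.
-/

set_option autoImplicit false

namespace CfsgLib.Spor.Ly

open CfsgLib.PresCert CfsgLib.DCE CfsgLib.Spor.Ly.Five Equiv

section General

variable {H : Type*} [Group H] {Ω : Type*} (act : H →* Perm Ω) {n : ℕ} (f : Fin n → Ω)

theorem exists_perms (hf : Function.Injective f) {m : ℕ} (gen : Fin m → H)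
    (hgen : Subgroup.closure (Set.range gen) = ⊤) (σ : Fin m → Perm (Fin n))
    (hσ : ∀ k i, act (gen k) (f i) = f (σ k i)) :
    ∃ π : H →* Perm (Fin n), ∀ k, π (gen k) = σ k := by
  have key : ∀ h : H, ∃ τ : Perm (Fin n), ∀ i, act h (f i) = f (τ i) := fun h => by
    have hh : h ∈ Subgroup.closure (Set.range gen) := by rw [hgen]; trivial
    induction hh using Subgroup.closure_induction with
    | mem x hx => obtain ⟨k, rfl⟩ := hx; exact ⟨σ k, hσ k⟩
    | one => exact ⟨1, fun i => by simp⟩
    | mul a b _ _ ha hb =>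
      obtain ⟨s, hs⟩ := ha
      obtain ⟨t, ht⟩ := hb
      exact ⟨s * t, fun i => by rw [map_mul, Perm.mul_apply, ht, hs, Perm.mul_apply]⟩
    | inv a _ ha =>
      obtain ⟨s, hs⟩ := ha
      refine ⟨s⁻¹, fun i => ?_⟩
      rw [map_inv, Perm.inv_def, Equiv.symm_apply_eq, hs]
      simp
  choose τ hτ using key
  refine ⟨MonoidHom.mk' τ fun a b => Equiv.ext fun i => hf ?_, fun k => Equiv.ext fun i => hf ?_⟩
  · rw [← hτ, map_mul, Perm.mul_apply, hτ, hτ, Perm.mul_apply]
  · rw [MonoidHom.mk'_apply, ← hτ, hσ]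

/-- injectivity from a key that increases along a list of all the points -/
theorem injective_of_key {α : Type*} (g : Fin n → α) (key : α → ℕ) (ord pos : ℕ → ℕ)
    (kc : ℕ → ℕ) (hk : ∀ i : Fin n, key (g i) = kc i)
    (hpos : ∀ i < n, ord (pos i) = i ∧ pos i < n)
    (hlt : ∀ j, j + 1 < n → kc (ord j) < kc (ord (j + 1))) : Function.Injective g := by
  intro a b h
  have e : kc a = kc b := by rw [← hk, ← hk, h]
  have mono : ∀ i j, i < j → j < n → kc (ord i) < kc (ord j) := by
    intro i j hij
    induction j with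
    | zero => omega
    | succ j ih =>
      intro hj
      rcases Nat.lt_succ_iff_lt_or_eq.1 hij with h' | rfl
      · exact (ih h' (by omega)).trans (hlt j hj)
      · exact hlt i hj
  obtain ⟨ha, ha'⟩ := hpos a a.2
  obtain ⟨hb, hb'⟩ := hpos b b.2
  rw [← ha, ← hb] at e
  rcases lt_trichotomy (pos a) (pos b) with h' | h' | h'
  · exact absurd e (mono _ _ h' hb').ne
  · exact Fin.ext (by rw [← ha, ← hb, h'])
  · exact absurd e (mono _ _ h' ha').ne'

end General

section Lines

variable {d : ℕ}

/-- the vector of a packed vector -/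
def toV (d v : ℕ) : Fin d → ZMod 5 := fun j => (lane 16 j v : ZMod 5)

/-- the multiples of a vector -/
def lineOf (v : Fin d → ZMod 5) : Set (Fin d → ZMod 5) := Set.range fun c : (ZMod 5)ˣ => c • v

/-- invertible matrices acting on sets of row vectors -/
noncomputable def setAct (d : ℕ) : GL (Fin d) (ZMod 5) →* Perm (Set (Fin d → ZMod 5)) where
  toFun g :=
    { toFun := fun s => (fun v => Matrix.vecMul v (g⁻¹ : GL (Fin d) (ZMod 5)).1) '' s
      invFun := fun s => (fun v => Matrix.vecMul v g.1) '' s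
      left_inv := fun s => by simp [Set.image_image, Matrix.vecMul_vecMul]
      right_inv := fun s => by simp [Set.image_image, Matrix.vecMul_vecMul] }
  map_one' := Equiv.ext fun s => by simp
  map_mul' a b := Equiv.ext fun s => by
    simp [Set.image_image, Matrix.vecMul_vecMul]

theorem setAct_line (g : GL (Fin d) (ZMod 5)) {v w : Fin d → ZMod 5} {c : (ZMod 5)ˣ}
    (h : Matrix.vecMul v g.1 = c • w) : setAct d g⁻¹ (lineOf v) = lineOf w := by
  show (fun v => Matrix.vecMul v ((g⁻¹)⁻¹ : GL (Fin d) (ZMod 5)).1) '' lineOf v = lineOf w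
  rw [inv_inv]
  ext x
  simp only [lineOf, Set.mem_image, Set.mem_range]
  constructor
  · rintro ⟨_, ⟨e, rfl⟩, rfl⟩
    exact ⟨e * c, by rw [Units.smul_def, Units.smul_def, Matrix.smul_vecMul, h, Units.smul_def,
      smul_smul, Units.val_mul]⟩
  · rintro ⟨e, rfl⟩
    refine ⟨_, ⟨e * c⁻¹, rfl⟩, ?_⟩
    rw [Units.smul_def, Matrix.smul_vecMul, h, Units.smul_def, smul_smul, ← Units.val_mul,
      inv_mul_cancel_right, ← Units.smul_def]

/-- a vector times a matrix -/
def vmulAux (d v M : ℕ) : ℕ → ℕ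
  | 0 => 0
  | k + 1 => vmulAux d v M k + lane 16 k v * ((M >>> (16 * d * k)) % 2 ^ (16 * d))

/-- a vector times a matrix, reduced -/
def vmulF (d v M : ℕ) : ℕ := red d (vmulAux d v M d)

theorem vmulAux_eq (d v M : ℕ) : ∀ k, vmulAux d v M k = pk 16 (fun j =>
    ∑ s ∈ Finset.range k, lane 16 s v * lane 16 (d * s + j) M) d
  | 0 => by simp [vmulAux, pk_zero]
  | k + 1 => by
    have h2 : (M >>> (16 * d * k)) % 2 ^ (16 * d) = pk 16 (fun j => lane 16 (d * k + j) M) d := by
      rw [mod_eq_pk, Nat.shiftRight_eq_div_pow]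
      refine pk_congr fun j _ => ?_
      rw [lane, lane, Nat.div_div_eq_div_mul, ← pow_add,
        show 16 * d * k + 16 * j = 16 * (d * k + j) by ring]
    rw [vmulAux, vmulAux_eq d v M k, h2, pk_smul, pk_add]
    exact pk_congr fun j _ => (Finset.sum_range_succ _ k).symm

theorem toV_vmulF {d v M : ℕ} (hd : d ≤ 125) (hv : ∀ k < d, lane 16 k v < 5) (hM : Small d M) :
    toV d (vmulF d v M) = Matrix.vecMul (toV d v) (toM d M) ∧
      ∀ k < d, lane 16 k (vmulF d v M) < 5 := by
  have hb : ∀ j < d, (∑ s ∈ Finset.range d, lane 16 s v * lane 16 (d * s + j) M) ≤ 2000 := by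
    intro j hj
    calc _ ≤ ∑ _s ∈ Finset.range d, 16 := by
          refine Finset.sum_le_sum fun s hs => ?_
          have h1 := hv s (Finset.mem_range.1 hs)
          have h2 := hM _ (idx_lt (Finset.mem_range.1 hs) hj)
          calc _ ≤ 4 * 4 := Nat.mul_le_mul (by omega) (by omega)
            _ = 16 := rfl
      _ ≤ 2000 := by simp; omega
  have e : ∀ j < d, lane 16 j (vmulF d v M) =
      (∑ s ∈ Finset.range d, lane 16 s v * lane 16 (d * s + j) M) % 5 := fun j hj => by
    rw [vmulF, vmulAux_eq, red_pk _ _ hb,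
      lane_pk _ _ (fun s _ => lt_trans (Nat.mod_lt _ (by norm_num)) (by norm_num)) j hj]
  refine ⟨funext fun j => ?_, fun k hk => by rw [e k hk]; exact Nat.mod_lt _ (by norm_num)⟩
  show ((lane 16 j (vmulF d v M) : ℕ) : ZMod 5) = ∑ s, toV d v s * toM d M s j
  rw [e j j.2, ZMod.natCast_mod, Nat.cast_sum, ← Fin.sum_univ_eq_sum_range]
  simp [toV, toM]

/-- `w` is a multiple of `u` -/
def okMult (d u w : ℕ) : Bool :=
  Nat.beq u w || Nat.beq u (red d (2 * w)) || Nat.beq u (red d (3 * w)) || Nat.beq u (red d (4 * w))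

theorem exists_of_okMult {d u w : ℕ} (hw : w = pk 16 (fun t => lane 16 t w) d)
    (hs : ∀ t < d, lane 16 t w < 5) (h : okMult d u w = true) :
    ∃ c : (ZMod 5)ˣ, toV d u = c • toV d w := by
  have key : ∀ c : ℕ, c ≤ 4 → u = red d (c * w) → toV d u = (c : ZMod 5) • toV d w := by
    intro c hc e
    funext j
    have hb : ∀ t < d, c * lane 16 t w ≤ 2000 := fun t ht => by
      have := Nat.mul_le_mul hc (le_of_lt (hs t ht)); omega
    have : lane 16 j u = c * lane 16 j w % 5 := by
      rw [e]
      conv_lhs => rw [hw, pk_smul, red_pk _ _ hb]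
      exact lane_pk _ _ (fun s _ => lt_trans (Nat.mod_lt _ (by norm_num)) (by norm_num)) j j.2
    show (lane 16 j u : ZMod 5) = _
    rw [this]
    simp [toV]
  simp only [okMult, Bool.or_eq_true, Nat.beq_eq] at h
  rcases h with ((h | h) | h) | h
  · exact ⟨1, by rw [one_smul, h]⟩
  · exact ⟨(⟨2, 3, by decide, by decide⟩ : (ZMod 5)ˣ), by simpa [Units.smul_def] using key 2 (by norm_num) h⟩
  · exact ⟨(⟨3, 2, by decide, by decide⟩ : (ZMod 5)ˣ), by simpa [Units.smul_def] using key 3 (by norm_num) h⟩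
  · exact ⟨(⟨4, 4, by decide, by decide⟩ : (ZMod 5)ˣ), by simpa [Units.smul_def] using key 4 (by norm_num) h⟩

end Lines

section Pairs

/-- a set of pairs moved by a permutation -/
def pairsAct (N : ℕ) : Perm (Fin N) →* Perm (Finset (Sym2 (Fin N))) where
  toFun s :=
    { toFun := fun S => S.image (Sym2.map s)
      invFun := fun S => S.image (Sym2.map s.symm)
      left_inv := fun S => by
        simp [Finset.image_image, Sym2.map_comp.symm, Sym2.map_id]
      right_inv := fun S => by
        simp [Finset.image_image, Sym2.map_comp.symm, Sym2.map_id] }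
  map_one' := Equiv.ext fun S => by simp [Sym2.map_id]
  map_mul' a b := Equiv.ext fun S => by
    simp [Finset.image_image, Sym2.map_comp.symm]

end Pairs

end CfsgLib.Spor.Ly
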