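import Cfsg.Agent.Lib.Spor.Ly.Exact
import Cfsg.Agent.Lib.Spor.Ly.Model.Card

/-!
The presented Lyons group has order 51765179004000000, and the group on `a, b, c, d` embeds with
index 8835156.
-/

set_option autoImplicit false

namespace CfsgLib.Spor.Ly

theorem gly_card : Nat.card GLy = 51765179004000000 := (exact_of_dvd ly_card_dvd).1

theorem psiK_index : psiK.range.index = 8835156 := (exact_of_dvd ly_card_dvd).2.1

theorem psiK_injective : Function.Injective psiK := (exact_of_dvd ly_card_dvd).2.2

end CfsgLib.Spor.Ly
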