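import Cfsg.Agent.Lib.Spor.Ly.POrder
import Cfsg.Agent.Lib.Spor.Ly.Points
import Cfsg.Agent.Lib.Spor.Ly.PKLevels
import Cfsg.Agent.Lib.Spor.Ly.PKStabV
import Cfsg.Agent.Lib.DCE.Words
import Cfsg.Agent.Lib.PresCert.PermHom

/-!
The group on `a, b, c` has order 1500000 and acts faithfully on 3906 points.
-/

set_option autoImplicit false

namespace CfsgLib.Spor.Ly

open CfsgLib.PresCert CfsgLib.DCE

open Equiv

private theorem sub_p : (RP.all fun w => RK.contains (subst [[0], [2], [4]] w)) = true := by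
  decide +kernel

/-- the group on `a, b, c` maps into the group on `a, b, c, d` -/
noncomputable def psiP : GrpP →* GrpK :=
  Grp.lift (fun k : Fin 3 => wv Grp.gen ([[0], [2], [4]].getD k [])) (subst_rels rfl sub_p)

theorem psiP_gen (k : Fin 3) : psiP (Grp.gen k) = Grp.gen k.castSucc := by
  fin_cases k <;> simp [psiP, wv, lv]

/-- the points of `PK` are the first points of `GK` -/
private theorem agree_p : ((List.range 6).all fun x => allBelow 3906 fun i =>
    Nat.beq (PK.P.img x i) (GK.P.img x i)) = true := by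
  decide +kernel

private theorem imgP_eq {x : ℕ} (hx : x < 6) {i : ℕ} (hi : i < 3906) :
    PK.P.img x i = GK.P.img x i :=
  Nat.eq_of_beq_eq_true (allBelow_spec (List.all_eq_true.1 agree_p x (List.mem_range.2 hx)) i hi)

private theorem imgP_spec {x : ℕ} (hx : x < 6) {i : ℕ} (hi : i < 3906) :
    PK.P.img x i < 3906 ∧ PK.P.img (Nat.xor x 1) (PK.P.img x i) = i :=
  okPair_spec PK.pair_ok (k := x) hx ⟨i, hi⟩

/-- a generator on the first points -/
noncomputable def sigP (k : Fin 3) : Perm (Fin 3906) where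
  toFun i := ⟨PK.P.img (2 * k + 1) i, (imgP_spec (by omega) i.2).1⟩
  invFun i := ⟨PK.P.img (2 * k) i, (imgP_spec (by omega) i.2).1⟩
  left_inv i := Fin.ext (by
    have := (imgP_spec (x := 2 * k + 1) (by omega) i.2).2
    rwa [show Nat.xor (2 * (k : ℕ) + 1) 1 = 2 * k from
      Nat.xor_one_of_odd (odd_two_mul_add_one _)] at this)
  right_inv i := Fin.ext (by
    have := (imgP_spec (x := 2 * k) (by omega) i.2).2
    rwa [show Nat.xor (2 * (k : ℕ)) 1 = 2 * k + 1 from
      Nat.xor_one_of_even (even_two_mul _)] at this)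

theorem exists_piP : ∃ π : GrpP →* Perm (Fin 3906), ∀ k, π (Grp.gen k) = sigP k := by
  refine exists_perms (piK.comp psiP) (Fin.castLE (by norm_num : 3906 ≤ 23436))
    (Fin.castLE_injective _) Grp.gen Grp.closure_gen sigP fun k i => Fin.ext ?_
  rw [MonoidHom.comp_apply, psiP_gen, piK_gen]
  exact (imgP_eq (by omega : 2 * (k : ℕ) + 1 < 6) i.2).symm

/-- the permutations of the first points -/
noncomputable def piP : GrpP →* Perm (Fin 3906) := exists_piP.choose

theorem piP_gen (k : Fin 3) : piP (Grp.gen k) = sigP k := exists_piP.choose_spec k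

theorem piP_img (x : ℕ) (hx : x < 6) (i : Fin 3906) :
    (((piP (lv (Grp.gen (m := 3) (rels := RP)) x))⁻¹ i : Fin 3906) : ℕ) = PK.P.img x i := by
  rcases Nat.mod_two_eq_zero_or_one x with h2 | h2
  · obtain ⟨k, rfl⟩ : ∃ k : Fin 3, x = 2 * k := ⟨⟨x / 2, by omega⟩, by simp only; omega⟩
    rw [show lv (Grp.gen (m := 3) (rels := RP)) (2 * k) = Grp.gen k by simp [lv], piP_gen]
    rfl
  · obtain ⟨k, rfl⟩ : ∃ k : Fin 3, x = 2 * k + 1 := ⟨⟨x / 2, by omega⟩, by simp only; omega⟩
    rw [show lv (Grp.gen (m := 3) (rels := RP)) (2 * k + 1) = (Grp.gen k)⁻¹ by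
      simp [lv, Nat.add_mod, show (2 * (k : ℕ) + 1) / 2 = k by omega], map_inv, inv_inv, piP_gen]
    rfl

/-- the representation of the group on `a, b, c` on 3906 points -/
noncomputable def permsP : Perms PK.P GrpP where
  m := 3
  g_eq := rfl
  gen := Grp.gen
  π := piP
  img x hx i := piP_img x hx i

theorem lens_p : (PK.ls.map WLevel.len).prod = 1500000 := by decide +kernel

theorem bases_p : PK.ls.map WLevel.base = PK.base := by decide +kernel

theorem gen_top_p : Subgroup.closure (Set.range permsP.gen) = ⊤ := Grp.closure_gen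

theorem base_lt_p : ∀ b ∈ PK.base, b < PK.P.n := by decide +kernel

theorem p_faithful :
    (∀ h : GrpP, (∀ i : Fin PK.P.n, (i : Nat) ∈ PK.base → permsP.act h i = i) → h = 1) ∧
      Nat.card GrpP = 1500000 := by
  obtain ⟨hfin, h⟩ := gp_bound
  have := permsP.wfaithful PK.ls PK.levels_ok (by rw [lens_p]; exact h)
  rw [lens_p, bases_p] at this
  exact this

/-- a lower bound for the order of a subgroup of the group on `a, b, c` -/
theorem p_sub_card {ws : List (List Nat)} {els : List (List Nat × List Nat)}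
    (he : okEls PK.P PK.base ws els = true) (ls : List WLevel)
    (hl : okWLevels PK.P [] ls = true)
    (hg : (ls.all fun L => L.gens.all fun w => (ws ++ els.map Prod.fst).contains w) = true) :
    (ls.map WLevel.len).prod ≤ Nat.card (permsP.sub ws) := by
  obtain ⟨hfin, -⟩ := gp_bound
  exact permsP.wsub_card p_faithful.1 base_lt_p he ls hl hg

theorem p_edgeStab : ∀ h : GrpP,
    (∀ i : Fin PK.P.n, (i : Nat) = PK.E0L0.base → permsP.act h i = i) →
      h ∈ permsP.sub PK.V0ws := by
  obtain ⟨hfin, -⟩ := gp_bound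
  exact permsP.wstab_eq p_faithful.2 PK.E0L0 PK.e0_levels PK.e0_fix (v := 50000)
    (le_trans (by decide +kernel : 50000 ≤ (PK.V0ls.map WLevel.len).prod)
      (p_sub_card PK.v0_els PK.V0ls PK.v0_levels PK.v0_gens))
    (by decide +kernel)

end CfsgLib.Spor.Ly
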