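import Cfsg.Agent.Lib.Spor.Ly.PKPerm
import Cfsg.Agent.Lib.Spor.Ly.PKCls0
import Cfsg.Agent.Lib.Spor.Ly.PKCls1
import Cfsg.Agent.Lib.Spor.Ly.PKCls2
import Cfsg.Agent.Lib.Spor.Ly.PKCls3

/-!
Double coset enumeration (generated data).
-/

namespace CfsgLib.Spor.Ly.PK

open CfsgLib.PresCert CfsgLib.DCE

/-- the base -/
def base : List Nat := [2, 4, 1]

/-- the edge elements -/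
def edges : List Edge :=
  [⟨3776, [[4],
  [3, 4, 2],
  [2, 4, 3],
  [5, 1, 5, 0, 4, 1, 4, 0],
  [0, 0],
  [2],
  [0, 2, 2, 0, 3, 0]], [[4, 2, 2, 5],
  [2, 2, 4, 0, 5, 2, 5, 3, 1],
  [2, 5, 2, 2, 4, 3],
  [4, 3, 5, 2, 4, 2, 5, 3],
  [0, 2, 2, 0, 3, 5, 0, 4, 1, 4, 0, 2, 5, 3],
  [4, 3, 5, 2, 2, 5, 5, 3],
  [0, 5, 0, 4, 1, 4, 0, 2, 5, 3]]⟩]

/-- the setup -/
noncomputable def S : Setup where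
  P := P
  base := base
  edges := edges
  lets := [(0, [])]
  linv := [1, 0, 3, 2, 5, 4, 6]
  rels := [[3, 1, 4, 6, 1, 6, 1, 5, 1, 5, 0, 4, 1, 4, 0, 2, 4, 3, 4, 2, 0, 3, 3, 1, 5, 6, 3, 1, 4, 6, 1, 6, 1, 5, 1, 5, 0, 4, 1, 4, 0, 2, 4, 3, 4, 2, 0, 3, 3, 1, 2, 1, 3, 5, 6, 3, 1, 4, 6, 1, 6, 1, 5, 1, 5, 0, 4, 1, 4, 0, 2, 4, 3, 4, 2, 0, 3, 3, 1, 1, 5, 0, 5, 1, 4, 0, 2, 2],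
  [6, 4, 6, 4, 3, 3, 5],
  [6, 3, 4, 2, 6, 0, 2, 4, 3, 4, 1, 5, 3, 3],
  [6, 2, 4, 3, 6, 2, 5, 3, 3, 4, 3],
  [6, 5, 1, 5, 0, 4, 1, 4, 0, 6, 2, 4, 3, 5, 3, 4, 2, 5],
  [6, 0, 0, 6, 2, 4, 3, 1, 5, 0, 5, 1, 4, 2, 1, 3, 3, 1],
  [6, 2, 6, 2, 4, 4, 3, 3, 4, 2, 5],
  [6, 0, 2, 2, 0, 3, 0, 6, 2, 4, 3, 1, 5, 0, 5, 1, 4, 1],
  [6, 1, 4, 0, 6, 1, 5, 0, 6, 1, 4, 0, 2, 5, 3, 0, 3, 4, 2, 0, 0, 0],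
  [0, 2, 2, 1, 3, 5, 2, 5, 3, 1, 5, 0, 5, 1, 4, 0, 4, 0, 6, 0, 6, 5, 0, 2, 6, 0, 2, 2, 1, 3, 5, 2, 5, 3, 1, 5, 0, 5, 1, 4, 0, 4, 0, 6, 0, 6, 5, 0, 2, 6, 1, 1, 1, 1],
  [3, 6, 3, 1, 4, 6, 1, 6, 1, 5, 1, 5, 0, 4, 1, 4, 0, 2, 4, 3, 4, 2, 0, 3, 3, 1, 2, 0, 2, 2, 1, 3, 5, 2, 5, 3, 1, 5, 0, 5, 1, 4, 0, 4, 0, 6, 0, 6, 5, 0, 2, 6],
  [6, 3, 1, 4, 6, 1, 6, 1, 5, 1, 5, 0, 4, 1, 4, 0, 2, 4, 3, 4, 2, 0, 3, 3, 0, 2, 2, 1, 3, 5, 2, 5, 3, 1, 5, 0, 5, 1, 4, 0, 4, 0, 6, 0, 6, 5, 0, 2, 6, 1, 1, 1],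
  [0, 2, 2, 1, 3, 5, 2, 5, 3, 1, 5, 0, 5, 1, 4, 0, 4, 0, 6, 0, 6, 5, 0, 2, 6, 5, 1, 5, 0, 4, 1, 4, 0, 0, 2, 2, 1, 3, 5, 2, 5, 3, 1, 5, 0, 5, 1, 4, 0, 4, 0, 6, 0, 6, 5, 0, 2, 6, 5, 1, 5, 0, 4, 1, 4, 0, 0, 2, 2, 1, 3, 5, 2, 5, 3, 1, 5, 0, 5, 1, 4, 0, 4, 0, 6, 0, 6, 5, 0, 2, 6, 5, 1, 5, 0, 4, 1, 4, 0, 0, 2, 2, 1, 3, 5, 2, 5, 3, 1, 5, 0, 5, 1, 4, 0, 4, 0, 6, 0, 6, 5, 0, 2, 6, 5, 1, 5, 0, 4, 1, 4, 0, 0, 2, 2, 1, 3, 5, 2, 5, 3, 1, 5, 0, 5, 1, 4, 0, 4, 0, 6, 0, 6, 5, 0, 2, 6, 5, 1, 5, 0, 4, 1, 4, 0],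
  [0, 2, 2, 1, 3, 5, 2, 5, 3, 1, 5, 0, 5, 1, 4, 0, 4, 0, 6, 0, 6, 5, 0, 2, 6, 5, 1, 5, 0, 4, 1, 4, 0, 0, 2, 2, 1, 3, 5, 2, 5, 3, 1, 5, 0, 5, 1, 4, 0, 4, 0, 6, 0, 6, 5, 0, 2, 6, 1, 5, 0, 5, 1, 4, 0, 4, 0, 2, 2, 1, 3, 5, 2, 5, 3, 1, 5, 0, 5, 1, 4, 0, 4, 0, 6, 0, 6, 5, 0, 2, 6, 5, 1, 5, 0, 4, 1, 4, 1],
  [3, 3, 1, 5, 0, 4, 1, 4, 0, 0, 2, 2, 1, 3, 5, 2, 5, 3, 1, 5, 0, 5, 1, 4, 0, 4, 0, 6, 0, 6, 5, 0, 2, 6, 4, 2, 0, 3, 0, 2, 2, 1, 3, 5, 2, 5, 3, 1, 5, 0, 5, 1, 4, 0, 4, 0, 6, 0, 6, 5, 0, 2, 6, 4, 0, 2, 2, 1, 3, 5, 2, 5, 3, 1, 5, 0, 5, 1, 4, 0, 4, 0, 6, 0, 6, 5, 0, 2],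
  [4, 2, 2, 5, 6, 5, 6],
  [2, 2, 4, 0, 5, 2, 5, 3, 1, 6, 3, 5, 2, 6],
  [2, 5, 2, 2, 4, 3, 6, 2, 5, 3, 6],
  [4, 3, 5, 2, 4, 2, 5, 3, 6, 1, 5, 0, 5, 1, 4, 0, 4, 6],
  [0, 2, 2, 0, 3, 5, 0, 4, 1, 4, 0, 2, 5, 3, 6, 1, 1, 6],
  [4, 3, 5, 2, 2, 5, 5, 3, 6, 3, 6],
  [0, 5, 0, 4, 1, 4, 0, 2, 5, 3, 6, 1, 2, 1, 3, 3, 1, 6],
  [1, 1, 1, 3, 5, 2, 1, 2, 4, 3, 1, 5, 0, 6, 1, 4, 0, 6, 1, 5, 0, 6],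
  [0, 0, 0, 0, 6, 3, 1, 4, 6, 1, 6, 1, 5, 1, 5, 0, 4, 1, 4, 0, 2, 4, 3, 4, 2, 0, 3, 3, 1, 6, 3, 1, 4, 6, 1, 6, 1, 5, 1, 5, 0, 4, 1, 4, 0, 2, 4, 3, 4, 2, 0, 3, 3, 1],
  [6, 3, 1, 4, 6, 1, 6, 1, 5, 1, 5, 0, 4, 1, 4, 0, 2, 4, 3, 4, 2, 0, 3, 3, 1, 3, 0, 2, 2, 1, 3, 5, 2, 5, 3, 1, 5, 0, 5, 1, 4, 0, 4, 0, 6, 0, 6, 5, 0, 2, 6, 2],
  [0, 0, 0, 6, 3, 1, 4, 6, 1, 6, 1, 5, 1, 5, 0, 4, 1, 4, 0, 2, 4, 3, 4, 2, 0, 3, 3, 1, 2, 2, 1, 3, 5, 2, 5, 3, 1, 5, 0, 5, 1, 4, 0, 4, 0, 6, 0, 6, 5, 0, 2, 6],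
  [1, 5, 0, 5, 1, 4, 0, 4, 6, 3, 1, 4, 6, 1, 6, 1, 5, 1, 5, 0, 4, 1, 4, 0, 2, 4, 3, 4, 2, 0, 3, 3, 1, 1, 5, 0, 5, 1, 4, 0, 4, 6, 3, 1, 4, 6, 1, 6, 1, 5, 1, 5, 0, 4, 1, 4, 0, 2, 4, 3, 4, 2, 0, 3, 3, 1, 1, 5, 0, 5, 1, 4, 0, 4, 6, 3, 1, 4, 6, 1, 6, 1, 5, 1, 5, 0, 4, 1, 4, 0, 2, 4, 3, 4, 2, 0, 3, 3, 1, 1, 5, 0, 5, 1, 4, 0, 4, 6, 3, 1, 4, 6, 1, 6, 1, 5, 1, 5, 0, 4, 1, 4, 0, 2, 4, 3, 4, 2, 0, 3, 3, 1, 1, 5, 0, 5, 1, 4, 0, 4, 6, 3, 1, 4, 6, 1, 6, 1, 5, 1, 5, 0, 4, 1, 4, 0, 2, 4, 3, 4, 2, 0, 3, 3, 1],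
  [0, 5, 0, 5, 1, 4, 0, 4, 6, 3, 1, 4, 6, 1, 6, 1, 5, 1, 5, 0, 4, 1, 4, 0, 2, 4, 3, 4, 2, 0, 3, 3, 1, 5, 1, 5, 0, 4, 1, 4, 0, 6, 3, 1, 4, 6, 1, 6, 1, 5, 1, 5, 0, 4, 1, 4, 0, 2, 4, 3, 4, 2, 0, 3, 3, 1, 1, 5, 0, 5, 1, 4, 0, 4, 6, 3, 1, 4, 6, 1, 6, 1, 5, 1, 5, 0, 4, 1, 4, 0, 2, 4, 3, 4, 2, 0, 3, 3, 1],
  [6, 6],
  []]
  defs := [(0, 0, [2, 5, 5, 1]),
    (1, 0, []),
    (1, 0, [2, 5, 5, 1]),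
    (3, 0, []),
    (3, 0, [2, 5, 5, 1]),
    (5, 0, [2, 5, 1])]

/-- facts -/
def facts0 : List Fact :=
  [⟨0, 0, 0, 0, [0], [0], [], .base⟩,
   ⟨0, 0, 0, 0, [2], [2], [], .base⟩,
   ⟨0, 0, 0, 0, [4], [4], [], .base⟩,
   ⟨1, 0, 1, 0, [], [], [2, 5, 5, 1], .defEdge⟩,
   ⟨0, 1, 1, 0, [3, 4, 3, 5, 2, 2], [5], [], .loop 0 [4, 2, 5, 5, 0] 28 0 1 false [.stab 2 true, .edge 3 [4]] [.edge 3 [0, 1, 0, 4, 2]] []⟩,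
   ⟨0, 1, 1, 0, [1, 2, 5, 1, 3, 3, 4, 1, 3, 5], [1, 5, 1], [], .loop 0 [5, 5, 0, 2, 1] 28 0 1 false [.stab 0 true, .edge 3 [2, 2]] [.stab 2 false, .stab 0 false, .edge 3 [4, 2]] []⟩,
   ⟨0, 1, 1, 0, [0, 0, 2, 4, 2, 2, 4, 3], [3, 5, 1], [], .loop 0 [3, 3, 0, 4, 1, 5, 3, 1] 28 0 1 false [.stab 1 true, .edge 3 [0, 1, 1, 0, 1]] [.stab 2 false, .stab 0 false, .edge 3 [0, 2, 2, 0, 5, 6, 6, 6]] []⟩,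
   ⟨1, 1, 1, 0, [0, 4, 0, 2, 2, 5, 3, 3], [1, 4, 3, 3, 0, 4, 3, 0, 2, 4, 0], [1, 5, 1], .loop 0 [2, 0, 5, 5, 3, 0, 5, 5, 2] 22 17 4 false [.stab 1 false, .stab 1 false, .edge 3 [0, 0, 0, 2, 0, 6, 5], .lett 1, .lett 5, .lett 0, .stab 5 false, .stab 5 false, .stab 5 false] [.lett 1, .lett 5, .lett 0, .stab 2 false, .stab 1 false, .stab 1 false, .edge 3 [1, 0, 6, 0, 2, 5, 2], .lett 1, .lett 4, .lett 0, .lett 2, .lett 5, .lett 3, .lett 0, .lett 3, .lett 4, .lett 2, .lett 0, .lett 0, .lett 0] [4, 0, 3, 4, 5, 6]⟩,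
   ⟨0, 1, 1, 0, [0, 2, 2, 1, 4, 0, 5, 0, 3, 5, 1], [2, 1, 4, 0, 4, 2, 1, 2, 2, 5], [], .loop 0 [0, 3, 3, 1, 2, 2, 5, 0, 4, 4] 22 21 18 false [.stab 0 false, .stab 1 false, .stab 1 false, .edge 3 [0, 1, 4, 3, 5, 6, 6, 6], .lett 1, .lett 1, .lett 1, .lett 3, .lett 5, .lett 2, .lett 1, .lett 2, .lett 4, .lett 3, .lett 1, .lett 5, .lett 0, .edge 7 [6, 0, 4, 5, 2, 4, 5], .lett 1, .lett 4, .lett 0] [.lett 1, .lett 4, .lett 0, .stab 2 false, .stab 2 false, .stab 1 false, .stab 1 false, .stab 1 false, .edge 3 [1, 2, 4, 3, 4, 4, 5, 5]] []⟩,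
   ⟨1, 1, 2, 0, [], [], [], .defEdge⟩,
   ⟨2, 2, 0, 0, [4, 1, 2, 2, 4, 0, 3, 4, 4, 3], [0, 2, 2, 0, 2, 4, 3, 3, 0, 5, 5], [], .loop 0 [0, 3, 1, 2, 5, 1, 2, 2, 4, 1, 2] 22 7 22 false [.lett 2, .lett 4, .lett 3, .lett 1, .lett 5, .lett 0, .stab 0 false, .stab 2 false, .stab 2 false, .stab 1 false, .edge 3 [1, 4, 0, 4, 4, 1, 5, 6, 5, 6], .lett 1, .lett 4, .lett 0, .stab 8 false, .stab 5 false, .edge 7 [4, 6, 6, 5, 6, 0, 4, 2], .lett 1, .lett 5, .lett 0, .edge 9 [0, 4, 1, 5, 2, 0, 5], .lett 1, .lett 1, .lett 1, .lett 3, .lett 5, .lett 2, .lett 1] [] []⟩,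
   ⟨1, 1, 3, 0, [], [], [2, 5, 5, 1], .defEdge⟩,
   ⟨0, 3, 3, 0, [4, 1, 2, 5, 2, 4, 0, 2, 0, 3, 1], [1, 4, 2, 2, 1, 4, 2, 0, 5, 3], [], .loop 1 [2, 2, 0, 2, 2, 0, 4, 4, 2, 5] 28 0 1 false [.stab 6 true, .edge 11 [0, 0, 6, 0, 6, 0, 2, 5, 6]] [.stab 6 false, .stab 8 false, .edge 11 [1, 4, 6, 0, 6, 0, 4]] []⟩,
   ⟨0, 3, 3, 0, [1, 2, 4, 1, 4, 3, 0, 3, 3, 0, 5], [3, 1, 4, 2, 0, 4, 4, 2, 4, 0, 3], [], .loop 1 [5, 1, 5, 2, 1, 4, 3, 3] 28 0 1 false [.stab 5 true, .edge 11 [1, 3, 3, 4, 1]] [.stab 5 false, .stab 8 false, .edge 11 [2, 6, 3, 5, 5, 2, 4, 4, 4]] []⟩,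
   ⟨0, 3, 3, 0, [1, 5, 5, 2, 2, 1, 5, 3, 1, 5], [2, 2, 1, 3, 4, 0, 4, 4, 2, 2, 5], [], .loop 1 [0, 3, 1, 2, 5, 2, 0, 5, 2, 5, 1] 28 0 1 false [.stab 4 true, .edge 11 [4, 4, 4, 1, 6, 5, 5]] [.stab 5 false, .stab 8 false, .stab 8 false, .edge 11 [0, 1, 2, 4, 2, 0, 1, 4]] []⟩,
   ⟨0, 3, 3, 0, [0, 4, 0, 4, 1, 5, 0, 3], [0, 3, 5, 1, 2, 2, 4, 0], [], .loop 1 [0, 0, 5, 3, 4, 3, 5, 0, 4, 3, 3] 28 0 1 false [.stab 8 true, .edge 11 [1, 0, 4, 4, 6]] [.stab 8 false, .stab 6 false, .stab 5 false, .edge 11 [4, 0, 4, 2, 2, 5, 5, 5]] []⟩,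
   ⟨1, 3, 3, 0, [5, 3, 0, 2, 0, 2, 5, 1, 3], [1, 2, 5, 2, 0, 4, 3, 5, 0, 5, 2], [1, 5, 1], .loop 1 [4, 1, 5, 1, 3, 1, 4, 3, 3, 1] 22 6 11 false [.lett 1, .lett 2, .lett 4, .lett 3, .lett 1, .lett 5, .lett 0, .stab 4 false, .stab 5 false, .stab 4 false, .edge 11 [1, 6, 0, 4, 3], .lett 1, .lett 4, .lett 0, .stab 12 false, .stab 12 false] [.lett 3, .lett 4, .lett 2, .lett 0, .lett 0, .lett 0, .stab 6 false, .stab 4 false, .edge 11 [1, 2, 4, 1, 2, 5, 5, 5], .lett 1, .lett 4, .lett 0] [0, 1, 6, 0, 1, 1, 5, 5]⟩,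
   ⟨1, 3, 4, 0, [], [], [], .defEdge⟩,
   ⟨2, 4, 1, 0, [3, 5, 1], [2, 5, 1, 1, 3, 3, 4, 1], [], .loop 1 [2, 0, 5, 3, 0, 2, 4, 0, 5, 0] 5 10 18 false [.lett 5, .lett 1, .lett 4, .lett 2, .lett 1, .lett 3, .lett 3, .lett 1, .stab 6 false, .edge 11 [0, 3, 4, 4, 5, 5], .lett 0, .lett 0, .edge 17 [6, 0, 4, 5, 6], .lett 2, .lett 4, .lett 3, .lett 1, .lett 5, .lett 0] [] []⟩,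
   ⟨1, 3, 5, 0, [], [], [2, 5, 5, 1], .defEdge⟩,
   ⟨0, 5, 5, 0, [0, 2, 4, 1, 4, 3, 3, 1, 2, 2, 5], [1, 2, 2, 5, 0, 3, 0, 5, 3, 5], [], .loop 3 [2, 1, 5, 3, 3, 4, 1, 5, 2] 28 0 1 false [.stab 15 true, .edge 19 [1, 1, 1, 1, 3, 6, 6, 6, 5]] [.stab 14 false, .stab 13 false, .stab 13 false, .edge 19 [6, 3, 4, 2, 5, 6]] []⟩,
   ⟨0, 5, 5, 0, [1, 3, 5, 1, 2, 2, 1, 3, 5, 2], [4, 0, 3, 3, 0, 4, 2, 4, 0, 4], [], .loop 3 [0, 2, 2, 1, 2, 5, 0, 4, 3, 4, 4] 28 0 1 false [.stab 14 true, .edge 19 [0, 1, 6, 0, 4, 4, 6, 6, 5]] [.stab 14 false, .stab 15 false, .edge 19 [0, 4, 4, 6, 5, 5, 2, 4]] []⟩,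
   ⟨0, 5, 5, 0, [0, 2, 2, 0, 4, 2, 4, 2, 1, 2, 5, 0], [0, 5, 5, 3, 3, 0, 3, 4, 3, 3], [], .loop 3 [0, 2, 1, 2, 2, 4, 2, 0, 4, 1] 28 0 1 false [.stab 12 true, .edge 19 [1, 0, 2, 4, 4, 6, 6, 6, 5]] [.stab 12 false, .edge 19 [0, 0, 1, 2, 6, 0, 6, 6, 5]] []⟩,
   ⟨0, 5, 5, 0, [2, 5, 1, 5, 3, 3, 4, 0, 4, 3], [2, 0, 3, 5, 2, 1, 4, 3, 3], [], .loop 1 [1, 4, 2, 4, 1, 3, 1, 2, 5] 0 4 56 false [.lett 1, .stab 6 false, .edge 11 [2, 0, 4, 6, 0, 4, 5], .lett 1, .lett 5, .lett 1, .lett 5, .lett 0, .lett 4, .lett 1, .lett 4, .lett 0, .lett 2, .lett 4, .lett 3, .lett 4, .lett 2, .lett 0, .lett 3, .lett 3, .lett 1, .lett 5, .edge 17 [2, 4, 5, 6, 0, 3, 4, 5], .coin 18, .lett 3, .lett 1, .lett 4, .edge 9 [0, 4, 1, 5, 6, 6], .coin 10, .lett 1, .stab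 2 false, .stab 1 false, .edge 3 [0, 0, 0, 6, 0, 2, 5, 6], .lett 1, .lett 5, .lett 1, .lett 5, .lett 0, .lett 4, .lett 1, .lett 4, .lett 0, .lett 2, .lett 4, .lett 3, .lett 4, .lett 2, .lett 0, .lett 3, .lett 3, .lett 1, .lett 2, .lett 1, .lett 3, .lett 5, .stab 8 false, .edge 11 [1, 4, 0, 2, 4, 5, 5, 5, 5], .lett 3, .lett 1, .lett 4, .stab 15 false, .stab 14 false, .stab 15 false, .edge 19 [2, 0, 4, 4, 6, 0, 5, 5], .lett 1] [.stab 5 false, .stab 6 false, .stab 8 false, .edge 11 [0, 0, 6, 0, 2, 0, 0, 6, 5], .lett 5, .lett 0, .lett 2, .lett 3, .lett 3, .lett 1, .lett 5, .lett 0, .lett 4, .lett 1, .lett 4, .lett 0, .lett 0, .lett 2, .lett 2, .lett 1, .lett 3, .lett 5, .lett 2, .lett 5, .lett 3, .lett 1, .lett 5, .lett 0, .lett 5,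 .lett 1, .lett 4, .lett 0, .lett 4, .lett 0, .stab 15 false, .edge 19 [2, 4, 4, 6, 0, 3, 4, 5, 5]] []⟩,
   ⟨1, 5, 5, 0, [0, 0, 3, 0, 5, 3], [2, 1, 3, 4, 4, 3, 1, 2, 4, 1], [2, 5, 5, 1], .loop 3 [0, 3, 5, 3, 3, 1, 4, 0, 2] 22 11 6 false [.lett 5, .lett 0, .stab 15 false, .stab 15 false, .stab 13 false, .edge 19 [0, 1, 2, 4, 0, 4, 6, 5], .lett 1, .lett 4, .lett 0, .stab 23 false, .stab 23 false, .stab 22 false] [.lett 0, .lett 2, .lett 5, .lett 3, .lett 0, .lett 3, .lett 4, .lett 2, .lett 0, .lett 0, .lett 0, .stab 15 false, .stab 14 false, .stab 13 false, .edge 19 [0, 5, 2, 5, 5, 2, 4, 5], .lett 1, .lett 4, .lett 0] [0, 1, 1, 3, 5, 6]⟩,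
   ⟨1, 5, 6, 0, [], [], [2, 5, 1], .defEdge⟩,
   ⟨2, 6, 3, 0, [0, 3, 3, 0, 3, 5, 0, 3, 4, 1], [2, 4, 2, 1, 3, 4, 1, 1, 3], [], .loop 1 [1, 3, 4, 2, 5, 2, 0, 2, 2, 1] 23 4 31 false [.edge 11 [1, 6, 0, 4, 2, 4, 4, 6, 5], .lett 3, .lett 1, .lett 4, .stab 13 false, .edge 19 [5, 6, 0, 4, 3, 4, 5, 6, 6], .lett 1, .stab 23 false, .stab 22 false, .edge 24 [4, 4, 1, 2, 1, 5, 6, 6], .lett 1, .lett 5, .lett 1, .lett 5, .lett 0, .lett 4, .lett 1, .lett 4, .lett 0, .lett 2, .lett 4, .lett 3, .lett 4, .lett 2, .lett 0, .lett 3, .lett 3, .lett 1, .stab 23 false, .stab 23 false, .stab 22 false, .edge 24 [4, 1, 6, 0, 0, 2, 5], .lett 3, .lett 1, .lett 4, .stab 20 false, .stab 22 false, .edge 25 [0, 0, 1, 6, 5, 5, 2, 0, 1], .lett 1] [.lett 1, .lett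 1, .lett 1, .lett 1, .lett 0, .lett 2, .lett 2, .lett 1, .lett 3, .lett 5, .lett 2, .lett 5, .lett 3, .lett 1, .lett 5, .lett 0, .lett 5, .lett 1, .lett 4, .lett 0, .lett 4, .lett 0, .edge 11 [0, 1, 0, 6, 0, 2, 6, 0, 5, 6]] []⟩]

/-- facts -/
def facts : List Fact := facts0

/-- a living orbit -/
noncomputable def live0 : Live := ⟨0, [0, 1, 2], [cls0]⟩

/-- a living orbit -/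
noncomputable def live1 : Live := ⟨1, [4, 5, 6, 8], [cls1]⟩

/-- a living orbit -/
noncomputable def live2 : Live := ⟨3, [12, 13, 14, 15], [cls2]⟩

/-- a living orbit -/
noncomputable def live3 : Live := ⟨5, [20, 21, 22, 23], [cls3]⟩

/-- the living orbits -/
noncomputable def lives : List Live := [live0, live1, live2, live3]

/-- facts removing the other orbits -/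
def dead : List Nat := [10, 18, 26]


end CfsgLib.Spor.Ly.PK
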