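import Cfsg.Agent.Lib.Spor.Ly.Rels
import Cfsg.Agent.Lib.Spor.Ly.G0Cert
import Cfsg.Agent.Lib.PresCert.Range

/-!
The group on `a, b, c` has order at most `1500000`: a normal subgroup of order at most `5^5`,
extended by a group of order at most `480`.
-/

set_option autoImplicit false

namespace CfsgLib.Spor.Ly

open CfsgLib.PresCert CfsgLib.DCE Subgroup
open scoped Pointwise

private theorem rels_g0 : (G0.cert.rels.all fun r =>
    (r.all fun x => Nat.blt x 4) && R0.contains r) = true := by decide +kernel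

theorem g0_bound : Finite Grp0 ∧ Nat.card Grp0 ≤ 480 := by
  let M : CfsgLib.PresCert.Model G0.cert Grp0 :=
    { gen := lv Grp.gen
      gen_inv := by
        intro x hx
        have : x < 4 := hx
        refine ⟨?_, ?_⟩
        · interval_cases x <;> decide
        · rw [show G0.cert.iv x = Nat.xor x 1 by interval_cases x <;> decide, lv_xor]
      rels_eq := by
        intro r hr
        have h := List.all_eq_true.1 rels_g0 r hr
        simp only [Bool.and_eq_true, List.all_eq_true, Nat.blt_eq, List.contains_iff_mem] at h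
        exact ⟨h.1, Grp.wv_rel h.2⟩
      sub := ⊥
      subs_mem := by intro r hr; simp [G0.cert] at hr
      closure_gen := by
        refine top_le_iff.1 ((Grp.closure_gen (m := 2) (rels := R0)).symm.trans_le ?_)
        refine Subgroup.closure_mono ?_
        rintro _ ⟨k, rfl⟩
        refine ⟨2 * k, show 2 * (k : Nat) < 4 by omega, ?_⟩
        rw [lv, dif_pos (show 2 * (k : Nat) / 2 < 2 by omega), if_pos (by omega)]
        exact congrArg Grp.gen (Fin.ext (by simp)) }
  obtain ⟨h, hf⟩ := Cert.index_le M G0.valid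
  have e : M.sub.index = Nat.card Grp0 := Subgroup.index_bot
  rw [e] at h
  exact ⟨Nat.finite_of_card_ne_zero (e ▸ hf.index_ne_zero), h⟩

/-- words in the free group on `a, b, c` -/
abbrev F3 : Type := FreeGroup (Fin 3)

/-- the value in the group on `a, b, c` -/
noncomputable def vP : F3 →* GrpP := FreeGroup.lift Grp.gen

theorem vP_rel (u : F3) (h : (RP.any fun w => decide (wv FreeGroup.of w = u)) = true) :
    vP u = 1 := by
  simp only [List.any_eq_true, decide_eq_true_eq] at h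
  obtain ⟨w, hw, rfl⟩ := h
  rw [vP, map_wv]
  simp only [FreeGroup.lift_apply_of]
  exact Grp.wv_rel hw

/-- `a` -/
def fa : F3 := FreeGroup.of 0
/-- `b` -/
def fb : F3 := FreeGroup.of 1
/-- `c1` -/
def f1 : F3 := FreeGroup.of 2
/-- `c2` -/
def f2 : F3 := fa⁻¹ * f1 * fa
/-- `c3` -/
def f3 : F3 := fb⁻¹ * f1 * fb
/-- `c4` -/
def f4 : F3 := fb * f1 * fb⁻¹
/-- `c5` -/
def f5 : F3 := f1⁻¹ * f2⁻¹ * f1 * f2

/-- an equation holds when the quotient of the sides is a relator -/
theorem vP_eq (u v : F3) (h : (RP.any fun w => decide (wv FreeGroup.of w = u * v⁻¹)) = true) :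
    vP u = vP v := by
  have := vP_rel _ h
  rwa [map_mul, map_inv, mul_inv_eq_one] at this

/-- an element commuting up to a subgroup with its generators normalises it -/
theorem normalizes_of_gens {G : Type*} [Group G] {S : Set G} [Finite (closure S)] {x : G}
    (h : ∀ s ∈ S, x⁻¹ * s * x ∈ closure S) : x ∈ normalizer (closure S : Set G) := by
  have hle : ∀ y ∈ closure S, x⁻¹ * y * x ∈ closure S := fun y hy => by
    have : closure S ≤ (closure S).comap (MulAut.conj x⁻¹).toMonoidHom :=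
      (closure_le _).2 fun s hs => by simpa using h s hs
    simpa using this hy
  rw [mem_normalizer_iff]
  intro y
  refine ⟨fun hy => ?_, fun hy => by simpa [mul_assoc] using hle _ hy⟩
  let φ : closure S → closure S := fun z => ⟨x⁻¹ * z * x, hle _ z.2⟩
  have hφ : Function.Injective φ := fun z w e => by
    have : x⁻¹ * (z : G) * x = x⁻¹ * w * x := congrArg Subtype.val e
    exact Subtype.ext (mul_left_cancel (mul_right_cancel this))
  obtain ⟨z, hz⟩ := Finite.surjective_of_injective hφ ⟨y, hy⟩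
  have hz' : x⁻¹ * (z : G) * x = y := congrArg Subtype.val hz
  rw [← hz']
  simpa [mul_assoc] using z.2

theorem card_sup_zpowers {G : Type*} [Group G] (S : Set G) (x : G) {n q : ℕ} (hq : 0 < q)
    [Finite (closure S)] (hn : Nat.card (closure S) ≤ n) (hx : x ^ q = 1)
    (h : ∀ s ∈ S, x⁻¹ * s * x ∈ closure S) :
    Finite (closure (insert x S)) ∧ Nat.card (closure (insert x S)) ≤ n * q := by
  have hN := normalizes_of_gens h
  have hz : IsOfFinOrder x := isOfFinOrder_iff_pow_eq_one.2 ⟨q, hq, hx⟩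
  haveI : Finite (zpowers x) := (finite_zpowers.2 hz).to_subtype
  have hzc : Nat.card (zpowers x) ≤ q := by
    rw [Nat.card_zpowers]; exact orderOf_le_of_pow_eq_one hq hx
  have hset : ((closure (insert x S) : Subgroup G) : Set G) = (closure S : Set G) * (zpowers x : Set G) := by
    rw [← coe_mul_of_right_le_normalizer_left _ _ (zpowers_le.2 hN), zpowers_eq_closure,
      ← Subgroup.closure_union, Set.union_comm, Set.insert_eq]
  let f : closure S × zpowers x → closure (insert x S) := fun p =>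
    ⟨p.1 * p.2, by rw [← SetLike.mem_coe, hset]; exact Set.mul_mem_mul p.1.2 p.2.2⟩
  have hf : Function.Surjective f := by
    rintro ⟨y, hy⟩
    rw [← SetLike.mem_coe, hset] at hy
    obtain ⟨a, ha, b, hb, rfl⟩ := hy
    exact ⟨(⟨a, ha⟩, ⟨b, hb⟩), rfl⟩
  refine ⟨Finite.of_surjective f hf, (Nat.card_le_card_of_surjective f hf).trans ?_⟩
  rw [Nat.card_prod]
  exact Nat.mul_le_mul hn hzc

/-- commuting up to a member of the subgroup -/
theorem conj_mem_of_comm {G : Type*} [Group G] {K : Subgroup G} {x s : G} (hs : s ∈ K)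
    (h : x⁻¹ * s⁻¹ * x * s ∈ K) : x⁻¹ * s * x ∈ K := by
  have : x⁻¹ * s * x = s * (x⁻¹ * s⁻¹ * x * s)⁻¹ := by group
  rw [this]
  exact mul_mem hs (inv_mem h)

theorem gp_bound : Finite GrpP ∧ Nat.card GrpP ≤ 1500000 := by
  have p1 : vP f1 ^ 5 = 1 := by rw [← map_pow]; exact vP_rel _ (by decide +kernel)
  have p5 : vP f5 ^ 5 = 1 := by rw [← map_pow]; exact vP_rel _ (by decide +kernel)
  have cp : ∀ u y : F3, vP u ^ 5 = 1 → vP (y⁻¹ * u * y) ^ 5 = 1 := fun u y h => by
    rw [map_mul, map_mul, map_inv,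
      show (vP y)⁻¹ * vP u * vP y = MulAut.conj (vP y)⁻¹ (vP u) by simp [MulAut.conj_apply],
      ← map_pow, h, map_one]
  have p2 : vP f2 ^ 5 = 1 := cp _ _ p1
  have p3 : vP f3 ^ 5 = 1 := cp _ _ p1
  have p4 : vP f4 ^ 5 = 1 := by simpa [f4] using cp f1 fb⁻¹ p1
  have c15 := vP_rel (f1⁻¹ * f5⁻¹ * f1 * f5) (by decide +kernel)
  have c25 := vP_rel (f2⁻¹ * f5⁻¹ * f2 * f5) (by decide +kernel)
  have c35 := vP_rel (f3⁻¹ * f5⁻¹ * f3 * f5) (by decide +kernel)
  have c45 := vP_rel (f4⁻¹ * f5⁻¹ * f4 * f5) (by decide +kernel)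
  have c13 := vP_eq (f1⁻¹ * f3⁻¹ * f1 * f3) (f5 ^ 2)⁻¹ (by decide +kernel)
  have c14 := vP_eq (f1⁻¹ * f4⁻¹ * f1 * f4) (f5 ^ 2) (by decide +kernel)
  have c23 := vP_eq (f2⁻¹ * f3⁻¹ * f2 * f3) f5⁻¹ (by decide +kernel)
  have c24 := vP_rel (f2⁻¹ * f4⁻¹ * f2 * f4) (by decide +kernel)
  have c34 := vP_eq (f3⁻¹ * f4⁻¹ * f3 * f4) f5⁻¹ (by decide +kernel)
  have c12 : vP (f1⁻¹ * f2⁻¹ * f1 * f2) = vP f5 := rfl
  simp only [map_mul, map_inv, map_pow] at c15 c25 c35 c45 c13 c14 c23 c24 c34 c12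
  generalize e1 : vP f1 = x1 at *
  generalize e2 : vP f2 = x2 at *
  generalize e3 : vP f3 = x3 at *
  generalize e4 : vP f4 = x4 at *
  generalize e5 : vP f5 = x5 at *
  have b0 : Finite (closure ({x5} : Set GrpP)) ∧ Nat.card (closure ({x5} : Set GrpP)) ≤ 5 := by
    rw [← zpowers_eq_closure]
    refine ⟨(finite_zpowers.2 (isOfFinOrder_iff_pow_eq_one.2 ⟨5, by norm_num, p5⟩)).to_subtype, ?_⟩
    rw [Nat.card_zpowers]; exact orderOf_le_of_pow_eq_one (by norm_num) p5
  obtain ⟨f0, k0⟩ := b0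
  obtain ⟨g4, k4⟩ := card_sup_zpowers _ x4 (by norm_num : 0 < 5) k0 p4 (by
    rintro s rfl
    exact conj_mem_of_comm (subset_closure rfl) (c45.symm ▸ one_mem _))
  have m5 : ∀ {T : Set GrpP}, x5 ∈ T → x5 ∈ closure T := fun h => subset_closure h
  obtain ⟨g3, k3⟩ := card_sup_zpowers _ x3 (by norm_num : 0 < 5) k4 p3 (by
    intro s hs
    refine conj_mem_of_comm (subset_closure hs) ?_
    rcases hs with rfl | rfl
    · rw [c34]; exact inv_mem (m5 (by simp))
    · rw [c35]; exact one_mem _)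
  obtain ⟨g2, k2⟩ := card_sup_zpowers _ x2 (by norm_num : 0 < 5) k3 p2 (by
    intro s hs
    refine conj_mem_of_comm (subset_closure hs) ?_
    rcases hs with rfl | rfl | rfl
    · rw [c23]; exact inv_mem (m5 (by simp))
    · rw [c24]; exact one_mem _
    · rw [c25]; exact one_mem _)
  obtain ⟨g1, k1⟩ := card_sup_zpowers _ x1 (by norm_num : 0 < 5) k2 p1 (by
    intro s hs
    refine conj_mem_of_comm (subset_closure hs) ?_
    rcases hs with rfl | rfl | rfl | rfl
    · rw [c12]; exact m5 (by simp)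
    · rw [c13]; exact inv_mem (pow_mem (m5 (by simp)) 2)
    · rw [c14]; exact pow_mem (m5 (by simp)) 2
    · rw [c15]; exact one_mem _)
  -- the normal subgroup
  set N := closure ({x1, x2, x3, x4, x5} : Set GrpP) with hNdef
  have m : x1 ∈ N ∧ x2 ∈ N ∧ x3 ∈ N ∧ x4 ∈ N ∧ x5 ∈ N := by
    refine ⟨?_, ?_, ?_, ?_, ?_⟩ <;> exact subset_closure (by simp)
  obtain ⟨m1, m2, m3, m4, m5'⟩ := m
  have ea2 := vP_eq (fa⁻¹ * f2 * fa) (f1 ^ 2)⁻¹ (by decide +kernel)
  have ea3 := vP_eq (fa⁻¹ * f3 * fa) ((f3 ^ 2)⁻¹ * f1 * f4) (by decide +kernel)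
  have ea4 := vP_eq (fa⁻¹ * f4 * fa) (f1 * f2⁻¹ * f3⁻¹ * f4 * f1 * f4) (by decide +kernel)
  have ea5 := vP_eq (fa⁻¹ * f5 * fa) (f5 ^ 2) (by decide +kernel)
  have eb2 := vP_eq (fb⁻¹ * f2 * fb) (f2 * f3 * f4⁻¹ * f1⁻¹ * f4⁻¹) (by decide +kernel)
  have eb3 := vP_eq (fb⁻¹ * f3 * fb) (f1 ^ 2 * f4 * (f3 ^ 2)⁻¹) (by decide +kernel)
  have eb5 := vP_eq (fb⁻¹ * f5 * fb) f5 (by decide +kernel)
  have ea1 : vP (fa⁻¹ * f1 * fa) = vP f2 := rfl
  have eb1 : vP (fb⁻¹ * f1 * fb) = vP f3 := rfl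
  have eb4 : vP (fb⁻¹ * f4 * fb) = vP f1 := by congr 1; rw [f4]; group
  simp only [map_mul, map_inv, map_pow, e1, e2, e3, e4, e5] at ea1 ea2 ea3 ea4 ea5 eb1 eb2 eb3 eb4 eb5
  have na : vP fa ∈ normalizer (N : Set GrpP) := normalizes_of_gens (by
    intro s hs
    rcases hs with rfl | rfl | rfl | rfl | rfl
    · rw [ea1]; exact m2
    · rw [ea2]; exact inv_mem (pow_mem m1 2)
    · rw [ea3]; exact mul_mem (mul_mem (inv_mem (pow_mem m3 2)) m1) m4
    · rw [ea4]; exact mul_mem (mul_mem (mul_mem (mul_mem (mul_mem m1 (inv_mem m2)) (inv_mem m3)) m4) m1) m4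
    · rw [ea5]; exact pow_mem m5' 2)
  have nb : vP fb ∈ normalizer (N : Set GrpP) := normalizes_of_gens (by
    intro s hs
    rcases hs with rfl | rfl | rfl | rfl | rfl
    · rw [eb1]; exact m3
    · rw [eb2]; exact mul_mem (mul_mem (mul_mem (mul_mem m2 m3) (inv_mem m4)) (inv_mem m1)) (inv_mem m4)
    · rw [eb3]; exact mul_mem (mul_mem (pow_mem m1 2) m4) (inv_mem (pow_mem m3 2))
    · rw [eb4]; exact m1
    · rw [eb5]; exact m5')
  -- the image of the group on `a, b`
  have hsub : (R0.all fun w => RP.contains (subst [[0], [2]] w)) = true := by decide +kernel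
  let ψ : Grp0 →* GrpP :=
    Grp.lift (fun k : Fin 2 => wv Grp.gen ([[0], [2]].getD k [])) (subst_rels rfl hsub)
  obtain ⟨hfin, hcard⟩ := g0_bound
  have hN : ψ.range ≤ normalizer (N : Set GrpP) := by
    rw [MonoidHom.range_eq_map, ← Grp.closure_gen, MonoidHom.map_closure, closure_le]
    rintro _ ⟨_, ⟨k, rfl⟩, rfl⟩
    fin_cases k
    · simpa [ψ, wv, lv, vP, fa] using na
    · simpa [ψ, wv, lv, vP, fb] using nb
  have htop : N ⊔ ψ.range = ⊤ := by
    refine top_le_iff.1 (Grp.closure_gen.symm.trans_le ((closure_le _).2 ?_))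
    rintro _ ⟨k, rfl⟩
    fin_cases k
    · exact mem_sup_right ⟨Grp.gen 0, by simp [ψ, wv, lv]⟩
    · exact mem_sup_right ⟨Grp.gen 1, by simp [ψ, wv, lv]⟩
    · refine mem_sup_left ?_
      have : vP f1 = Grp.gen 2 := by simp [vP, f1]
      simpa [← this, e1] using m1
  haveI : Finite N := g1
  haveI : Finite ψ.range := Finite.of_surjective _ ψ.rangeRestrict_surjective
  let f : N × ψ.range → GrpP := fun p => p.1 * p.2
  have hf : Function.Surjective f := by
    intro y
    have hy : y ∈ ((N ⊔ ψ.range : Subgroup GrpP) : Set GrpP) := by rw [htop]; trivial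
    rw [coe_mul_of_right_le_normalizer_left _ _ hN] at hy
    obtain ⟨u, hu, v, hv, rfl⟩ := hy
    exact ⟨(⟨u, hu⟩, ⟨v, hv⟩), rfl⟩
  refine ⟨Finite.of_surjective f hf, (Nat.card_le_card_of_surjective f hf).trans ?_⟩
  rw [Nat.card_prod]
  have hr : Nat.card ψ.range ≤ 480 :=
    (Nat.card_le_card_of_surjective _ ψ.rangeRestrict_surjective).trans hcard
  exact (Nat.mul_le_mul k1 hr).trans (by norm_num)

end CfsgLib.Spor.Ly
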