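import Cfsg.Agent.Lib.Spor.Ly.PtsDefs
import Cfsg.Agent.Lib.Spor.Ly.RelsData

/-!
Kernel checks on the points of the representation of `⟨a, b, c, d⟩`.
-/

namespace CfsgLib.Spor.Ly.Pts

open CfsgLib.PresCert CfsgLib.DCE CfsgLib.Spor.Ly.Five

theorem gens14 :
    okGens 14 M14 4 = true := by decide +kernel

theorem gens7 :
    okGens 7 M7 4 = true := by decide +kernel

theorem rels14 :
    okRelsF 14 M14 4 RK = true := by decide +kernel

theorem rels7 :
    okRelsF 7 M7 4 RK = true := by decide +kernel

theorem vecs14 :
    okVecs 14 v14 ord14.half pos14.half = true := by decide +kernel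

theorem vecs7 :
    okVecs 7 v7 ord7.half pos7.half = true := by decide +kernel

end CfsgLib.Spor.Ly.Pts
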