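import Cfsg.Agent.Lib.Spor.Ly.PtsData
import Cfsg.Agent.Lib.Spor.Ly.LineAct
import Cfsg.Agent.Lib.Spor.Ly.Rep
import Cfsg.Agent.Lib.Spor.Ly.GKPerm

/-!
The checks on the points of the representation of `⟨a, b, c, d⟩`.
-/

set_option autoImplicit false

namespace CfsgLib.Spor.Ly.Pts

open CfsgLib.PresCert CfsgLib.DCE CfsgLib.Spor.Ly.Five

/-- entry of a table with eight entries of `w` bits to a leaf -/
noncomputable def sel (t : BTree) (w i : Nat) : Nat :=
  Nat.land (Nat.shiftRight (t.get (Nat.shiftRight i 3)) (Nat.mul w (Nat.land i 7))) (2 ^ w - 1)

/-- the vector of a point of the first kind -/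
noncomputable def v14 (i : Nat) : Nat := sel vec14 224 i

/-- the vector of a line of the second kind -/
noncomputable def v7 (i : Nat) : Nat := sel vec7 112 i

/-- one of the six lines of a point of the second kind -/
noncomputable def pr (i s : Nat) : Nat := lane 16 s (sel pairs 96 i)

/-- the action of a letter on the lines of the second kind -/
noncomputable def img2 (x i : Nat) : Nat := (tab2.getD x (.leaf 0)).half i

/-- the leading entry is one -/
def normAux (v : Nat) : Nat → Nat → Bool
  | 0, _ => false
  | f + 1, k => bif Nat.beq (lane 16 k v) 0 then normAux v f (k + 1) else Nat.beq (lane 16 k v) 1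

/-- a normalised vector -/
def okVec (d v : Nat) : Bool :=
  Nat.blt v (2 ^ (16 * d)) && normAux v d 0 && (List.range d).all fun k => Nat.blt (lane 16 k v) 5

/-- all vectors are normalised and distinct -/
noncomputable def okVecs (d : Nat) (v ord pos : Nat → Nat) : Bool :=
  allBelow 3906 fun i => okVec d (v i) && Nat.beq (ord (pos i)) i && Nat.blt (pos i) 3906 &&
    (Nat.ble 3906 (i + 1) || Nat.blt (v (ord i)) (v (ord (i + 1))))

/-- a letter acts on the points of the first kind as its matrix does on the lines -/
noncomputable def ok14 (x : Nat) : Bool :=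
  allBelow 3906 fun i =>
    let j := GK.P.img x i
    Nat.blt j 3906 && okMult 14 (vmulF 14 (v14 i) (M14.getD x 0)) (v14 j)

/-- a letter acts on the lines of the second kind as its matrix does, inverse to its partner -/
noncomputable def ok7 (x : Nat) : Bool :=
  allBelow 3906 fun i =>
    let j := img2 x i
    Nat.blt j 3906 && Nat.beq (img2 (Nat.xor x 1) j) i &&
      okMult 7 (vmulF 7 (v7 i) (M7.getD x 0)) (v7 j)

/-- equal unordered pairs -/
def samePair (a b c d : Nat) : Bool :=
  (Nat.beq a c && Nat.beq b d) || (Nat.beq a d && Nat.beq b c)

/-- the six lines of a point are sorted and in range -/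
noncomputable def okSix (i : Nat) : Bool :=
  Nat.blt (pr i 0) (pr i 1) && Nat.blt (pr i 2) (pr i 3) && Nat.blt (pr i 4) (pr i 5) &&
    Nat.blt (pr i 0) (pr i 2) && Nat.blt (pr i 2) (pr i 4) &&
    Nat.blt (pr i 1) 3906 && Nat.blt (pr i 3) 3906 && Nat.blt (pr i 5) 3906

/-- the key of a pair -/
def pairKey (a b : Nat) : Nat := (Nat.min a b * 4096 + Nat.max a b) ^ 3

/-- the key of a point of the second kind -/
noncomputable def keyP (i : Nat) : Nat :=
  pairKey (pr i 0) (pr i 1) + (pairKey (pr i 2) (pr i 3) + pairKey (pr i 4) (pr i 5))

/-- the points of the second kind from `lo` are well formed and distinct -/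
noncomputable def okPts (lo len : Nat) : Bool :=
  allBelow len fun k =>
    let i := Nat.add lo k
    okSix i && Nat.beq (ordP.half (posP.half i)) i && Nat.blt (posP.half i) 19530 &&
      (Nat.ble 19530 (i + 1) || Nat.blt (keyP (ordP.half i)) (keyP (ordP.half (i + 1))))

/-- a letter maps the sets of pairs as it maps the points of the second kind -/
noncomputable def okU (x lo len : Nat) : Bool :=
  allBelow len fun k =>
    let i := Nat.add lo k
    let j := GK.P.img x (Nat.add 3906 i)
    Nat.ble 3906 j && Nat.blt j 23436 &&
      let j' := Nat.sub j 3906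
      let a := img2 x (pr i 0)
      let b := img2 x (pr i 1)
      let c := img2 x (pr i 2)
      let d := img2 x (pr i 3)
      let e := img2 x (pr i 4)
      let f := img2 x (pr i 5)
      let a' := pr j' 0
      let b' := pr j' 1
      let c' := pr j' 2
      let d' := pr j' 3
      let e' := pr j' 4
      let f' := pr j' 5
      (samePair a b a' b' || samePair a b c' d' || samePair a b e' f') &&
        (samePair c d a' b' || samePair c d c' d' || samePair c d e' f') &&
        (samePair e f a' b' || samePair e f c' d' || samePair e f e' f') &&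
        (samePair a b a' b' || samePair c d a' b' || samePair e f a' b') &&
        (samePair a b c' d' || samePair c d c' d' || samePair e f c' d') &&
        (samePair a b e' f' || samePair c d e' f' || samePair e f e' f')

end CfsgLib.Spor.Ly.Pts
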