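import Cfsg.Agent.Lib.Spor.Ly.KFaithful
import Cfsg.Agent.Lib.Spor.Ly.GKFacts
import Cfsg.Agent.Lib.Spor.Ly.GKFacts0
import Cfsg.Agent.Lib.Spor.Ly.GKFacts1
import Cfsg.Agent.Lib.Spor.Ly.GKFacts2
import Cfsg.Agent.Lib.Spor.Ly.GKFacts3
import Cfsg.Agent.Lib.Spor.Ly.GKFacts4
import Cfsg.Agent.Lib.Spor.Ly.GKFacts5
import Cfsg.Agent.Lib.Spor.Ly.GKFacts6
import Cfsg.Agent.Lib.Spor.Ly.GKFacts7
import Cfsg.Agent.Lib.Spor.Ly.GKFacts8
import Cfsg.Agent.Lib.Spor.Ly.GKFacts9
import Cfsg.Agent.Lib.Spor.Ly.GKFacts10
import Cfsg.Agent.Lib.Spor.Ly.GKFacts11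
import Cfsg.Agent.Lib.Spor.Ly.GKLive0
import Cfsg.Agent.Lib.Spor.Ly.GKLive1
import Cfsg.Agent.Lib.Spor.Ly.GKLive2
import Cfsg.Agent.Lib.Spor.Ly.GKLive3
import Cfsg.Agent.Lib.Spor.Ly.GKLive4
import Cfsg.Agent.Lib.Spor.Ly.GKStab0
import Cfsg.Agent.Lib.Spor.Ly.GKStab1
import Cfsg.Agent.Lib.Spor.Ly.GKStab2
import Cfsg.Agent.Lib.Spor.Ly.GKStab3
import Cfsg.Agent.Lib.Spor.Ly.GKStab4

/-!
In the presented Lyons group the subgroup on `a, b, c, d` has index at most 8835156.
-/

set_option autoImplicit false

namespace CfsgLib.Spor.Ly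

open CfsgLib.PresCert CfsgLib.DCE

/-- `⟨a, b, c, d⟩` maps into the Lyons group -/
noncomputable def psiK : GrpK →* GLy :=
  Grp.lift (fun k : Fin 4 => lgen k.castSucc) fun w hw => by
    have h := rk_one w hw
    have hlt : ∀ v ∈ RK, ∀ x ∈ v, x < 8 := by decide +kernel
    rw [← h]
    unfold wv
    congr 1
    refine List.map_congr_left fun x hx => ?_
    have := hlt w hw x hx
    interval_cases x <;> simp [lv]

theorem psiK_gen (k : Fin 4) : psiK (Grp.gen k) = lgen k.castSucc := by simp [psiK]

/-- the involution `z * a` -/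
noncomputable def tEdge : GLy := lgen 4 * lgen 0

/-- the meaning of the letters: those of `a, b, c, d`, and `z * a` -/
noncomputable def genG (x : Nat) : GLy :=
  if x < 8 then psiK (permsK.val [x]) else tEdge

theorem genG_lt : ∀ x, x < 8 → genG x = lv lgen x := by
  intro x hx
  interval_cases x <;>
    simp [genG, permsK, Perms.val, wv, lv, psiK_gen]

theorem tEdge_sq : tEdge * tEdge = 1 := by
  have h81 := rall_one [8, 8, 1, 1] (by decide +kernel)
  have h78 := rall_one [9, 0, 8, 0, 0, 0] (by decide +kernel)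
  simp only [wv, List.map_cons, List.map_nil, List.prod_cons, List.prod_nil, mul_one] at h81 h78
  simp only [lv] at h81 h78
  change lgen 4 * lgen 0 * (lgen 4 * lgen 0) = 1
  replace h81 : lgen 4 * (lgen 4 * ((lgen 0)⁻¹ * (lgen 0)⁻¹)) = 1 := by simpa using h81
  replace h78 : (lgen 4)⁻¹ * (lgen 0 * (lgen 4 * (lgen 0 * (lgen 0 * lgen 0)))) = 1 := by
    simpa using h78
  generalize lgen 4 = z at h81 h78
  generalize lgen 0 = a at h81 h78
  have e1 : a * z = z * (a * (a * a))⁻¹ := by
    calc a * z = z * (z⁻¹ * (a * (z * (a * (a * a))))) * (a * (a * a))⁻¹ := by group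
      _ = _ := by rw [h78, mul_one]
  calc z * a * (z * a) = z * (a * z) * a := by group
    _ = z * (z * (a * (a * a))⁻¹) * a := by rw [e1]
    _ = z * (z * (a⁻¹ * a⁻¹)) := by group
    _ = 1 := h81

theorem genG_inv : ∀ x, x < 9 → genG ([1, 0, 3, 2, 5, 4, 7, 6, 8].getD x 0) = (genG x)⁻¹ := by
  intro x hx
  interval_cases x
  all_goals first
    | (simp [genG_lt, lv]; done)
    | exact eq_inv_of_mul_eq_one_left (by simpa [genG] using tEdge_sq)

/-- `a, b, c, d, z` in the letters of the enumeration -/
def imgG : List (List Nat) :=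
  [[0], [1], [2], [3], [4], [5], [6], [7], [8, 1], [0, 8]]

theorem imgG_val : ∀ x < imgG.length, ((imgG.getD x []).map genG).prod = lv lgen x := by
  intro x hx
  have : x < 10 := hx
  interval_cases x
  all_goals first
    | (simp [imgG, genG_lt]; done)
    | (show genG 8 * (genG 1 * 1) = lv lgen 8
       rw [mul_one, genG_lt 1 (by norm_num)]
       simp [genG, tEdge, lv])
    | (show genG 0 * (genG 8 * 1) = lv lgen 9
       rw [mul_one, genG_lt 0 (by norm_num), show genG 8 = tEdge⁻¹ by
         simpa [genG] using eq_inv_of_mul_eq_one_left tEdge_sq]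
       simp [tEdge, lv])

theorem rz_prod : ∀ w ∈ RAll, (w.map (lv lgen)).prod = 1 := rall_one

/-- the relators of the enumeration are relators of the group -/
noncomputable def okKnownG : Bool :=
  GK.S.rels.all fun r => r == [] || r == [8, 8] ||
    okKnown [1, 0, 3, 2, 5, 4, 7, 6, 8] 9 imgG RAll r

theorem knownG_ok : okKnownG = true := by decide +kernel

theorem edgesG_len : GK.S.edges.length = 1 := by decide +kernel

/-- the conjugations by `z * a` -/
noncomputable def okCommG : Bool :=
  allBelow (GK.S.edge 0).src.length fun k =>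
    okKnown [1, 0, 3, 2, 5, 4, 7, 6, 8] 9 imgG RAll
      ((GK.S.edge 0).src.getD k [] ++ [8] ++
        invW [1, 0, 3, 2, 5, 4, 7, 6, 8] ((GK.S.edge 0).img.getD k []) ++ [8]) ||
    okKnown [1, 0, 3, 2, 5, 4, 7, 6, 8] 9 imgG RAll
      ([0] ++ [8] ++ (GK.S.edge 0).src.getD k [] ++ [8] ++
        invW [1, 0, 3, 2, 5, 4, 7, 6, 8] ((GK.S.edge 0).img.getD k []) ++ [1])

theorem commG_ok : okCommG = true := by decide +kernel

theorem edgeG_lt : ((GK.S.edge 0).src.all fun w => w.all fun x => Nat.blt x 8) = true ∧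
    ((GK.S.edge 0).img.all fun w => w.all fun x => Nat.blt x 8) = true :=
  ⟨by decide +kernel, by decide +kernel⟩

theorem genG_val (w : List Nat) (hw : ∀ x ∈ w, x < 8) :
    psiK (permsK.val w) = (w.map genG).prod := by
  induction w with
  | nil => simp [Perms.val, wv]
  | cons x w ih =>
    obtain ⟨hx, hw'⟩ := List.forall_mem_cons.1 hw
    rw [show x :: w = [x] ++ w from rfl, Perms.val_append, map_mul, ih hw', List.map_append,
      List.prod_append, List.map_singleton, List.prod_singleton, genG, if_pos hx]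

theorem psiK_val (w : List Nat) (hw : ∀ x ∈ w, x < 8) : psiK (permsK.val w) = wv lgen w := by
  rw [genG_val w hw]
  unfold wv
  congr 1
  exact List.map_congr_left fun x hx => genG_lt x (hw x hx)

/-- the model of the enumeration -/
noncomputable def modelGK : Model GK.S GrpK GLy where
  M := permsK
  inj := k_faithful.1
  f := psiK
  T _ := tEdge
  comm := by
    intro e he k hk
    rw [edgesG_len] at he
    obtain rfl : e = 0 := by omega
    have hs := getD_lt edgeG_lt.1 k
    have hi := getD_lt edgeG_lt.2 k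
    rcases Bool.or_eq_true_iff.1 (allBelow_spec commG_ok k hk) with hk' | hk' <;>
      have h := prod_of_okKnown (g := genG) (by decide) genG_inv (lv lgen) imgG_val rz_prod hk'
    all_goals
      refine Eq.trans (congrArg (· * _) (genG_val _ hs)) ?_
      refine Eq.trans ?_ (congrArg (_ * ·) (genG_val _ hi)).symm
      simp only [List.map_append, List.prod_append, List.map_singleton, List.prod_singleton,
        prod_invW genG_inv _ (fun x hx => (hi x hx).trans (by norm_num)),
        show genG 8 = tEdge by simp [genG]] at h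
      have h6 := tEdge_sq
      generalize tEdge = t at h h6 ⊢
      generalize (List.map genG ((GK.S.edge 0).src.getD k [])).prod = u at h ⊢
      generalize (List.map genG ((GK.S.edge 0).img.getD k [])).prod = v at h ⊢
    · calc u * t = (u * t * v⁻¹ * t) * t⁻¹ * v := by group
        _ = t * v := by rw [h, inv_eq_of_mul_eq_one_left h6]; group
    · rw [show genG 1 = (genG 0)⁻¹ from genG_inv 0 (by norm_num)] at h
      generalize genG 0 = a at h
      have h2 : t * u * t * v⁻¹ = 1 := by
        have h3 : t * u * t * v⁻¹ = a⁻¹ * (a * t * u * t * v⁻¹ * a⁻¹) * a := by group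
        rw [h3, h]; group
      calc u * t = t⁻¹ * (t * u * t * v⁻¹) * v := by group
        _ = t * v := by rw [h2, inv_eq_of_mul_eq_one_left h6]; group
  gen' := genG
  gen'_lt := by
    intro x hx
    have : x < 8 := hx
    rw [genG, if_pos this]
    rfl
  gen'_let := by
    intro x hx hx'
    have h1 : 8 ≤ x := hx
    have h2 : x < 9 := hx'
    obtain rfl : x = 8 := by omega
    have : (GK.S.letE 8).2 = [] := by decide +kernel
    rw [this]
    simp [genG, Perms.val, wv]
  gen'_inv := fun x hx => genG_inv x hx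
  rels_eq := by
    intro r hr
    have h := List.all_eq_true.1 knownG_ok r hr
    simp only [Bool.or_eq_true, beq_iff_eq] at h
    rcases h with (rfl | rfl) | h
    · rfl
    · simpa [genG] using tEdge_sq
    · exact prod_of_okKnown (by decide) genG_inv (lv lgen) imgG_val rz_prod h
  gen_top := gen_top_k
  top := by
    set C := Subgroup.closure (Set.range psiK ∪ {q | ∃ e < GK.S.edges.length, tEdge = q})
    have h4 : ∀ k : Fin 5, lgen k ∈ C := by
      have hK : ∀ k : Fin 4, lgen k.castSucc ∈ C := fun k =>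
        Subgroup.subset_closure (Or.inl ⟨Grp.gen k, psiK_gen k⟩)
      have hT : tEdge ∈ C :=
        Subgroup.subset_closure (Or.inr ⟨0, by rw [edgesG_len]; exact Nat.one_pos, rfl⟩)
      intro k
      refine Fin.lastCases ?_ hK k
      have : lgen 4 = tEdge * (lgen 0)⁻¹ := by simp [tEdge]
      show lgen 4 ∈ C
      rw [this]
      exact mul_mem hT (inv_mem (hK 0))
    refine top_le_iff.1 ((PresentedGroup.closure_range_of _).symm.trans_le
      ((Subgroup.closure_le _).2 ?_))
    rintro _ ⟨g, rfl⟩
    show CfsgLib.KnownB.LyMult.gn g ∈ C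
    rw [CfsgLib.KnownB.LyMult.gn_eq_val g]
    obtain ⟨ha, hb, hc, hd, hz⟩ : lgen 0 ∈ C ∧ lgen 1 ∈ C ∧ lgen 2 ∈ C ∧ lgen 3 ∈ C ∧ lgen 4 ∈ C :=
      ⟨h4 0, h4 1, h4 2, h4 3, h4 4⟩
    simp only [lgen] at ha hb hc hd hz
    cases g <;> simp only [CfsgLib.KnownB.LyMult.val] <;>
      (repeat first
        | apply mul_mem
        | apply inv_mem
        | apply pow_mem
        | assumption)

theorem gk_edgeStab : EdgeStab modelGK := by
  refine EdgeStab.of_levels (N := modelGK) (fun _ => ⟨GK.E0L0.base, [], 0, .leaf 0, .leaf 0⟩)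
    (fun _ => GK.V0ws) (fun e he => ?_) (fun e he => ?_) fun _ _ => k_edgeStab
  all_goals rw [edgesG_len] at he; obtain rfl : e = 0 := by omega
  · decide +kernel
  · exact GK.v0_pairs

theorem gk_facts_ok : ∀ n < GK.facts.length, GK.S.okFact GK.facts n = true := by
  intro n hn
  have h : GK.facts.length = 108 := by decide +kernel
  rw [h] at hn
  rcases lt_or_ge n 9 with h0 | h0
  · exact okRange_get GK.facts_0 n (Nat.zero_le _) (by omega)
  rcases lt_or_ge n 18 with h1 | h1
  · exact okRange_get GK.facts_9 n (by omega) (by omega)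
  rcases lt_or_ge n 27 with h2 | h2
  · exact okRange_get GK.facts_18 n (by omega) (by omega)
  rcases lt_or_ge n 36 with h3 | h3
  · exact okRange_get GK.facts_27 n (by omega) (by omega)
  rcases lt_or_ge n 45 with h4 | h4
  · exact okRange_get GK.facts_36 n (by omega) (by omega)
  rcases lt_or_ge n 54 with h5 | h5
  · exact okRange_get GK.facts_45 n (by omega) (by omega)
  rcases lt_or_ge n 63 with h6 | h6
  · exact okRange_get GK.facts_54 n (by omega) (by omega)
  rcases lt_or_ge n 72 with h7 | h7
  · exact okRange_get GK.facts_63 n (by omega) (by omega)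
  rcases lt_or_ge n 81 with h8 | h8
  · exact okRange_get GK.facts_72 n (by omega) (by omega)
  rcases lt_or_ge n 90 with h9 | h9
  · exact okRange_get GK.facts_81 n (by omega) (by omega)
  rcases lt_or_ge n 99 with h10 | h10
  · exact okRange_get GK.facts_90 n (by omega) (by omega)
  exact okRange_get GK.facts_99 n (by omega) (by omega)

theorem gk_live_ok : ∀ L ∈ GK.lives, GK.S.okLive GK.facts L = true := by
  intro L hL
  simp only [GK.lives, List.mem_cons, List.not_mem_nil, or_false] at hL
  rcases hL with rfl | rfl | rfl | rfl | rfl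
  exacts [GK.live0_ok, GK.live1_ok, GK.live2_ok, GK.live3_ok, GK.live4_ok]

/-- the indices of the stabilisers of the five orbits -/
noncomputable def orbLen (L : Live) : Nat :=
  [1, 19530, 968750, 2034375, 5812500].getD (GK.lives.findIdx fun L' => Nat.beq L'.i L.i) 0

theorem gk_stab_index : ∀ L ∈ GK.lives,
    (liveStab modelGK GK.facts L).index ≤ orbLen L ∧ (liveStab modelGK GK.facts L).index ≠ 0 := by
  obtain ⟨hfin, -⟩ := gk_bound
  have hc := k_faithful.2
  intro L hL
  simp only [GK.lives, List.mem_cons, List.not_mem_nil, or_false] at hL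
  rcases hL with rfl | rfl | rfl | rfl | rfl
  · exact modelGK.stab_index GK.s0_pairs
      (le_trans (by decide +kernel : 5859000000 ≤ (GK.S0ls.map WLevel.len).prod)
        (k_sub_card GK.s0_els GK.S0ls GK.s0_levels GK.s0_gens))
      (by rw [hc]; decide +kernel)
  · exact modelGK.stab_index GK.s1_pairs
      (le_trans (by decide +kernel : 300000 ≤ (GK.S1ls.map WLevel.len).prod)
        (k_sub_card GK.s1_els GK.S1ls GK.s1_levels GK.s1_gens))
      (by rw [hc]; decide +kernel)
  · exact modelGK.stab_index GK.s2_pairs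
      (le_trans (by decide +kernel : 6048 ≤ (GK.S2ls.map WLevel.len).prod)
        (k_sub_card GK.s2_els GK.S2ls GK.s2_levels GK.s2_gens))
      (by rw [hc]; decide +kernel)
  · exact modelGK.stab_index GK.s3_pairs
      (le_trans (by decide +kernel : 2880 ≤ (GK.S3ls.map WLevel.len).prod)
        (k_sub_card GK.s3_els GK.S3ls GK.s3_levels GK.s3_gens))
      (by rw [hc]; decide +kernel)
  · exact modelGK.stab_index GK.s4_pairs
      (le_trans (by decide +kernel : 1008 ≤ (GK.S4ls.map WLevel.len).prod)
        (k_sub_card GK.s4_els GK.S4ls GK.s4_levels GK.s4_gens))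
      (by rw [hc]; decide +kernel)

theorem psiK_index_le : psiK.range.index ≤ 8835156 ∧ psiK.range.index ≠ 0 := by
  obtain ⟨hfin, -⟩ := gk_bound
  have h := index_le modelGK GK.setup_ok gk_facts_ok gk_edgeStab gk_live_ok GK.cover_ok orbLen
    gk_stab_index
  exact ⟨h.1.trans_eq (by decide +kernel), h.2⟩

theorem gly_bound : Finite GLy ∧ Nat.card GLy ≤ 8835156 * 5859000000 := by
  obtain ⟨hi, hi0⟩ := psiK_index_le
  obtain ⟨hfin, -⟩ := gk_bound
  have hr : Nat.card psiK.range ≤ 5859000000 :=
    (Nat.card_le_card_of_surjective _ psiK.rangeRestrict_surjective).trans k_faithful.2.le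
  have : Finite psiK.range := Finite.of_surjective _ psiK.rangeRestrict_surjective
  have e := psiK.range.card_mul_index
  have hne : Nat.card GLy ≠ 0 := by
    rw [← e]; exact Nat.mul_ne_zero (Nat.card_pos (α := psiK.range)).ne' hi0
  refine ⟨Nat.finite_of_card_ne_zero hne, ?_⟩
  rw [← e, mul_comm]
  exact Nat.mul_le_mul hi hr

end CfsgLib.Spor.Ly
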